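/-
Setting for S1914: a perfect group `A` of index two in `X`, an involution `t` outside `A`, and a
Sylow 2-subgroup `T` containing `t`, such that the 2-subgroups of `C_A(t)` are cyclic of order
at most four.
-/
import Mathlib
import Cfsg.Agent.Lib.Fusion.Alperin
import Cfsg.Agent.Lib.Fusion.Thompson
import Cfsg.Agent.S1241
import Cfsg.Agent.Lib.PGroups.Omega

set_option autoImplicit false
set_option linter.unusedSectionVars false

namespace Cfsg.Agent.Lib.InvFourCyclic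

open Subgroup

universe u

/-- The hypotheses of the main argument. -/
structure Setup (X : Type u) [Group X] where
  A : Subgroup X
  T : Subgroup X
  t : X
  s : X
  An : A.Normal
  hAX : A.index = 2
  perfect : commutator ↥A = ⊤
  tt : t * t = 1
  tA : t ∉ A
  tT : t ∈ T
  Tp : IsPGroup 2 T
  Tmax : ∀ P : Subgroup X, IsPGroup 2 P → T ≤ P → P = T
  Tmax' : ∀ P : Subgroup X, IsPGroup 2 P → P ≤ A → T ⊓ A ≤ P → P = T ⊓ A
  sT : s ∈ T
  sA : s ∈ A
  hs : orderOf s = 4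
  st : t * s = s * t
  small : ∀ P : Subgroup X, IsPGroup 2 P → P ≤ A → (∀ p ∈ P, t * p = p * t) →
    IsCyclic P ∧ Nat.card P ≤ 4

namespace Setup

variable {X : Type u} [Group X] [Finite X] (D : Setup X)

/-- The Sylow subgroup of `A`. -/
def S : Subgroup X := D.T ⊓ D.A

/-- The involution of `⟨s⟩`. -/
def z : X := D.s * D.s

theorem mem_S {x : X} : x ∈ D.S ↔ x ∈ D.T ∧ x ∈ D.A := Iff.rfl

theorem s_mem : D.s ∈ D.S := ⟨D.sT, D.sA⟩

theorem Sp : IsPGroup 2 D.S := D.Tp.to_le inf_le_left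

theorem S_le_A : D.S ≤ D.A := inf_le_right

theorem t_inv : D.t⁻¹ = D.t := inv_eq_of_mul_eq_one_right D.tt

theorem conjA (g : X) {a : X} (ha : a ∈ D.A) : g * a * g⁻¹ ∈ D.A := D.An.conj_mem a ha g

theorem conjA' (g : X) {a : X} (ha : a ∈ D.A) : g⁻¹ * a * g ∈ D.A := by
  simpa using D.conjA g⁻¹ ha

/-- `S` is normalized by `T`. -/
theorem conjS_mem {g x : X} (hg : g ∈ D.T) (hx : x ∈ D.S) : g * x * g⁻¹ ∈ D.S :=
  ⟨D.T.mul_mem (D.T.mul_mem hg hx.1) (D.T.inv_mem hg), D.conjA g hx.2⟩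

theorem tConj_mem {x : X} (hx : x ∈ D.S) : D.t * x * D.t ∈ D.S := by
  have := D.conjS_mem D.tT hx
  rwa [D.t_inv] at this

theorem tConj_mul (a b : X) : D.t * (a * b) * D.t = (D.t * a * D.t) * (D.t * b * D.t) := by
  calc D.t * (a * b) * D.t = D.t * a * (D.t * D.t) * b * D.t := by rw [D.tt]; group
    _ = _ := by group

theorem tConj_inv (a : X) : D.t * a⁻¹ * D.t = (D.t * a * D.t)⁻¹ := by
  rw [mul_inv_rev, mul_inv_rev, D.t_inv]; group

theorem tConj_zpow (a : X) (i : ℤ) : D.t * a ^ i * D.t = (D.t * a * D.t) ^ i := by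
  have h := (map_zpow (MulAut.conj D.t) a i)
  simp only [MulAut.conj_apply, D.t_inv] at h
  exact h

theorem tConj_tConj (a : X) : D.t * (D.t * a * D.t) * D.t = a := by
  calc D.t * (D.t * a * D.t) * D.t = D.t * D.t * a * (D.t * D.t) := by group
    _ = a := by rw [D.tt]; simp

theorem tConj_eq_iff {x : X} : D.t * x * D.t = x ↔ D.t * x = x * D.t := by
  constructor
  · intro h
    calc D.t * x = D.t * x * (D.t * D.t) := by rw [D.tt, mul_one]
      _ = D.t * x * D.t * D.t := by group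
      _ = x * D.t := by rw [h]
  · intro h
    rw [h, mul_assoc, D.tt, mul_one]

theorem z_ne : D.z ≠ 1 := fun h => by
  have h2 : orderOf D.s ∣ 2 := orderOf_dvd_of_pow_eq_one (by rw [pow_two]; exact h)
  rw [D.hs] at h2
  norm_num at h2

theorem zz : D.z * D.z = 1 := by
  have := pow_orderOf_eq_one D.s
  rw [D.hs, show (4 : ℕ) = 2 + 2 from rfl, pow_add, pow_two] at this
  exact this

theorem z_inv : D.z⁻¹ = D.z := inv_eq_of_mul_eq_one_right D.zz

theorem z_mem : D.z ∈ D.S := D.S.mul_mem D.s_mem D.s_mem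

theorem t_z : D.t * D.z = D.z * D.t := by
  unfold z; rw [← mul_assoc, D.st, mul_assoc, D.st, mul_assoc]

theorem tConj_s : D.t * D.s * D.t = D.s := D.tConj_eq_iff.2 D.st

theorem tConj_z : D.t * D.z * D.t = D.z := D.tConj_eq_iff.2 D.t_z

/-- The 2-subgroup `C_S(t)` is `⟨s⟩`. -/
theorem fixed_mem {x : X} (hx : x ∈ D.S) (h : D.t * x = x * D.t) : x ∈ zpowers D.s := by
  set P := D.S ⊓ centralizer ({D.t} : Set X) with hP
  have hle : zpowers D.s ≤ P :=
    zpowers_le.2 ⟨D.s_mem, mem_centralizer_singleton_iff.2 D.st.symm⟩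
  have h2 := D.small P (D.Sp.to_le inf_le_left) (inf_le_left.trans D.S_le_A)
    (fun p hp => (mem_centralizer_singleton_iff.1 hp.2).symm)
  have : zpowers D.s = P := eq_of_le_of_card_ge hle (by rw [Nat.card_zpowers, D.hs]; exact h2.2)
  rw [this]
  exact ⟨hx, mem_centralizer_singleton_iff.2 h.symm⟩

theorem zpowers_s_cases {x : X} (hx : x ∈ zpowers D.s) :
    x = 1 ∨ x = D.s ∨ x = D.z ∨ x = D.s * D.z := by
  obtain ⟨i, rfl⟩ := mem_zpowers_iff.1 hx
  have hz : D.s ^ (2 : ℤ) = D.z := zpow_two _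
  obtain ⟨l, rfl | rfl⟩ := Int.even_or_odd' i <;> obtain ⟨m, rfl | rfl⟩ := Int.even_or_odd' l
  · left
    rw [zpow_mul, hz, zpow_mul, zpow_two, D.zz, one_zpow]
  · right; right; left
    rw [zpow_mul, hz, zpow_add, zpow_mul, zpow_two, D.zz, one_zpow, one_mul, zpow_one]
  · right; left
    rw [zpow_add, zpow_mul, hz, zpow_mul, zpow_two, D.zz, one_zpow, one_mul, zpow_one]
  · right; right; right
    rw [zpow_add, zpow_mul, hz, zpow_add, zpow_mul, zpow_two, D.zz, one_zpow, one_mul, zpow_one,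
      zpow_one]
    rw [show D.z = D.s * D.s from rfl]; group

/-- An involution of `S` fixed by `t` is `z`. -/
theorem fixed_invol {x : X} (hx : x ∈ D.S) (h : D.t * x = x * D.t) (hxx : x * x = 1)
    (hx1 : x ≠ 1) : x = D.z := by
  rcases D.zpowers_s_cases (D.fixed_mem hx h) with h' | h' | h' | h'
  · exact absurd h' hx1
  · rw [h'] at hxx; exact absurd hxx D.z_ne
  · exact h'
  · exfalso
    apply D.z_ne
    have hc : Commute D.s D.z := (Commute.refl D.s).mul_right (Commute.refl D.s)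
    rw [h', show D.s * D.z * (D.s * D.z) = D.s * (D.z * D.s) * D.z by group, ← hc.eq,
      show D.s * (D.s * D.z) * D.z = D.s * D.s * (D.z * D.z) by group, D.zz, mul_one] at hxx
    exact hxx

theorem mem_T_cases {x : X} (hx : x ∈ D.T) : x ∈ D.S ∨ D.t * x ∈ D.S := by
  by_cases h : x ∈ D.A
  · exact Or.inl ⟨hx, h⟩
  · exact Or.inr ⟨D.T.mul_mem D.tT hx,
      (Subgroup.mul_mem_iff_of_index_two D.hAX).2 (iff_of_false D.tA h)⟩

theorem sq_mem_S {x : X} (hx : x ∈ D.T) : x * x ∈ D.S :=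
  ⟨D.T.mul_mem hx hx, Subgroup.mul_self_mem_of_index_two D.hAX x⟩

/-- A 2-element normalizing `S` inside `A` lies in `S`. -/
theorem mem_S_of_normalize {n : X} (hnA : n ∈ D.A) (hn : IsPGroup 2 (zpowers n))
    (hN : n ∈ normalizer (D.S : Set X)) : n ∈ D.S := by
  have h1 : IsPGroup 2 ↥(zpowers n ⊔ D.S) :=
    IsPGroup.to_sup_of_normal_right' hn D.Sp (zpowers_le.2 hN)
  have := D.Tmax' _ h1 (sup_le (zpowers_le.2 hnA) D.S_le_A) (le_sup_right (a := zpowers n))
  have h3 : n ∈ zpowers n ⊔ D.S := mem_sup_left (mem_zpowers n)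
  rw [this] at h3
  exact h3

/-- Extremal conjugation: if `w` is central in `S`, an `A`-conjugate `u ∈ S` of `w` can be moved
to `w` so that `C_S(u)` is moved into `S`. -/
theorem extremal {u w g : X} (hwS : w ∈ D.S) (hw : ∀ x ∈ D.S, x * w = w * x)
    (hg : g ∈ D.A) (hgu : g * u * g⁻¹ = w) :
    ∃ n ∈ D.A, n * u * n⁻¹ = w ∧ ∀ x ∈ D.S, x * u = u * x → n * x * n⁻¹ ∈ D.S := by
  haveI : Fact (Nat.Prime 2) := ⟨Nat.prime_two⟩
  have hN : D.S ≤ D.A ⊓ centralizer ({w} : Set X) :=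
    fun x hx => ⟨hx.2, mem_centralizer_singleton_iff.2 (hw x hx)⟩
  set Q := (D.S ⊓ centralizer ({u} : Set X)).map (MulAut.conj g).toMonoidHom with hQ
  have hQp : IsPGroup 2 Q := (D.Sp.to_le inf_le_left).map _
  have hQN : Q ≤ D.A ⊓ centralizer ({w} : Set X) := by
    rintro _ ⟨x, hx, rfl⟩
    refine ⟨D.conjA g hx.1.2, mem_centralizer_singleton_iff.2 ?_⟩
    have hc : Commute x u := mem_centralizer_singleton_iff.1 hx.2
    simp only [MulEquiv.coe_toMonoidHom, MulAut.conj_apply]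
    rw [← hgu]
    exact ((Commute.conj_iff g).2 hc).eq
  obtain ⟨c, hc, hcQ⟩ := Fusion.Alperin.exists_conj_le_of_maximal D.Sp hN
    (fun U hU hUN hSU => D.Tmax' U hU (hUN.trans inf_le_left) hSU) hQp hQN
  refine ⟨c * g, D.A.mul_mem hc.1 hg, ?_, fun x hx hxu => ?_⟩
  · have h' := mem_centralizer_singleton_iff.1 hc.2
    calc c * g * u * (c * g)⁻¹ = c * (g * u * g⁻¹) * c⁻¹ := by group
      _ = w := by rw [hgu, h', mul_inv_cancel_right]
  · apply hcQ
    rw [Fusion.Alperin.mem_conjS]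
    refine ⟨x, ⟨hx, mem_centralizer_singleton_iff.2 hxu⟩, ?_⟩
    simp only [MulEquiv.coe_toMonoidHom, MulAut.conj_apply]
    group

/-- Two elements of `Z(S)` that are `A`-conjugate are conjugate in `N_A(S)`. -/
theorem burnside {u w g : X} (hu : ∀ x ∈ D.S, x * u = u * x) (hwS : w ∈ D.S)
    (hw : ∀ x ∈ D.S, x * w = w * x) (hg : g ∈ D.A) (hgu : g * u * g⁻¹ = w) :
    ∃ n ∈ D.A, n ∈ normalizer (D.S : Set X) ∧ n * u * n⁻¹ = w := by
  obtain ⟨n, hn, hnu, hnS⟩ := D.extremal hwS hw hg hgu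
  refine ⟨n, hn, ?_, hnu⟩
  refine Fusion.Alperin.mem_normalizer_of_conjS_eq ?_
  refine eq_of_le_of_card_ge ?_ (Fusion.Alperin.card_conjS n D.S).ge
  intro x hx
  rw [Fusion.Alperin.mem_conjS] at hx
  have := hnS _ hx (hu _ hx)
  rwa [show n * (n⁻¹ * x * n) * n⁻¹ = x by group] at this

/-- No element of `N_A(S)` interchanges two elements centralized by `S`. -/
theorem no_swap {n u w : X} (hn : n ∈ D.A) (hN : n ∈ normalizer (D.S : Set X))
    (hu : ∀ x ∈ D.S, x * u = u * x) (h1 : n * u * n⁻¹ = w) (h2 : n * w * n⁻¹ = u) : u = w := by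
  obtain ⟨e, m, hm, he⟩ : ∃ e m : ℕ, Odd m ∧ orderOf n = 2 ^ e * m := by
    obtain ⟨e, m, hm, he⟩ := Nat.exists_eq_two_pow_mul_odd (orderOf_pos n).ne'
    exact ⟨e, m, hm, he⟩
  obtain ⟨l, rfl⟩ := hm
  have hmem : n ^ (2 * l + 1) ∈ D.S := by
    refine D.mem_S_of_normalize (D.A.pow_mem hn _) ?_ (Subgroup.pow_mem _ hN _)
    refine IsPGroup.of_card (n := e) ?_
    rw [Nat.card_zpowers, orderOf_pow' _ (by omega), he, Nat.gcd_mul_left_left,
      Nat.mul_div_cancel _ (by omega)]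
  have hc : Commute (n * n) u := by
    show n * n * u = u * (n * n)
    calc n * n * u = n * (n * u * n⁻¹) * n := by group
      _ = n * w * n⁻¹ * (n * n) := by rw [h1]; group
      _ = u * (n * n) := by rw [h2]
  have hc' : Commute (n ^ (2 * l)) u := by
    rw [pow_mul, pow_two]; exact hc.pow_left l
  have h3 : Commute (n ^ (2 * l + 1)) u := hu _ hmem
  rw [pow_succ] at h3
  have h4 : Commute n u := by
    have := hc'.inv_left.mul_left h3
    rwa [inv_mul_cancel_left] at this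
  rw [← h1, h4.eq, mul_inv_cancel_right]

/-- A homomorphism from `A` to a commutative group is trivial, in the form of the transfer
criterion S1241. -/
theorem transfer_false (K : Subgroup X) (hKS : K ≤ D.S)
    (hKn : ∀ k ∈ K, ∀ x ∈ D.S, x * k * x⁻¹ ∈ K)
    (hab : ∀ x ∈ D.S, ∀ y ∈ D.S, x * y * x⁻¹ * y⁻¹ ∈ K)
    {g : X} (hgS : g ∈ D.S) (hgK : g ∉ K)
    (hctrl : ∀ (m : ℤ) (a : X), a ∈ D.A → a * g ^ m * a⁻¹ ∈ D.S →
      (a * g ^ m * a⁻¹) * (g ^ m)⁻¹ ∈ K) : False := by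
  haveI : Fact (Nat.Prime 2) := ⟨Nat.prime_two⟩
  let Hs : Subgroup ↥D.A := D.S.subgroupOf D.A
  let Ks : Subgroup ↥D.A := K.subgroupOf D.A
  have hidx : Nat.Coprime 2 Hs.index := by
    have hHp : IsPGroup 2 Hs := D.Sp.comap_subtype
    obtain ⟨Q, hQ⟩ := hHp.exists_le_sylow
    have hQm : (Q : Subgroup ↥D.A).map D.A.subtype = D.S := by
      refine D.Tmax' _ (Q.2.map _) (map_subtype_le _) ?_
      intro x hx
      exact ⟨⟨x, hx.2⟩, hQ (mem_subgroupOf.2 hx), rfl⟩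
    have hQe : (Q : Subgroup ↥D.A) = Hs := by
      refine le_antisymm (fun x hx => mem_subgroupOf.2 ?_) hQ
      rw [← hQm]; exact ⟨x, hx, rfl⟩
    rw [← hQe]
    exact (Nat.Prime.coprime_iff_not_dvd Nat.prime_two).2 Q.not_dvd_index
  have h := S1241.result (p := 2) Hs Ks
    (fun x hx => mem_subgroupOf.2 (hKS (mem_subgroupOf.1 hx)))
    ⟨fun k hk x => by
      simp only [Ks, Hs, mem_subgroupOf] at hk ⊢
      exact hKn _ hk _ (mem_subgroupOf.1 x.2)⟩
    (fun x hx y hy => mem_subgroupOf.2 (hab _ (mem_subgroupOf.1 hx) _ (mem_subgroupOf.1 hy)))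
    hidx ⟨g, hgS.2⟩ (mem_subgroupOf.2 hgS) (fun h' => hgK (mem_subgroupOf.1 h'))
    (by
      obtain ⟨k, hk⟩ := IsPGroup.iff_orderOf.1 D.Sp ⟨g, hgS⟩
      exact ⟨k, by rw [← hk, Subgroup.orderOf_mk, Subgroup.orderOf_mk]⟩)
    (fun m a ha => by
      refine mem_subgroupOf.2 ?_
      have h2 := mem_subgroupOf.1 ha
      simp only [Subgroup.coe_mul, Subgroup.coe_inv, SubgroupClass.coe_zpow] at h2 ⊢
      exact hctrl m a a.2 h2)
  exact h (by rw [D.perfect]; exact Subgroup.mem_top _)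

/-- Thompson transfer in `A`: an involution `g ∈ S` outside a subgroup `M` of index two of `S`
has a conjugate in `M`. -/
theorem fused_into (M : Subgroup X) (hMS : M ≤ D.S) {r : X}
    (hcases : ∀ x ∈ D.S, x ∈ M ∨ r * x ∈ M) {g : X} (hgS : g ∈ D.S) (hgg : g * g = 1)
    (hgM : g ∉ M) :
    ∃ a ∈ D.A, a * g * a⁻¹ ∈ M := by
  by_contra hcon
  push Not at hcon
  have hone : ∀ x ∈ D.S, x ∉ M → ∀ y ∈ D.S, y ∉ M → x⁻¹ * y ∈ M := fun x hx hxM y hy hyM => by
    have h1 := M.mul_mem (M.inv_mem ((hcases x hx).resolve_left hxM))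
      ((hcases y hy).resolve_left hyM)
    rwa [show (r * x)⁻¹ * (r * y) = x⁻¹ * y by group] at h1
  have hone' : ∀ x ∈ D.S, x ∉ M → ∀ y ∈ D.S, y ∉ M → x * y ∈ M := fun x hx hxM y hy hyM => by
    have := hone x⁻¹ (D.S.inv_mem hx) (fun h => hxM (inv_inv x ▸ M.inv_mem h)) y hy hyM
    rwa [inv_inv] at this
  have hnorm : ∀ k ∈ M, ∀ x ∈ D.S, x * k * x⁻¹ ∈ M := fun k hk x hx => by
    by_cases hxM : x ∈ M
    · exact M.mul_mem (M.mul_mem hxM hk) (M.inv_mem hxM)
    · refine hone' (x * k) (D.S.mul_mem hx (hMS hk)) (fun h => hxM ?_) x⁻¹ (D.S.inv_mem hx)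
        (fun h => hxM (inv_inv x ▸ M.inv_mem h))
      simpa using M.mul_mem h (M.inv_mem hk)
  refine D.transfer_false M hMS hnorm ?_ hgS hgM fun m a ha hmem => ?_
  · intro x hx y hy
    by_cases hyM : y ∈ M
    · exact M.mul_mem (hnorm y hyM x hx) (M.inv_mem hyM)
    · by_cases h : x * y * x⁻¹ ∈ M
      · exfalso
        apply hyM
        have := hnorm _ h x⁻¹ (D.S.inv_mem hx)
        rwa [show x⁻¹ * (x * y * x⁻¹) * x⁻¹⁻¹ = y by group] at this
      · exact hone' _ (D.S.mul_mem (D.S.mul_mem hx hy) (D.S.inv_mem hx)) h _ (D.S.inv_mem hy)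
          (fun h' => hyM (inv_inv y ▸ M.inv_mem h'))
  · obtain ⟨l, rfl | rfl⟩ := Int.even_or_odd' m
    · rw [zpow_mul, zpow_two, hgg, one_zpow]; simp
    · have hg' : g ^ (2 * l + 1) = g := by
        rw [zpow_add, zpow_mul, zpow_two, hgg, one_zpow, one_mul, zpow_one]
      rw [hg'] at hmem ⊢
      exact hone' _ hmem (hcon a ha) _ (D.S.inv_mem hgS) (fun h => hgM (inv_inv g ▸ M.inv_mem h))

/-- In a 2-group, a strictly larger normal subgroup contains an element lying over a central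
involution of the factor group. -/
theorem exists_step {N K : Subgroup X} (hNT : N ≤ D.T) (hKN : K < N)
    (hN : ∀ g ∈ D.T, ∀ x ∈ N, g * x * g⁻¹ ∈ N) (hK : ∀ g ∈ D.T, ∀ x ∈ K, g * x * g⁻¹ ∈ K) :
    ∃ y ∈ N, y ∉ K ∧ y * y ∈ K ∧ ∀ g ∈ D.T, g * y * g⁻¹ * y⁻¹ ∈ K := by
  haveI : Fact (Nat.Prime 2) := ⟨Nat.prime_two⟩
  let Kt := K.subgroupOf D.T
  haveI hKn : Kt.Normal := ⟨fun x hx g => mem_subgroupOf.2 (hK g g.2 x (mem_subgroupOf.1 hx))⟩
  let q := QuotientGroup.mk' Kt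
  have hq : Function.Surjective q := QuotientGroup.mk'_surjective _
  have hp : IsPGroup 2 (↥D.T ⧸ Kt) := D.Tp.of_surjective q hq
  let Nb := (N.subgroupOf D.T).map q
  have hNn : Nb.Normal :=
    Subgroup.Normal.map ⟨fun x hx g => mem_subgroupOf.2 (hN g g.2 x (mem_subgroupOf.1 hx))⟩ q hq
  have hne : Nb ≠ ⊥ := by
    obtain ⟨x, hxN, hxK⟩ := SetLike.exists_of_lt hKN
    intro h
    have : q ⟨x, hNT hxN⟩ ∈ Nb := mem_map_of_mem q (mem_subgroupOf.2 hxN)
    rw [h, mem_bot, QuotientGroup.mk'_apply, QuotientGroup.eq_one_iff] at this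
    exact hxK (mem_subgroupOf.1 this)
  haveI := hNn
  have hne2 : Nb ⊓ Subgroup.center (↥D.T ⧸ Kt) ≠ ⊥ := by
    exact PGroups.normal_inf_center_ne_bot hp Nb hne
  haveI : Nontrivial ↥(Nb ⊓ Subgroup.center (↥D.T ⧸ Kt)) :=
    (Subgroup.nontrivial_iff_ne_bot _).2 hne2
  obtain ⟨⟨e, heN, hec⟩, he⟩ := exists_prime_orderOf_dvd_card'
    (G := ↥(Nb ⊓ Subgroup.center (↥D.T ⧸ Kt))) 2 (by
      obtain ⟨n, hn, hc⟩ := (hp.to_subgroup (Nb ⊓ Subgroup.center (↥D.T ⧸ Kt))).nontrivial_iff_card.1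
        inferInstance
      rw [hc]; exact dvd_pow_self 2 hn.ne')
  replace he : orderOf e = 2 := by
    rw [← he]
    exact orderOf_injective (Nb ⊓ Subgroup.center (↥D.T ⧸ Kt)).subtype Subtype.coe_injective
      ⟨e, heN, hec⟩
  obtain ⟨y, hy, rfl⟩ := heN
  refine ⟨y, mem_subgroupOf.1 hy, fun h => ?_, ?_, fun g hg => ?_⟩
  · have : q y = 1 := (QuotientGroup.eq_one_iff y).2 (mem_subgroupOf.2 h)
    rw [this, orderOf_one] at he
    norm_num at he
  · have : q (y * y) = 1 := by rw [map_mul, ← pow_two, ← he, pow_orderOf_eq_one]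
    exact mem_subgroupOf.1 ((QuotientGroup.eq_one_iff _).1 this)
  · have : q (⟨g, hg⟩ * y * ⟨g, hg⟩⁻¹ * y⁻¹) = 1 := by
      rw [map_mul, map_mul, map_mul, map_inv, map_inv, mem_center_iff.1 hec (q ⟨g, hg⟩)]
      group
    exact mem_subgroupOf.1 ((QuotientGroup.eq_one_iff _).1 this)

end Setup

end Cfsg.Agent.Lib.InvFourCyclic
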