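/-
The factor group `T/U` for an invariant four-group `U = ⟨z, v⟩` of `S`.
-/
import Cfsg.Agent.Lib.InvFourCyclic.Basic
import Cfsg.Agent.S3224

set_option autoImplicit false
set_option linter.unusedSectionVars false

namespace Cfsg.Agent.Lib.InvFourCyclic

open Subgroup

universe u

/-- An invariant four-subgroup `{1, z, v, vz}` of `S`. -/
structure Four {X : Type u} [Group X] (D : Setup X) (v : X) : Prop where
  vS : v ∈ D.S
  vv : v * v = 1
  v1 : v ≠ 1
  vnz : v ≠ D.z
  tv : D.t * v * D.t = v * D.z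
  zc : ∀ g ∈ D.T, g * D.z = D.z * g
  vconj : ∀ g ∈ D.T, g * v * g⁻¹ = v ∨ g * v * g⁻¹ = v * D.z

namespace Four

variable {X : Type u} [Group X] [Finite X] {D : Setup X} {v : X} (F : Four D v)
include F

theorem v_z : v * D.z = D.z * v := F.zc v F.vS.1

theorem v_inv : v⁻¹ = v := inv_eq_of_mul_eq_one_right F.vv

theorem vz_sq : v * D.z * (v * D.z) = 1 := by
  calc v * D.z * (v * D.z) = v * (D.z * v) * D.z := by group
    _ = v * v * (D.z * D.z) := by rw [← F.v_z]; group
    _ = 1 := by rw [F.vv, D.zz, one_mul]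

theorem vz_ne_one : v * D.z ≠ 1 := fun h =>
  F.vnz (by rw [eq_inv_of_mul_eq_one_left h, D.z_inv])

theorem vz_ne_v : v * D.z ≠ v := fun h => D.z_ne (mul_eq_left.1 h)

theorem vz_ne_z : v * D.z ≠ D.z := fun h => F.v1 (mul_eq_right.1 h)

/-- The four-group with the other generator. -/
theorem flip : Four D (v * D.z) where
  vS := D.S.mul_mem F.vS D.z_mem
  vv := F.vz_sq
  v1 := F.vz_ne_one
  vnz := F.vz_ne_z
  tv := by rw [D.tConj_mul, F.tv, D.tConj_z]
  zc := F.zc
  vconj := fun g hg => by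
    have hz : g * D.z * g⁻¹ = D.z := by rw [F.zc g hg, mul_inv_cancel_right]
    have h : g * (v * D.z) * g⁻¹ = g * v * g⁻¹ * (g * D.z * g⁻¹) := by group
    rw [h, hz]
    rcases F.vconj g hg with h' | h' <;> rw [h']
    · exact Or.inl rfl
    · exact Or.inr rfl

/-- The four-group itself. -/
def U : Subgroup X where
  carrier := {x | x = 1 ∨ x = D.z ∨ x = v ∨ x = v * D.z}
  one_mem' := Or.inl rfl
  mul_mem' := by
    intro a b ha hb
    simp only [Set.mem_setOf_eq] at ha hb ⊢
    have e1 : D.z * (v * D.z) = v := by rw [← mul_assoc, ← F.v_z, mul_assoc, D.zz, mul_one]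
    have e2 : v * (v * D.z) = D.z := by rw [← mul_assoc, F.vv, one_mul]
    have e3 : v * D.z * D.z = v := by rw [mul_assoc, D.zz, mul_one]
    have e4 : v * D.z * v = D.z := by rw [mul_assoc, ← F.v_z, ← mul_assoc, F.vv, one_mul]
    have e5 : D.z * v = v * D.z := F.v_z.symm
    rcases ha with rfl | rfl | rfl | rfl <;> rcases hb with rfl | rfl | rfl | rfl <;>
      simp [D.zz, F.vv, F.vz_sq, e1, e2, e3, e4, e5]
  inv_mem' := by
    intro a ha
    simp only [Set.mem_setOf_eq] at ha ⊢
    rcases ha with rfl | rfl | rfl | rfl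
    · simp
    · exact Or.inr (Or.inl D.z_inv)
    · exact Or.inr (Or.inr (Or.inl F.v_inv))
    · exact Or.inr (Or.inr (Or.inr (inv_eq_of_mul_eq_one_right F.vz_sq)))

theorem mem_U {x : X} : x ∈ F.U ↔ x = 1 ∨ x = D.z ∨ x = v ∨ x = v * D.z := Iff.rfl

theorem one_U : (1 : X) ∈ F.U := F.U.one_mem

theorem z_U : D.z ∈ F.U := Or.inr (Or.inl rfl)

theorem v_U : v ∈ F.U := Or.inr (Or.inr (Or.inl rfl))

theorem U_le : F.U ≤ D.S := by
  rintro x (rfl | rfl | rfl | rfl)
  · exact D.S.one_mem
  · exact D.z_mem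
  · exact F.vS
  · exact D.S.mul_mem F.vS D.z_mem

theorem U_sq {x : X} (hx : x ∈ F.U) : x * x = 1 := by
  rcases hx with rfl | rfl | rfl | rfl
  · simp
  · exact D.zz
  · exact F.vv
  · exact F.vz_sq

theorem U_inv {x : X} (hx : x ∈ F.U) : x⁻¹ = x := inv_eq_of_mul_eq_one_right (F.U_sq hx)

theorem U_comm {a b : X} (ha : a ∈ F.U) (hb : b ∈ F.U) : a * b = b * a := by
  rw [← F.U_inv (F.U.mul_mem ha hb), mul_inv_rev, F.U_inv ha, F.U_inv hb]

theorem U_norm {g x : X} (hg : g ∈ D.T) (hx : x ∈ F.U) : g * x * g⁻¹ ∈ F.U := by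
  rcases hx with rfl | rfl | rfl | rfl
  · simp
  · rw [F.zc g hg, mul_inv_cancel_right]; exact F.z_U
  · rcases F.vconj g hg with h | h <;> rw [h]
    · exact F.v_U
    · exact Or.inr (Or.inr (Or.inr rfl))
  · rcases F.flip.vconj g hg with h | h <;> rw [h]
    · exact Or.inr (Or.inr (Or.inr rfl))
    · rw [mul_assoc, D.zz, mul_one]; exact F.v_U

theorem U_tfix {x : X} (hx : x ∈ F.U) (h : D.t * x * D.t = x) : x = 1 ∨ x = D.z := by
  rcases hx with rfl | rfl | rfl | rfl
  · exact Or.inl rfl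
  · exact Or.inr rfl
  · rw [F.tv] at h; exact absurd h F.vz_ne_v
  · rw [F.flip.tv] at h; exact absurd h F.flip.vz_ne_v

/-- An element centralizes `U` as soon as it centralizes `v`. -/
theorem comm_U {g x : X} (hg : g ∈ D.T) (h : g * v = v * g) (hx : x ∈ F.U) : g * x = x * g := by
  have hz : Commute g D.z := F.zc g hg
  rcases hx with rfl | rfl | rfl | rfl
  · simp
  · exact hz
  · exact h
  · exact ((show Commute g v from h).mul_right hz).eq

/-- Elements of `S` fixed by `t` modulo `U`. -/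
theorem fix_mod {y : X} (hy : y ∈ D.S) (h : y⁻¹ * (D.t * y * D.t) ∈ F.U) :
    y ∈ F.U ∨ ∃ u ∈ F.U, y = D.s * u := by
  set d := y⁻¹ * (D.t * y * D.t) with hd
  have hfix : D.t * d * D.t = d := by
    conv_rhs => rw [← F.U_inv h]
    rw [hd, D.tConj_mul, D.tConj_inv, D.tConj_tConj]
    group
  have hs : ∀ w ∈ zpowers D.s, w ∈ F.U ∨ ∃ u ∈ F.U, w = D.s * u := by
    intro w hw
    rcases D.zpowers_s_cases hw with rfl | rfl | rfl | rfl
    · exact Or.inl F.one_U
    · exact Or.inr ⟨1, F.one_U, (mul_one _).symm⟩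
    · exact Or.inl F.z_U
    · exact Or.inr ⟨D.z, F.z_U, rfl⟩
  rcases F.U_tfix h hfix with h1 | h1
  · refine hs y (D.fixed_mem hy (D.tConj_eq_iff.1 ?_))
    rw [hd, inv_mul_eq_one] at h1
    exact h1.symm
  · have hyv : D.t * (y * v) * D.t = y * v := by
      rw [hd, inv_mul_eq_iff_eq_mul] at h1
      rw [D.tConj_mul, h1, F.tv, mul_assoc, ← mul_assoc D.z, ← F.v_z, mul_assoc v, D.zz, mul_one]
    rcases hs _ (D.fixed_mem (D.S.mul_mem hy F.vS) (D.tConj_eq_iff.1 hyv)) with h2 | ⟨u, hu, h2⟩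
    · left
      have := F.U.mul_mem h2 F.v_U
      rwa [mul_assoc, F.vv, mul_one] at this
    · refine Or.inr ⟨u * v, F.U.mul_mem hu F.v_U, ?_⟩
      rw [← mul_assoc, ← h2, mul_assoc, F.vv, mul_one]

theorem s_notMem : D.s ∉ F.U := fun h => D.z_ne (F.U_sq h)

theorem S_U_T : F.U ≤ D.T := fun _ hx => (F.U_le hx).1

/-- The Frattini argument in `N(U)`. -/
theorem frattini {g : X} (hg : ∀ x ∈ F.U, g * x * g⁻¹ ∈ F.U) :
    ∃ g₁ : X, (∀ x ∈ F.U, g₁ * x * g₁⁻¹ = g * x * g⁻¹) ∧
      ∀ r ∈ D.T, (∀ x ∈ F.U, r * x = x * r) →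
        g₁ * r * g₁⁻¹ ∈ D.T ∧ ∀ x ∈ F.U, g₁ * r * g₁⁻¹ * x = x * (g₁ * r * g₁⁻¹) := by
  haveI : Fact (Nat.Prime 2) := ⟨Nat.prime_two⟩
  set C : Subgroup X := centralizer (F.U : Set X) with hC
  set R := D.T ⊓ C with hR
  have hTN : D.T ≤ normalizer (F.U : Set X) := fun t' ht' =>
    Fusion.Alperin.mem_normalizer_of_conjS_eq (eq_of_le_of_card_ge (fun x hx => by
      rw [Fusion.Alperin.mem_conjS] at hx
      have := F.U_norm ht' hx
      rwa [show t' * (t'⁻¹ * x * t') * t'⁻¹ = x by group] at this)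
      (Fusion.Alperin.card_conjS t' F.U).ge)
  have hCN : ∀ n ∈ normalizer (F.U : Set X), ∀ c ∈ C, n * c * n⁻¹ ∈ C := by
    intro n hn c hc
    rw [hC, mem_centralizer_iff] at hc ⊢
    intro x hx
    have h1 : n⁻¹ * x * n ∈ F.U := by
      have := (mem_normalizer_iff.1 (inv_mem hn) x).1 hx
      rwa [inv_inv] at this
    have h2 := hc _ h1
    calc x * (n * c * n⁻¹) = n * (n⁻¹ * x * n * c) * n⁻¹ := by group
      _ = n * (c * (n⁻¹ * x * n)) * n⁻¹ := by rw [h2]
      _ = n * c * n⁻¹ * x := by group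
  have hgn : g ∈ normalizer (F.U : Set X) :=
    Fusion.Alperin.mem_normalizer_of_conjS_eq (eq_of_le_of_card_ge (fun x hx => by
      rw [Fusion.Alperin.mem_conjS] at hx
      have := hg _ hx
      rwa [show g * (g⁻¹ * x * g) * g⁻¹ = x by group] at this)
      (Fusion.Alperin.card_conjS g F.U).ge).symm.symm
  have hRmax : ∀ P : Subgroup X, IsPGroup 2 P → P ≤ C → R ≤ P → P = R := by
    intro P hP hPC hRP
    obtain ⟨n, hn, hnP⟩ := Fusion.Alperin.exists_conj_le_of_maximal D.Tp hTN
      (fun Q hQ _ hTQ => D.Tmax Q hQ hTQ) hP (fun x hx => by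
        refine mem_normalizer_iff.2 fun a => ⟨fun ha => ?_, fun ha => ?_⟩
        · rw [← mem_centralizer_iff.1 (hPC hx) a ha, mul_inv_cancel_right]; exact ha
        · have h2 := mem_centralizer_iff.1 (hPC hx) _ ha
          have : x * a * x⁻¹ = a := by
            rw [inv_mul_cancel_right] at h2
            exact (mul_left_cancel (a := x) h2.symm)
          rwa [this] at ha)
    refine (eq_of_le_of_card_ge hRP ?_).symm
    rw [← Fusion.Alperin.card_conjS n P]
    refine Subgroup.card_le_of_le fun x hx => ⟨hnP hx, ?_⟩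
    rw [Fusion.Alperin.mem_conjS] at hx
    have := hCN n hn _ (hPC hx)
    rwa [show n * (n⁻¹ * x * n) * n⁻¹ = x by group] at this
  have hgR : R.map (MulAut.conj g).toMonoidHom ≤ C := by
    rintro _ ⟨r, hr, rfl⟩
    exact hCN g hgn r hr.2
  obtain ⟨c, hc, hcR⟩ := Fusion.Alperin.exists_conj_le_of_maximal (D.Tp.to_le inf_le_left)
    (inf_le_right : R ≤ C) hRmax ((D.Tp.to_le (inf_le_left : R ≤ D.T)).map _) hgR
  refine ⟨c * g, fun x hx => ?_, fun r hr hrU => ?_⟩
  · have h2 := mem_centralizer_iff.1 hc _ (hg x hx)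
    calc c * g * x * (c * g)⁻¹ = c * (g * x * g⁻¹) * c⁻¹ := by group
      _ = _ := by rw [← h2, mul_inv_cancel_right]
  · have hm : c * g * r * (c * g)⁻¹ ∈ R := by
      apply hcR
      rw [Fusion.Alperin.mem_conjS]
      refine ⟨r, ⟨hr, mem_centralizer_iff.2 fun x hx => (hrU x hx).symm⟩, ?_⟩
      simp only [MulEquiv.coe_toMonoidHom, MulAut.conj_apply]
      group
    exact ⟨hm.1, fun x hx => (mem_centralizer_iff.1 hm.2 x hx).symm⟩

/-- `s` centralizes `U`. -/
theorem s_comm : D.s * v = v * D.s := by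
  haveI : Fact (Nat.Prime 2) := ⟨Nat.prime_two⟩
  by_contra hne
  have hsv : D.s * v * D.s⁻¹ = v * D.z := by
    refine (F.vconj D.s D.sT).resolve_left fun h => hne ?_
    exact mul_inv_eq_iff_eq_mul.1 h
  have hUC : ∀ x ∈ F.U, x * v = v * x := fun x hx => F.U_comm hx F.v_U
  -- `C_S(v) = U`
  have hS0 : ∀ x ∈ D.S, x * v = v * x → x ∈ F.U := by
    set N := D.S ⊓ centralizer ({v} : Set X) with hN
    intro x hx hxv
    by_contra hxU
    have hUN : F.U ≤ N := fun a ha => ⟨F.U_le ha, mem_centralizer_singleton_iff.2 (hUC a ha)⟩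
    obtain ⟨y, hyN, hyU, -, hyc⟩ := D.exists_step (inf_le_left.trans inf_le_left)
      (lt_of_le_of_ne hUN fun h => hxU (h ▸ ⟨hx, mem_centralizer_singleton_iff.2 hxv⟩))
      (fun g hg a ha => ⟨D.conjS_mem hg ha.1, mem_centralizer_singleton_iff.2 (by
        have hc : Commute a v := mem_centralizer_singleton_iff.1 ha.2
        have h1 : Commute (g * a * g⁻¹) (g * v * g⁻¹) := (Commute.conj_iff g).2 hc
        have hz : Commute (g * a * g⁻¹) D.z := F.zc _ (D.conjS_mem hg ha.1).1
        rcases F.vconj g hg with h | h <;> rw [h] at h1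
        · exact h1
        · have h3 : Commute (g * a * g⁻¹) (v * D.z * D.z) := h1.mul_right hz
          rw [mul_assoc v, D.zz, mul_one] at h3
          exact h3)⟩)
      (fun g hg a ha => F.U_norm hg ha)
    have h1 := hyc D.t D.tT
    rw [D.t_inv] at h1
    have h2 : y⁻¹ * (D.t * y * D.t) ∈ F.U := by
      have := F.U_norm (g := y⁻¹) (D.T.inv_mem hyN.1.1) h1
      rwa [show y⁻¹ * (D.t * y * D.t * y⁻¹) * y⁻¹⁻¹ = y⁻¹ * (D.t * y * D.t) by group] at this
    rcases F.fix_mod hyN.1 h2 with h3 | ⟨u, hu, rfl⟩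
    · exact hyU h3
    · apply hne
      have h4 : Commute (D.s * u) v := mem_centralizer_singleton_iff.1 hyN.2
      have h5 : Commute (D.s * u * u⁻¹) v :=
        h4.mul_left (show Commute u v from hUC u hu).inv_left
      rwa [mul_inv_cancel_right] at h5
  have hS : ∀ x ∈ D.S, x ∈ F.U ∨ ∃ u ∈ F.U, x = D.s * u := by
    intro x hx
    rcases F.vconj x hx.1 with h | h
    · exact Or.inl (hS0 x hx (mul_inv_eq_iff_eq_mul.1 h))
    · refine Or.inr ⟨D.s⁻¹ * x, hS0 _ (D.S.mul_mem (D.S.inv_mem D.s_mem) hx) ?_, by group⟩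
      calc D.s⁻¹ * x * v = D.s⁻¹ * (x * v * x⁻¹) * x := by group
        _ = D.s⁻¹ * (D.s * v * D.s⁻¹) * x := by rw [h, hsv]
        _ = v * (D.s⁻¹ * x) := by group
  have hsz : ∀ u ∈ F.U, ∃ j : ℤ, u = D.s ^ j ∨ u = v * D.s ^ j := by
    rintro u (rfl | rfl | rfl | rfl)
    · exact ⟨0, Or.inl (by simp)⟩
    · exact ⟨2, Or.inl (zpow_two _).symm⟩
    · exact ⟨0, Or.inr (by simp)⟩
    · exact ⟨2, Or.inr (by rw [zpow_two]; rfl)⟩
  -- `v` is conjugate to `z`
  obtain ⟨a, haA, ha⟩ := D.fused_into (zpowers D.s) (zpowers_le.2 D.s_mem) (r := v)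
    (fun x hx => by
      rcases hS x hx with hu | ⟨u, hu, rfl⟩
      · obtain ⟨j, rfl | rfl⟩ := hsz x hu
        · exact Or.inl (zpow_mem (mem_zpowers _) j)
        · right; rw [← mul_assoc, F.vv, one_mul]; exact zpow_mem (mem_zpowers _) j
      · obtain ⟨j, rfl | rfl⟩ := hsz u hu
        · exact Or.inl (mul_mem (mem_zpowers _) (zpow_mem (mem_zpowers _) j))
        · right
          rw [show v * (D.s * (v * D.s ^ j)) = v * (D.s * v * D.s⁻¹) * (D.s * D.s ^ j) by group,
            hsv, ← mul_assoc v, F.vv, one_mul]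
          exact mul_mem (mul_mem (mem_zpowers _) (mem_zpowers _))
            (mul_mem (mem_zpowers _) (zpow_mem (mem_zpowers _) j)))
    F.vS F.vv (fun h => by
      rcases D.zpowers_s_cases h with h | h | h | h
      · exact F.v1 h
      · exact hne (by rw [h])
      · exact F.vnz h
      · apply hne
        rw [h]
        exact ((Commute.refl D.s).mul_right
          ((Commute.refl D.s).mul_right (Commute.refl D.s))).eq)
  have haz : a * v * a⁻¹ = D.z := by
    have h2 : a * v * a⁻¹ * (a * v * a⁻¹) = 1 := by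
      rw [show a * v * a⁻¹ * (a * v * a⁻¹) = a * (v * v) * a⁻¹ by group, F.vv]; simp
    rcases D.zpowers_s_cases ha with h | h | h | h
    · exact absurd (conj_eq_one_iff.1 h) F.v1
    · rw [h] at h2; exact absurd h2 D.z_ne
    · exact h
    · rw [h] at h2
      exfalso
      apply D.z_ne
      rwa [show D.s * D.z * (D.s * D.z) = D.s * (D.z * D.s) * D.z by group,
        ← F.zc D.s D.sT, show D.s * (D.s * D.z) * D.z = D.s * D.s * (D.z * D.z) by group,
        D.zz, mul_one] at h2
  obtain ⟨n, hnA, hnv, hnS⟩ := D.extremal D.z_mem (fun x hx => F.zc x hx.1) haA haz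
  -- a Sylow subgroup of `C_A(v)` normalizing `U`
  set P := D.S.map (MulAut.conj n⁻¹).toMonoidHom with hP
  have hPmem : ∀ {x : X}, x ∈ P ↔ n * x * n⁻¹ ∈ D.S := by
    intro x
    constructor
    · rintro ⟨a, ha', rfl⟩
      simp only [MulEquiv.coe_toMonoidHom, MulAut.conj_apply]
      rwa [show n * (n⁻¹ * a * n⁻¹⁻¹) * n⁻¹ = a by group]
    · intro h
      exact ⟨_, h, by simp only [MulEquiv.coe_toMonoidHom, MulAut.conj_apply]; group⟩
  have hUP : F.U ≤ P := fun x hx => hPmem.2 (hnS x (F.U_le hx) (hUC x hx))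
  have hidx : (F.U.subgroupOf P).index = 2 := by
    have h1 : Nat.card P = Nat.card D.S :=
      Subgroup.card_map_of_injective (MulAut.conj n⁻¹).injective
    have hidxS : (F.U.subgroupOf D.S).index = 2 := by
      rw [index_eq_two_iff]
      refine ⟨⟨D.s, D.s_mem⟩, fun ⟨b, hb⟩ => ?_⟩
      simp only [mem_subgroupOf, Subgroup.coe_mul]
      rcases hS b hb with hbU | ⟨u, hu, rfl⟩
      · refine Or.inr ⟨hbU, fun h => F.s_notMem ?_⟩
        simpa using F.U.mul_mem (F.U.inv_mem hbU) h
      · refine Or.inl ⟨?_, fun h => F.s_notMem ?_⟩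
        · have h3 := F.U_norm D.sT hu
          rw [show D.s * u * D.s = D.s * u * D.s⁻¹ * (D.s * D.s) by group]
          exact F.U.mul_mem h3 F.z_U
        · simpa using F.U.mul_mem h (F.U.inv_mem hu)
    have h2 := (F.U.subgroupOf P).card_mul_index
    have h3 := (F.U.subgroupOf D.S).card_mul_index
    rw [Nat.card_congr (subgroupOfEquivOfLe hUP).toEquiv, h1, ← h3,
      Nat.card_congr (subgroupOfEquivOfLe F.U_le).toEquiv, hidxS] at h2
    exact Nat.eq_of_mul_eq_mul_left Nat.card_pos h2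
  have hPU : ∀ p ∈ P, ∀ x ∈ F.U, p * x * p⁻¹ ∈ F.U := by
    intro p hp x hx
    have := (Subgroup.normal_of_index_eq_two hidx).conj_mem ⟨x, hUP hx⟩ (mem_subgroupOf.2 hx)
      ⟨p, hp⟩
    simpa [mem_subgroupOf] using this
  obtain ⟨p, hp, hpz⟩ : ∃ p ∈ P, p * D.z * p⁻¹ ≠ D.z := by
    by_contra hcon
    push Not at hcon
    have hle : P ≤ D.A := fun x hx => by
      have := D.conjA' n (hPmem.1 hx).2
      rwa [show n⁻¹ * (n * x * n⁻¹) * n = x by group] at this
    -- `P` centralizes `U`, so it is conjugate into `C_S(U) = U`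
    have hpv : ∀ x ∈ P, x * v = v * x := fun x hx => by
      have h1 := F.zc _ (hPmem.1 hx).1
      rw [← hnv] at h1
      calc x * v = n⁻¹ * (n * x * n⁻¹ * (n * v * n⁻¹)) * n := by group
        _ = n⁻¹ * (n * v * n⁻¹ * (n * x * n⁻¹)) * n := by rw [h1]
        _ = v * x := by group
    have hNA : D.S ≤ D.A ⊓ normalizer (F.U : Set X) := fun x hx => ⟨hx.2,
      Fusion.Alperin.mem_normalizer_of_conjS_eq (eq_of_le_of_card_ge (fun a ha' => by
        rw [Fusion.Alperin.mem_conjS] at ha'
        have := F.U_norm hx.1 ha'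
        rwa [show x * (x⁻¹ * a * x) * x⁻¹ = a by group] at this)
        (Fusion.Alperin.card_conjS x F.U).ge)⟩
    have hPN : P ≤ D.A ⊓ normalizer (F.U : Set X) := fun x hx => ⟨hle hx,
      Fusion.Alperin.mem_normalizer_of_conjS_eq (eq_of_le_of_card_ge (fun a ha' => by
        rw [Fusion.Alperin.mem_conjS] at ha'
        have := hPU x hx _ ha'
        rwa [show x * (x⁻¹ * a * x) * x⁻¹ = a by group] at this)
        (Fusion.Alperin.card_conjS x F.U).ge)⟩
    obtain ⟨c, hc, hcP⟩ := Fusion.Alperin.exists_conj_le_of_maximal D.Sp hNA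
      (fun Q hQ hQN hSQ => D.Tmax' Q hQ (hQN.trans inf_le_left) hSQ) (D.Sp.map _) hPN
    have hcU : ∀ x ∈ P, c * x * c⁻¹ ∈ F.U := fun x hx => by
      refine hS0 _ (hcP (Fusion.Alperin.mem_conjS.2 ?_)) ?_
      · rwa [show c⁻¹ * (c * x * c⁻¹) * c = x by group]
      · have hv' : c⁻¹ * v * c ∈ F.U := by
          have := (mem_normalizer_iff.1 (inv_mem hc.2) v).1 F.v_U
          rwa [inv_inv] at this
        have hzx : x * D.z = D.z * x := mul_inv_eq_iff_eq_mul.1 (hcon x hx)
        have hxU : ∀ a ∈ F.U, x * a = a * x := by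
          rintro a (rfl | rfl | rfl | rfl)
          · simp
          · exact hzx
          · exact hpv x hx
          · exact ((show Commute x v from hpv x hx).mul_right hzx).eq
        calc c * x * c⁻¹ * v = c * (x * (c⁻¹ * v * c)) * c⁻¹ := by group
          _ = c * (c⁻¹ * v * c * x) * c⁻¹ := by rw [hxU _ hv']
          _ = v * (c * x * c⁻¹) := by group
    have h1 : Nat.card P ≤ Nat.card F.U := by
      rw [← Fusion.Alperin.card_conjS c P]
      refine Subgroup.card_le_of_le fun x hx => ?_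
      have := hcU _ (Fusion.Alperin.mem_conjS.1 hx)
      rwa [show c * (c⁻¹ * x * c) * c⁻¹ = x by group] at this
    have h2 := (F.U.subgroupOf P).card_mul_index
    rw [hidx, Nat.card_congr (subgroupOfEquivOfLe hUP).toEquiv] at h2
    have h3 : 0 < Nat.card F.U := Nat.card_pos
    omega
  obtain ⟨g₁, hg₁, hg₁R⟩ := F.frattini (hPU p hp)
  -- the elements of `C_T(U)` outside `U` square to `z`
  have hsq : ∀ r ∈ D.T, (∀ x ∈ F.U, r * x = x * r) → r * r = 1 ∨ r * r = D.z := by
    intro r hr hrU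
    rcases D.mem_T_cases hr with hrS | htr
    · exact Or.inl (F.U_sq (hS0 r hrS (hrU v F.v_U)))
    · rcases hS _ htr with h | ⟨u, hu, h⟩
      · exfalso
        have h1 : D.t * r * v * (D.t * r)⁻¹ = v := by
          rw [hUC _ h, mul_inv_cancel_right]
        rw [show D.t * r * v * (D.t * r)⁻¹ = D.t * (r * v * r⁻¹) * D.t⁻¹ by group,
          show r * v * r⁻¹ = v by rw [hrU v F.v_U, mul_inv_cancel_right], D.t_inv, F.tv] at h1
        exact F.vz_ne_v h1
      · right
        have hr' : r = D.t * D.s * u := by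
          rw [mul_assoc, ← h, ← mul_assoc, D.tt, one_mul]
        rw [hr']
        have hc : D.t * D.s * u = u * (D.t * D.s) := by
          have := hrU u hu
          rw [hr'] at this
          exact mul_right_cancel (this.trans (mul_assoc _ _ _).symm)
        calc D.t * D.s * u * (D.t * D.s * u) = D.t * D.s * (u * (D.t * D.s)) * u := by group
          _ = D.t * D.s * D.t * D.s * (u * u) := by rw [← hc]; group
          _ = D.z := by rw [D.tConj_s, F.U_sq hu, mul_one]; rfl
  have hts : ∀ x ∈ F.U, D.t * D.s * x = x * (D.t * D.s) := fun x hx =>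
    F.comm_U (D.T.mul_mem D.tT D.sT) (by
      calc D.t * D.s * v = D.t * (D.s * v * D.s⁻¹) * (D.t * D.t) * D.s := by rw [D.tt]; group
        _ = D.t * (D.s * v * D.s⁻¹) * D.t * (D.t * D.s) := by group
        _ = v * (D.t * D.s) := by
          rw [hsv, F.flip.tv, mul_assoc v, D.zz, mul_one]) hx
  obtain ⟨hm, hmU⟩ := hg₁R _ (D.T.mul_mem D.tT D.sT) hts
  have e : D.t * D.s * (D.t * D.s) = D.z := by
    rw [show D.t * D.s * (D.t * D.s) = D.t * D.s * D.t * D.s by group, D.tConj_s]; rfl
  have e' : g₁ * (D.t * D.s) * g₁⁻¹ * (g₁ * (D.t * D.s) * g₁⁻¹) = p * D.z * p⁻¹ := by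
    rw [← hg₁ _ F.z_U, ← e]; group
  rcases hsq _ hm hmU with h | h <;> rw [e'] at h
  · exact D.z_ne (conj_eq_one_iff.1 h)
  · exact hpz h

/-- Every element of `C_S(v)` centralizes `U`; `s` does so. -/
theorem s_comm_U {x : X} (hx : x ∈ F.U) : D.s * x = x * D.s := F.comm_U D.sT F.s_comm hx

theorem sU_sq {u : X} (hu : u ∈ F.U) : D.s * u * (D.s * u) = D.z := by
  calc D.s * u * (D.s * u) = D.s * (u * D.s) * u := by group
    _ = D.s * D.s * (u * u) := by rw [← F.s_comm_U hu]; group
    _ = D.z := by rw [F.U_sq hu, mul_one]; rfl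

/-- Products with elements of `U` modulo `U`. -/
theorem mul_zpow_mod {g u : X} (hg : g ∈ D.T) (hu : u ∈ F.U) (l : ℤ) :
    ∃ u' ∈ F.U, (g * u) ^ l = g ^ l * u' := by
  let Ut := F.U.subgroupOf D.T
  haveI : Ut.Normal := ⟨fun x hx y => mem_subgroupOf.2 (F.U_norm y.2 (mem_subgroupOf.1 hx))⟩
  let q := QuotientGroup.mk' Ut
  let gu : D.T := ⟨g * u, D.T.mul_mem hg (F.S_U_T hu)⟩
  let g' : D.T := ⟨g, hg⟩
  have hq : q (g' ^ l) = q (gu ^ l) := by
    rw [map_zpow, map_zpow]
    congr 1
    show QuotientGroup.mk g' = QuotientGroup.mk gu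
    rw [QuotientGroup.eq, mem_subgroupOf]
    simpa [g', gu] using hu
  rw [QuotientGroup.mk'_apply, QuotientGroup.mk'_apply, QuotientGroup.eq, mem_subgroupOf] at hq
  refine ⟨_, hq, ?_⟩
  simp [g', gu]

end Four

/-- A generator `k` of a subgroup of index two over `U`. -/
structure Gen {X : Type u} [Group X] [Finite X] {D : Setup X} {v : X} (F : Four D v) (k : X) :
    Prop where
  kT : k ∈ D.T
  cases : ∀ g ∈ D.T, ∃ i : ℤ, ∃ u ∈ F.U, g = k ^ i * u ∨ g = D.t * k ^ i * u
  t_ne : ∀ i : ℤ, ∀ u ∈ F.U, D.t ≠ k ^ i * u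
  invol : ∀ i : ℤ, k ^ i ∉ F.U → k ^ (2 * i) ∈ F.U → ∃ u ∈ F.U, k ^ i = D.s * u

theorem Four.exists_gen {X : Type u} [Group X] [Finite X] {D : Setup X} {v : X} (F : Four D v) :
    ∃ k, Gen F k := by
  classical
  let Ut := F.U.subgroupOf D.T
  haveI : Ut.Normal := ⟨fun x hx y => mem_subgroupOf.2 (F.U_norm y.2 (mem_subgroupOf.1 hx))⟩
  let q := QuotientGroup.mk' Ut
  have hq : Function.Surjective q := QuotientGroup.mk'_surjective _
  have hQp : IsPGroup 2 (↥D.T ⧸ Ut) := D.Tp.of_surjective q hq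
  let t' : D.T := ⟨D.t, D.tT⟩
  let s' : D.T := ⟨D.s, D.sT⟩
  have hU : ∀ {a : D.T}, q a = 1 ↔ (a : X) ∈ F.U := fun {a} =>
    (QuotientGroup.eq_one_iff a).trans mem_subgroupOf
  have hqU : ∀ {a b : D.T}, q a = q b ↔ (a : X)⁻¹ * b ∈ F.U := fun {a b} => by
    rw [QuotientGroup.mk'_apply, QuotientGroup.mk'_apply, QuotientGroup.eq, mem_subgroupOf]; rfl
  have hdvd : ∀ {x : X}, x ∈ F.U → x ∈ D.A := fun hx => (F.U_le hx).2
  have ht1 : q t' ≠ 1 := fun h => D.tA (hdvd (hU.1 h))
  have hs1 : q s' ≠ 1 := fun h => F.s_notMem (hU.1 h)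
  have hts : q t' ≠ q s' := fun h => D.tA (by
    have := hdvd (hqU.1 h.symm)
    simpa [s', t'] using D.A.mul_mem D.sA this)
  have hts1 : q t' * q s' ≠ 1 := fun h => D.tA (by
    rw [← map_mul] at h
    simpa [s', t'] using D.A.mul_mem (hdvd (hU.1 h)) (D.A.inv_mem D.sA))
  have ht2 : q t' * q t' = 1 := by
    rw [← map_mul, hU]; show D.t * D.t ∈ F.U; rw [D.tt]; exact F.one_U
  have hs2 : q s' * q s' = 1 := by rw [← map_mul, hU]; exact F.z_U
  have hcts : q t' * q s' = q s' * q t' := by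
    rw [← map_mul, ← map_mul]; congr 1; exact Subtype.ext D.st
  have hcen : (centralizer ({q t'} : Set (↥D.T ⧸ Ut)) : Set _) = {1, q t', q s', q t' * q s'} := by
    ext a
    simp only [SetLike.mem_coe, mem_centralizer_singleton_iff, Set.mem_insert_iff,
      Set.mem_singleton_iff]
    constructor
    · intro ha
      obtain ⟨y, rfl⟩ := hq a
      have key : ∀ y : D.T, (y : X) ∈ D.S → q y * q t' = q t' * q y → q y = 1 ∨ q y = q s' := by
        intro y hyS hy
        rw [← map_mul, ← map_mul, hqU] at hy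
        have h2 : (y : X)⁻¹ * (D.t * y * D.t) ∈ F.U := by
          have h3 := F.U_norm D.tT hy
          simp only [t', Subgroup.coe_mul, D.t_inv] at h3
          rwa [show D.t * (((y : X) * D.t)⁻¹ * (D.t * y)) * D.t
              = D.t * D.t⁻¹ * ((y : X)⁻¹ * (D.t * y * D.t)) by group, mul_inv_cancel, one_mul] at h3
        rcases F.fix_mod hyS h2 with h | ⟨u, hu, h⟩
        · exact Or.inl (hU.2 h)
        · refine Or.inr (hqU.2 ?_)
          rw [h]
          have := F.U.inv_mem hu
          simpa [s', mul_assoc] using this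
      rcases D.mem_T_cases y.2 with hy | hy
      · rcases key y hy ha with h | h <;> tauto
      · have : q (t' * y) * q t' = q t' * q (t' * y) := by
          rw [map_mul, mul_assoc, ha]
        rcases key (t' * y) hy this with h | h <;> rw [map_mul] at h
        · right; left
          calc q y = q t' * q t' * q y := by rw [ht2, one_mul]
            _ = q t' := by rw [mul_assoc, h, mul_one]
        · right; right; right
          calc q y = q t' * q t' * q y := by rw [ht2, one_mul]
            _ = q t' * q s' := by rw [mul_assoc, h]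
    · rintro (rfl | rfl | rfl | rfl)
      · simp
      · rfl
      · exact hcts.symm
      · rw [mul_assoc, ← hcts]
  have h4 : Nat.card (centralizer ({q t'} : Set (↥D.T ⧸ Ut))) = 4 := by
    show Nat.card ↥((centralizer ({q t'} : Set (↥D.T ⧸ Ut))) : Set (↥D.T ⧸ Ut)) = 4
    rw [hcen, Nat.card_coe_set_eq, Set.ncard_insert_of_notMem, Set.ncard_insert_of_notMem,
      Set.ncard_insert_of_notMem, Set.ncard_singleton]
    · simp only [Set.mem_singleton_iff]
      intro h; exact ht1 (mul_eq_right.1 h.symm)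
    · simp only [Set.mem_insert_iff, Set.mem_singleton_iff]
      rintro (h | h)
      · exact hts h
      · exact hs1 (mul_eq_left.1 h.symm)
    · simp only [Set.mem_insert_iff, Set.mem_singleton_iff]
      rintro (h | h | h)
      · exact ht1 h.symm
      · exact hs1 h.symm
      · exact hts1 h.symm
  -- a cyclic subgroup of index two containing the image of `s` and not that of `t`
  obtain ⟨C, hCc, hC2, htC, hsC⟩ : ∃ C : Subgroup (↥D.T ⧸ Ut),
      IsCyclic C ∧ C.index = 2 ∧ q t' ∉ C ∧ q s' ∈ C := by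
    haveI : Fact (Nat.Prime 2) := ⟨Nat.prime_two⟩
    by_cases hcard : Nat.card (↥D.T ⧸ Ut) = 4
    · refine ⟨zpowers (q s'), inferInstance, ?_, ?_, mem_zpowers _⟩
      · have h := (zpowers (q s')).card_mul_index
        rw [hcard, Nat.card_zpowers, orderOf_eq_prime (by rw [pow_two, hs2]) hs1] at h
        omega
      · intro h
        rw [mem_zpowers_iff] at h
        obtain ⟨i, hi⟩ := h
        obtain ⟨l, rfl | rfl⟩ := Int.even_or_odd' i
        · rw [zpow_mul, zpow_two, hs2, one_zpow] at hi; exact ht1 hi.symm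
        · rw [zpow_add, zpow_mul, zpow_two, hs2, one_zpow, one_mul, zpow_one] at hi
          exact hts hi.symm
    have hto : orderOf (q t') = 2 := orderOf_eq_prime (by rw [pow_two, ht2]) ht1
    obtain ⟨C, hCc, hC2⟩ : ∃ C : Subgroup (↥D.T ⧸ Ut), IsCyclic C ∧ C.index = 2 := by
      rcases S3224.result hQp (q t') hto h4 with ⟨n, ⟨e⟩⟩ | ⟨n, hn, hc, a, b, ha, -, -⟩ | h
      · refine ⟨zpowers (e.symm (DihedralGroup.r 1)), inferInstance, ?_⟩
        have h := (zpowers (e.symm (DihedralGroup.r 1))).card_mul_index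
        rw [Nat.card_congr e.toEquiv, DihedralGroup.nat_card, Nat.card_zpowers,
          MulEquiv.orderOf_eq, DihedralGroup.orderOf_r_one] at h
        have hn : 0 < n := by
          rcases Nat.eq_zero_or_pos n with rfl | hn
          · exfalso
            have h' := Nat.card_congr e.toEquiv
            rw [DihedralGroup.nat_card] at h'
            exact Nat.card_pos.ne' h'
          · exact hn
        exact Nat.eq_of_mul_eq_mul_left hn (by omega)
      · refine ⟨zpowers a, inferInstance, ?_⟩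
        have h := (zpowers a).card_mul_index
        rw [hc, Nat.card_zpowers, ha, pow_succ] at h
        exact Nat.eq_of_mul_eq_mul_left (by positivity) h
      · exact absurd h hcard
    haveI : C.Normal := normal_of_index_eq_two hC2
    have huniq : ∀ a ∈ C, ∀ b ∈ C, a * a = 1 → b * b = 1 → a ≠ 1 → b ≠ 1 → a = b := by
      intro a ha b hb ha2 hb2 ha1 hb1
      by_contra hab
      have := Fintype.ofFinite C
      have hle := IsCyclic.card_pow_eq_one_le (α := C) (n := 2) (by norm_num)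
      have hsub : ({1, ⟨a, ha⟩, ⟨b, hb⟩} : Finset C) ⊆
          Finset.univ.filter (fun c : C => c ^ 2 = 1) := by
        intro c hc
        simp only [Finset.mem_insert, Finset.mem_singleton] at hc
        rw [Finset.mem_filter]
        refine ⟨Finset.mem_univ _, ?_⟩
        rcases hc with rfl | rfl | rfl
        · simp
        · exact Subtype.ext (by simpa [pow_two] using ha2)
        · exact Subtype.ext (by simpa [pow_two] using hb2)
      have h3 := (Finset.card_le_card hsub).trans hle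
      rw [Finset.card_insert_of_notMem (by simp [Subtype.ext_iff, Ne.symm ha1, Ne.symm hb1]),
        Finset.card_insert_of_notMem (by simp [Subtype.ext_iff, hab]), Finset.card_singleton] at h3
      omega
    have htC : q t' ∉ C := by
      intro h
      have hCle : C ≤ centralizer ({q t'} : Set (↥D.T ⧸ Ut)) := fun a ha => by
        rw [mem_centralizer_singleton_iff]
        exact congrArg Subtype.val (IsCyclic.commGroup.mul_comm (⟨a, ha⟩ : C) ⟨_, h⟩)
      have h5 := C.card_mul_index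
      rw [hC2] at h5
      obtain ⟨m, hm⟩ := IsPGroup.iff_card.1 hQp
      have h6 : C = centralizer ({q t'} : Set (↥D.T ⧸ Ut)) := by
        refine eq_of_le_of_card_ge hCle ?_
        rw [h4]
        have h7 := Subgroup.card_le_of_le (le_top : centralizer ({q t'} : Set (↥D.T ⧸ Ut)) ≤ ⊤)
        rw [Subgroup.card_top, h4] at h7
        rcases m with _ | _ | _ | m
        · omega
        · omega
        · omega
        · have : 8 ≤ Nat.card (↥D.T ⧸ Ut) := by
            rw [hm, pow_succ, pow_succ, pow_succ]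
            have := Nat.one_le_two_pow (n := m)
            omega
          omega
      have hsC : q s' ∈ C := by rw [h6, mem_centralizer_singleton_iff]; exact hcts.symm
      exact hts (huniq _ h _ hsC ht2 hs2 ht1 hs1)
    refine ⟨C, hCc, hC2, htC, ?_⟩
    by_contra hsC
    have hc : q t' * q s' ∈ C := (mul_mem_iff_of_index_two hC2).2 (iff_of_false htC hsC)
    have hcc : q t' * q s' * (q t' * q s') = 1 := by
      rw [mul_assoc, ← mul_assoc (q s'), ← hcts, mul_assoc (q t') (q s'), hs2, mul_one, ht2]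
    have hcentral : ∀ g, g * (q t' * q s') = q t' * q s' * g := fun g => by
      have h1 := huniq _ (‹C.Normal›.conj_mem _ hc g) _ hc
        (by rw [show g * (q t' * q s') * g⁻¹ * (g * (q t' * q s') * g⁻¹) =
          g * (q t' * q s' * (q t' * q s')) * g⁻¹ by group, hcc]; simp) hcc
        (fun h => hts1 (conj_eq_one_iff.1 h)) hts1
      exact mul_inv_eq_iff_eq_mul.1 h1
    -- the image of `s` is central
    obtain ⟨y, hyS, hyU, -, hyc⟩ := D.exists_step (N := D.S) (K := F.U) inf_le_left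
      (lt_of_le_of_ne F.U_le fun h => F.s_notMem (h.symm ▸ D.s_mem))
      (fun g hg a ha => D.conjS_mem hg ha) (fun g hg a ha => F.U_norm hg ha)
    have h2 : y⁻¹ * (D.t * y * D.t) ∈ F.U := by
      have h1 := hyc D.t D.tT
      rw [D.t_inv] at h1
      have := F.U_norm (g := y⁻¹) (D.T.inv_mem hyS.1) h1
      rwa [show y⁻¹ * (D.t * y * D.t * y⁻¹) * y⁻¹⁻¹ = y⁻¹ * (D.t * y * D.t) by group] at this
    obtain ⟨u, hu, rfl⟩ := (F.fix_mod hyS h2).resolve_left hyU
    have hscent : ∀ g, g * q s' = q s' * g := by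
      intro g
      obtain ⟨g, rfl⟩ := hq g
      let y' : D.T := ⟨D.s * u, hyS.1⟩
      have hy' : q y' = q s' := hqU.2 (by simpa [y', s'] using F.U.inv_mem hu)
      rw [← hy', ← mul_inv_eq_iff_eq_mul, ← map_inv, ← map_mul, ← map_mul, ← mul_inv_eq_one,
        ← map_inv, ← map_mul, hU]
      simpa [y'] using hyc g g.2
    apply hcard
    have htop : centralizer ({q t'} : Set (↥D.T ⧸ Ut)) = ⊤ := by
      refine eq_top_iff.2 fun g _ => mem_centralizer_singleton_iff.2 ?_
      have h1 : Commute g (q t' * q s') := hcentral g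
      have h2 : Commute g (q s') := hscent g
      have h3 : Commute g (q t' * q s' * (q s')⁻¹) := h1.mul_right h2.inv_right
      rwa [mul_inv_cancel_right] at h3
    rw [← h4, htop, Subgroup.card_top]
  obtain ⟨c, hc⟩ := C.isCyclic_iff_exists_zpowers_eq_top.1 hCc
  obtain ⟨k, rfl⟩ := hq c
  have hk : ∀ i : ℤ, ∀ g : D.T, q g = q k ^ i → ∃ u ∈ F.U, (g : X) = (k : X) ^ i * u := by
    intro i g h
    refine ⟨((k : X) ^ i)⁻¹ * g, ?_, by group⟩
    rw [← map_zpow] at h
    simpa using hqU.1 h.symm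
  refine ⟨k, k.2, fun g hg => ?_, fun i u hu h => htC ?_, fun i hi hi2 => ?_⟩
  · by_cases hgC : q ⟨g, hg⟩ ∈ C
    · rw [← hc, mem_zpowers_iff] at hgC
      obtain ⟨i, hi⟩ := hgC
      obtain ⟨u, hu, h⟩ := hk i ⟨g, hg⟩ hi.symm
      exact ⟨i, u, hu, Or.inl h⟩
    · have h1 : q (t' * ⟨g, hg⟩) ∈ C := by
        rw [map_mul]; exact (mul_mem_iff_of_index_two hC2).2 (iff_of_false htC hgC)
      rw [← hc, mem_zpowers_iff] at h1
      obtain ⟨i, hi⟩ := h1
      obtain ⟨u, hu, h⟩ := hk i _ hi.symm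
      refine ⟨i, u, hu, Or.inr ?_⟩
      simp only [t', Subgroup.coe_mul] at h
      rw [mul_assoc, ← h, ← mul_assoc, D.tt, one_mul]
  · rw [← hc, mem_zpowers_iff]
    refine ⟨i, ?_⟩
    rw [← map_zpow, hqU]
    simpa [t', h] using hu
  · have hmem : q k ^ i ∈ C := hc ▸ zpow_mem (mem_zpowers _) i
    have h1 : q k ^ i ≠ 1 := fun h => hi (by rw [← map_zpow, hU] at h; simpa using h)
    have h2 : q k ^ i * q k ^ i = 1 := by
      rw [← zpow_add, ← map_zpow, hU]; simpa [two_mul] using hi2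
    have huniq : q k ^ i = q s' := by
      by_contra hne
      have := Fintype.ofFinite C
      haveI := hCc
      have hle := IsCyclic.card_pow_eq_one_le (α := C) (n := 2) (by norm_num)
      have hsub : ({1, ⟨_, hmem⟩, ⟨_, hsC⟩} : Finset C) ⊆
          Finset.univ.filter (fun c : C => c ^ 2 = 1) := by
        intro a ha
        simp only [Finset.mem_insert, Finset.mem_singleton] at ha
        rw [Finset.mem_filter]
        refine ⟨Finset.mem_univ _, ?_⟩
        rcases ha with rfl | rfl | rfl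
        · simp
        · exact Subtype.ext (by rw [pow_two]; exact h2)
        · exact Subtype.ext (by rw [pow_two]; exact hs2)
      have h3 := (Finset.card_le_card hsub).trans hle
      rw [Finset.card_insert_of_notMem (by simp [Subtype.ext_iff, Ne.symm h1, Ne.symm hs1]),
        Finset.card_insert_of_notMem (by simp [Subtype.ext_iff, hne]), Finset.card_singleton] at h3
      omega
    rw [← map_zpow] at huniq
    refine ⟨D.s⁻¹ * (k : X) ^ i, ?_, by group⟩
    simpa [s'] using hqU.1 huniq.symm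

end Cfsg.Agent.Lib.InvFourCyclic
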