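/-
`S` has an involution outside the invariant four-group: `S` is `D × 2` or `D ∘ 4` with `D`
dihedral, and both contradict the perfectness of `A`.
-/
import Cfsg.Agent.Lib.InvFourCyclic.Quot

set_option autoImplicit false
set_option linter.unusedSectionVars false

namespace Cfsg.Agent.Lib.InvFourCyclic

open Subgroup

universe u

variable {X : Type u} [Group X] [Finite X] {D : Setup X}

/-- In a 2-group, an odd power of an element modulo `U` recovers the element. -/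
theorem Four.odd_zpow_mem {v : X} (F : Four D v) {g : X} (hg : g ∈ D.T) {i : ℤ} (hi : Odd i)
    (h : g ^ i ∈ F.U) : g ∈ F.U := by
  obtain ⟨n, hn⟩ := IsPGroup.iff_orderOf.1 D.Tp ⟨g, hg⟩
  rw [Subgroup.orderOf_mk] at hn
  have hco : IsCoprime i ((2 : ℤ) ^ n) := by
    refine IsCoprime.pow_right ?_
    obtain ⟨c, rfl⟩ := hi
    exact ⟨1, -c, by ring⟩
  obtain ⟨a, b, hab⟩ := hco
  have : g = (g ^ i) ^ a * (g ^ ((2 : ℤ) ^ n)) ^ b := by
    rw [← zpow_mul, ← zpow_mul, ← zpow_add, show i * a + 2 ^ n * b = 1 by linarith, zpow_one]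
  rw [this]
  refine F.U.mul_mem (F.U.zpow_mem h a) (F.U.zpow_mem ?_ b)
  rw [show ((2 : ℤ) ^ n) = ((2 ^ n : ℕ) : ℤ) by push_cast; rfl, zpow_natCast, ← hn,
    pow_orderOf_eq_one]
  exact F.one_U

/-- The data of case B: `c` generates modulo `U`, inverted by `t` and `x`. -/
structure CaseB {v : X} (F : Four D v) (x c : X) : Prop where
  xS : x ∈ D.S
  cS : c ∈ D.S
  xx : x * x = 1
  cases : ∀ g ∈ D.S, ∃ i : ℤ, g = c ^ i ∨ g = c ^ i * v ∨ g = x * c ^ i ∨ g = x * c ^ i * v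
  tc : D.t * c * D.t = c⁻¹
  xc : x * c * x = c⁻¹
  cv : c * v = v * c
  y_eq : D.t * x * D.t = x * c
  w : ∃ l : ℤ, c ^ l = D.s * v
  sq_sub : ∀ i : ℤ, c ^ i * c ^ i ∈ F.U → c ^ i ∈ F.U ∨ ∃ u ∈ F.U, c ^ i = D.s * u
  cU : ∀ i : ℤ, Odd i → c ^ i ∉ F.U
  x_nmem : ∀ i : ℤ, x * c ^ i ∉ F.U

set_option maxHeartbeats 800000 in
/-- From an involution outside `U` to the data of case B. -/
theorem Four.exists_caseB {v : X} (F : Four D v) {x : X} (hxS : x ∈ D.S) (hxx : x * x = 1)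
    (hxU : x ∉ F.U) : ∃ (v' : X) (F' : Four D v') (c : X), CaseB F' x c := by
  obtain ⟨k₀, G⟩ := F.exists_gen
  set k := x * D.t with hk
  have hxi : x⁻¹ = x := inv_eq_of_mul_eq_one_right hxx
  have hkT : k ∈ D.T := D.T.mul_mem hxS.1 D.tT
  have hkinv : k⁻¹ = D.t * x := by rw [hk, mul_inv_rev, D.t_inv, hxi]
  have htk : D.t * k * D.t = k⁻¹ := by
    rw [hkinv, hk, show D.t * (x * D.t) * D.t = D.t * x * (D.t * D.t) by group, D.tt, mul_one]
  have hxk : x * k * x = k⁻¹ := by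
    rw [hkinv, hk, show x * (x * D.t) * x = x * x * D.t * x by group, hxx, one_mul]
  have hxU' : ∀ u ∈ F.U, x ≠ D.s * u := fun u hu h => D.z_ne (by
    rw [← F.sU_sq hu, ← h, hxx])
  -- the old generator is a power of `k` modulo `U`
  obtain ⟨i, u, hu, hx⟩ := G.cases x hxS.1
  have hx' : x = D.t * k₀ ^ i * u := by
    refine hx.resolve_left fun h => ?_
    by_cases hkU : k₀ ^ i ∈ F.U
    · exact hxU (h ▸ F.U.mul_mem hkU hu)
    · have h2 : k₀ ^ (2 * i) ∈ F.U := by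
        have hx0 : k₀ ^ i * u * (k₀ ^ i * u) = 1 := by rw [← h, hxx]
        have h3 : k₀ ^ i * k₀ ^ i =
            (k₀ ^ i * u * (k₀ ^ i)⁻¹)⁻¹ * (k₀ ^ i * u * (k₀ ^ i * u)) * u⁻¹ := by group
        rw [hx0, mul_one] at h3
        rw [two_mul, zpow_add, h3]
        exact F.U.mul_mem (F.U.inv_mem (F.U_norm (zpow_mem G.kT i) hu)) (F.U.inv_mem hu)
      obtain ⟨u', hu', h4⟩ := G.invol i hkU h2
      exact hxU' (u' * u) (F.U.mul_mem hu' hu) (by rw [h, h4, mul_assoc])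
  have hiodd : Odd i := by
    rw [← Int.not_even_iff_odd]
    rintro ⟨l, rfl⟩
    apply D.tA
    have h1 : k₀ ^ (l + l) ∈ D.A := by
      rw [zpow_add]; exact mul_self_mem_of_index_two D.hAX _
    have h2 : x * u⁻¹ * (k₀ ^ (l + l))⁻¹ ∈ D.A :=
      D.A.mul_mem (D.A.mul_mem hxS.2 (D.A.inv_mem (F.U_le hu).2)) (D.A.inv_mem h1)
    rwa [hx', show D.t * k₀ ^ (l + l) * u * u⁻¹ * (k₀ ^ (l + l))⁻¹ = D.t by group] at h2
  have hk₀ : ∀ j : ℤ, ∃ m : ℤ, ∃ u' ∈ F.U, k₀ ^ j = k ^ m * u' := by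
    obtain ⟨n, hn⟩ := IsPGroup.iff_orderOf.1 D.Tp ⟨k₀, G.kT⟩
    rw [Subgroup.orderOf_mk] at hn
    have hco : IsCoprime i ((2 : ℤ) ^ n) := by
      refine IsCoprime.pow_right ?_
      obtain ⟨c, rfl⟩ := hiodd
      exact ⟨1, -c, by ring⟩
    obtain ⟨a, b, hab⟩ := hco
    intro j
    have h1 : k⁻¹ * u⁻¹ = k₀ ^ i := by
      rw [hkinv, hx', ← mul_assoc, ← mul_assoc, D.tt, one_mul, mul_inv_cancel_right]
    obtain ⟨u', hu', h2⟩ := F.mul_zpow_mod (D.T.inv_mem hkT) (F.U.inv_mem hu) (a * j)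
    refine ⟨-(a * j), u', hu', ?_⟩
    rw [zpow_neg, ← inv_zpow, ← h2, h1, ← zpow_mul]
    refine zpow_eq_zpow_iff_modEq.2 ?_
    rw [hn]
    push_cast
    refine Int.modEq_iff_dvd.2 ⟨-(b * j), ?_⟩
    linear_combination j * hab
  have hinvol : ∀ m : ℤ, k ^ m * k ^ m ∈ F.U → k ^ m ∈ F.U ∨ ∃ u' ∈ F.U, k ^ m = D.s * u' := by
    intro m hm
    have h1 : k⁻¹ = k₀ ^ i * u := by rw [hkinv, hx', ← mul_assoc, ← mul_assoc, D.tt, one_mul]
    obtain ⟨u₁, hu₁, h2⟩ := F.mul_zpow_mod (zpow_mem G.kT i) hu (-m)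
    rw [← h1, inv_zpow, zpow_neg, inv_inv, ← zpow_mul] at h2
    by_cases hU : k₀ ^ (i * -m) ∈ F.U
    · exact Or.inl (h2 ▸ F.U.mul_mem hU hu₁)
    · have h3 : k₀ ^ (2 * (i * -m)) ∈ F.U := by
        rw [two_mul, zpow_add]
        rw [h2] at hm
        have h4 : k₀ ^ (i * -m) * k₀ ^ (i * -m) = k₀ ^ (i * -m) * u₁ * (k₀ ^ (i * -m) * u₁) *
            u₁⁻¹ * (k₀ ^ (i * -m))⁻¹ * u₁⁻¹ * k₀ ^ (i * -m) := by group
        have h5 := F.U_norm (inv_mem (zpow_mem G.kT (i * -m))) (F.U.inv_mem hu₁)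
        rw [inv_inv] at h5
        rw [h4, show k₀ ^ (i * -m) * u₁ * (k₀ ^ (i * -m) * u₁) * u₁⁻¹ * (k₀ ^ (i * -m))⁻¹ * u₁⁻¹ *
            k₀ ^ (i * -m) = k₀ ^ (i * -m) * u₁ * (k₀ ^ (i * -m) * u₁) * (u₁⁻¹ *
            ((k₀ ^ (i * -m))⁻¹ * u₁⁻¹ * k₀ ^ (i * -m))) by group]
        exact F.U.mul_mem hm (F.U.mul_mem (F.U.inv_mem hu₁) h5)
      obtain ⟨u', hu', h5⟩ := G.invol _ hU h3
      exact Or.inr ⟨u' * u₁, F.U.mul_mem hu' hu₁, by rw [h2, h5, mul_assoc]⟩
  set c := k * k with hc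
  have hcS : c ∈ D.S := D.sq_mem_S hkT
  have hcm : ∀ m : ℤ, c ^ m = k ^ (2 * m) := fun m => by rw [hc, zpow_mul, zpow_two]
  have htc : D.t * c * D.t = c⁻¹ := by rw [hc, D.tConj_mul, htk, ← mul_inv_rev]
  have hxc : x * c * x = c⁻¹ := by
    calc x * c * x = (x * k * x) * (x * k * x) := by
          rw [hc, show x * k * x * (x * k * x) = x * k * (x * x) * k * x by group, hxx]; group
      _ = c⁻¹ := by rw [hxk, hc, ← mul_inv_rev]
  have hy : D.t * x * D.t = x * c := by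
    rw [hc, hk, show x * (x * D.t * (x * D.t)) = x * x * D.t * x * D.t by group, hxx, one_mul]
  -- `T = ⟨t, x⟩ U`
  have hT : ∀ g ∈ D.T, ∃ m : ℤ, ∃ u' ∈ F.U, g = k ^ m * u' ∨ g = D.t * k ^ m * u' := by
    intro g hg
    obtain ⟨j, u₂, hu₂, hg'⟩ := G.cases g hg
    obtain ⟨m, u', hu', h⟩ := hk₀ j
    refine ⟨m, u' * u₂, F.U.mul_mem hu' hu₂, ?_⟩
    rcases hg' with h' | h' <;> rw [h', h]
    · exact Or.inl (mul_assoc _ _ _)
    · exact Or.inr (by group)
  have hSm : ∀ g ∈ D.S, ∃ m : ℤ, ∃ u' ∈ F.U, g = c ^ m * u' ∨ g = x * c ^ m * u' := by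
    intro g hg
    have hkA : k ∉ D.A := fun h => D.tA (by
      have := D.A.mul_mem (D.A.inv_mem hxS.2) h
      rwa [hk, inv_mul_cancel_left] at this)
    obtain ⟨m, u', hu', h'⟩ := hT g hg.1
    obtain ⟨l, hl | hl⟩ := Int.even_or_odd' m
    · refine ⟨l, u', hu', ?_⟩
      rcases h' with h' | h'
      · exact Or.inl (by rw [h', hcm, hl])
      · exfalso
        apply D.tA
        have h1 : k ^ m ∈ D.A := by
          rw [hl, ← hcm]; exact D.A.zpow_mem hcS.2 _
        have := D.A.mul_mem (D.A.mul_mem hg.2 (D.A.inv_mem (F.U_le hu').2)) (D.A.inv_mem h1)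
        rwa [h', show D.t * k ^ m * u' * u'⁻¹ * (k ^ m)⁻¹ = D.t by group] at this
    · rcases h' with h' | h'
      · exfalso
        apply hkA
        have h1 := D.A.mul_mem (D.A.inv_mem (D.A.zpow_mem hcS.2 l))
          (D.A.mul_mem hg.2 (D.A.inv_mem (F.U_le hu').2))
        rwa [h', mul_inv_cancel_right, hcm, hl, ← zpow_neg, ← zpow_add,
          show -(2 * l) + (2 * l + 1) = 1 by ring, zpow_one] at h1
      · refine ⟨l + 1, u', hu', Or.inr ?_⟩
        rw [h', hl, hcm, show 2 * l + 1 = -1 + 2 * (l + 1) by ring, zpow_add, zpow_neg_one, hkinv,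
          ← mul_assoc, ← mul_assoc, D.tt, one_mul]
  have hcU : ∀ j : ℤ, Odd j → c ^ j ∉ F.U := by
    intro j hj h
    have h1 := F.odd_zpow_mem hcS.1 hj h
    rcases F.fix_mod hxS (by rw [hy, inv_mul_cancel_left]; exact h1) with h2 | ⟨u', hu', h2⟩
    · exact hxU h2
    · exact hxU' u' hu' h2
  have hxnm : ∀ j : ℤ, x * c ^ j ∉ F.U := by
    intro j h
    obtain ⟨u', hu', hj⟩ : ∃ u' ∈ F.U, x = u' * (c ^ j)⁻¹ := ⟨_, h, by group⟩
    have h1 : x * c * x = (u' * (c ^ j)⁻¹) * c * (u' * (c ^ j)⁻¹)⁻¹ := by rw [← hj, hxi]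
    rw [hxc, show u' * (c ^ j)⁻¹ * c * (u' * (c ^ j)⁻¹)⁻¹ = u' * c * u'⁻¹ by group] at h1
    have h2 : c * c ∈ F.U := by
      have h3 : c * c = c * u' * c⁻¹ * u'⁻¹ := by
        calc c * c = c * (c⁻¹)⁻¹ := by rw [inv_inv]
          _ = c * (u' * c * u'⁻¹)⁻¹ := by rw [← h1]
          _ = _ := by group
      rw [h3]
      exact F.U.mul_mem (F.U_norm hcS.1 hu') (F.U.inv_mem hu')
    have h4 := hinvol 2 (by rw [zpow_two, ← hc]; exact h2)
    rw [zpow_two, ← hc] at h4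
    rcases h4 with h4 | ⟨u'', hu'', h4⟩
    · exact hcU 1 odd_one (by rwa [zpow_one])
    · obtain ⟨p, hp⟩ : ∃ p : ℕ, ∀ j' : ℤ, c ^ j' ∈ F.U ∨ ∃ e ∈ F.U, c ^ j' = D.s * e :=
        ⟨0, fun j' => by
          obtain ⟨l, rfl | rfl⟩ := Int.even_or_odd' j'
          · left; rw [zpow_mul, zpow_two]; exact zpow_mem h2 l
          · right
            refine ⟨u'' * (c * c) ^ l, F.U.mul_mem hu'' (zpow_mem h2 l), ?_⟩
            rw [add_comm, zpow_add, zpow_one, zpow_mul, zpow_two]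
            exact (congrArg (fun a => a * (c * c) ^ l) h4).trans (mul_assoc _ _ _)⟩
      rcases hp (-j) with h5 | ⟨e, he, h5⟩ <;> rw [zpow_neg] at h5
      · exact hxU (hj ▸ F.U.mul_mem hu' h5)
      · refine hxU' (u' * e) (F.U.mul_mem hu' he) ?_
        rw [hj, h5, ← mul_assoc, ← mul_assoc, F.s_comm_U hu']
  have hsq : ∀ m : ℤ, c ^ m * c ^ m ∈ F.U → c ^ m ∈ F.U ∨ ∃ u' ∈ F.U, c ^ m = D.s * u' := by
    intro m hm; rw [hcm] at hm ⊢; exact hinvol _ hm
  -- `s` is a power of `c` modulo `U`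
  obtain ⟨l, u', hu', hsl⟩ := hSm D.s D.s_mem
  have hsl' : D.s = c ^ l * u' := by
    refine hsl.resolve_right fun h => ?_
    have hfix := D.tConj_s
    rw [h, D.tConj_mul, D.tConj_mul, hy, D.tConj_zpow, htc] at hfix
    have h1 : c ^ (1 - l - l) ∈ F.U := by
      have htu := F.U_norm D.tT hu'
      rw [D.t_inv] at htu
      have h2 : c ^ (1 - l - l) =
          (c ^ l)⁻¹ * (x⁻¹ * ((x * c * (c⁻¹) ^ l * (D.t * u' * D.t)) * (D.t * u' * D.t)⁻¹)) := by
        group
      rw [hfix, show (c ^ l)⁻¹ * (x⁻¹ * (x * c ^ l * u' * (D.t * u' * D.t)⁻¹)) =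
        u' * (D.t * u' * D.t)⁻¹ by group] at h2
      rw [h2]
      exact F.U.mul_mem hu' (F.U.inv_mem htu)
    exact hcU _ ⟨-l, by ring⟩ h1
  have hw : c ^ l = D.s * u' := by rw [hsl', mul_assoc, F.U_sq hu', mul_one]
  have hne : u' ≠ 1 ∧ u' ≠ D.z := by
    have h1 : D.t * (D.s * u') * D.t = (D.s * u')⁻¹ := by
      rw [← hw, D.tConj_zpow, htc, inv_zpow]
    rw [D.tConj_mul, D.tConj_s, mul_inv_rev, F.U_inv hu'] at h1
    constructor <;> intro h <;> subst h
    · rw [mul_one, one_mul, D.tt, mul_one] at h1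
      exact D.z_ne (eq_inv_iff_mul_eq_one.1 h1)
    · rw [D.tConj_z, F.zc D.s D.sT] at h1
      exact D.z_ne (eq_inv_iff_mul_eq_one.1 (mul_left_cancel h1))
  -- rename the four-group generator
  obtain ⟨v', F', rfl, hUU⟩ : ∃ v', ∃ F' : Four D v', v' = u' ∧ F'.U = F.U := by
    rcases hu' with h | h | h | h
    · exact absurd h hne.1
    · exact absurd h hne.2
    · exact ⟨v, F, h.symm, rfl⟩
    · refine ⟨v * D.z, F.flip, h.symm, ?_⟩
      ext a
      rw [F.flip.mem_U, F.mem_U, mul_assoc, D.zz, mul_one]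
      tauto
  clear hne
  rw [← hUU] at hcU hxnm hsq hSm
  have hxzz : D.z = c ^ (2 * l) := by
    rw [mul_comm, zpow_mul, hw, zpow_two, F'.sU_sq F'.v_U]
  have hcvc : c * v' = v' * c := by
    have h : v' * c = c * v' := by
      have hy' : ∀ a : X, a ∈ D.T → ∀ b : X, a * v' * a⁻¹ = b → D.t * a * D.t * (D.t * v' * D.t) *
          (D.t * a * D.t)⁻¹ = D.t * b * D.t := fun a _ b hb => by
        rw [← hb, D.tConj_mul, D.tConj_mul, D.tConj_inv]
      have hzc : ∀ g ∈ D.T, g * D.z * g⁻¹ = D.z := fun g hg => by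
        rw [F'.zc g hg, mul_inv_cancel_right]
      rcases F'.vconj x hxS.1 with h0 | h0
      · have h1 := hy' x hxS.1 _ h0
        rw [F'.tv, hy] at h1
        rw [show x * c * (v' * D.z) * (x * c)⁻¹ = x * (c * v' * c⁻¹) * x⁻¹ * (x * c * D.z * (x * c)⁻¹)
          by group, hzc _ (D.T.mul_mem hxS.1 hcS.1)] at h1
        have h2 : x * (c * v' * c⁻¹) * x⁻¹ = x * v' * x⁻¹ := by rw [h0]; exact mul_right_cancel h1
        have h3 : c * v' * c⁻¹ = v' := mul_left_cancel (mul_right_cancel h2)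
        exact (mul_inv_eq_iff_eq_mul.1 h3).symm
      · have h1 := hy' x hxS.1 _ h0
        rw [F'.tv, hy, F'.flip.tv, mul_assoc v', D.zz, mul_one] at h1
        rw [show x * c * (v' * D.z) * (x * c)⁻¹ = x * (c * v' * c⁻¹) * x⁻¹ * (x * c * D.z * (x * c)⁻¹)
          by group, hzc _ (D.T.mul_mem hxS.1 hcS.1)] at h1
        have h2 : x * (c * v' * c⁻¹) * x⁻¹ = x * v' * x⁻¹ := by
          rw [h0]
          calc x * (c * v' * c⁻¹) * x⁻¹ = x * (c * v' * c⁻¹) * x⁻¹ * D.z * D.z := by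
                rw [mul_assoc (x * (c * v' * c⁻¹) * x⁻¹), D.zz, mul_one]
            _ = v' * D.z := by rw [h1]
        have h3 : c * v' * c⁻¹ = v' := mul_left_cancel (mul_right_cancel h2)
        exact (mul_inv_eq_iff_eq_mul.1 h3).symm
    exact h.symm
  refine ⟨v', F', c, ⟨hxS, hcS, hxx, fun g hg => ?_, htc, hxc, hcvc, hy, ⟨l, hw⟩, hsq, hcU, hxnm⟩⟩
  obtain ⟨m, e, he, hg'⟩ := hSm g hg
  have hcz : ∀ a : X, a * c ^ m * D.z = a * c ^ (m + 2 * l) := fun a => by
    rw [zpow_add, hxzz, mul_assoc]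
  rcases he with rfl | rfl | rfl | rfl
  · refine ⟨m, ?_⟩
    rcases hg' with h | h <;> simp [h]
  · refine ⟨m + 2 * l, ?_⟩
    rcases hg' with h | h
    · exact Or.inl (by rw [h]; simpa using hcz 1)
    · exact Or.inr (Or.inr (Or.inl (by rw [h]; exact hcz x)))
  · refine ⟨m, ?_⟩
    rcases hg' with h | h <;> simp [h]
  · refine ⟨m + 2 * l, ?_⟩
    rcases hg' with h | h
    · refine Or.inr (Or.inl ?_)
      rw [h, F'.v_z, ← mul_assoc]
      congr 1
      simpa using hcz 1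
    · refine Or.inr (Or.inr (Or.inr ?_))
      rw [h, F'.v_z, ← mul_assoc, hcz x]

namespace CaseB

variable {v x c : X} {F : Four D v}

theorem xi (B : CaseB F x c) : x⁻¹ = x := inv_eq_of_mul_eq_one_right B.xx

theorem x_zpow (B : CaseB F x c) (i : ℤ) : x * c ^ i * x = c ^ (-i) := by
  have h := map_zpow (MulAut.conj x) c i
  simp only [MulAut.conj_apply, B.xi, B.xc] at h
  rw [h, inv_zpow, zpow_neg]

theorem x_comm (B : CaseB F x c) (i : ℤ) : c ^ i * x = x * c ^ (-i) := by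
  rw [← B.x_zpow i, show x * (x * c ^ i * x) = x * x * (c ^ i * x) by group, B.xx, one_mul]

theorem c_comm_v (B : CaseB F x c) (i : ℤ) : c ^ i * v = v * c ^ i :=
  ((show Commute c v from B.cv).zpow_left i).eq

theorem s_comm_c (B : CaseB F x c) (i : ℤ) : c ^ i * D.s = D.s * c ^ i := by
  obtain ⟨l, hl⟩ := B.w
  have hs : D.s = c ^ l * v := by rw [hl, mul_assoc, F.vv, mul_one]
  rw [hs]
  exact (((Commute.refl c).zpow_zpow i l).mul_right (B.c_comm_v i)).eq

theorem z_eq (B : CaseB F x c) : ∃ l : ℤ, D.z = c ^ (2 * l) := by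
  obtain ⟨l, hl⟩ := B.w
  exact ⟨l, by rw [mul_comm, zpow_mul, hl, zpow_two, F.sU_sq F.v_U]⟩

theorem c_mem_U (B : CaseB F x c) {i : ℤ} (h : c ^ i ∈ F.U) : c ^ i = 1 ∨ c ^ i = D.z :=
  F.U_tfix h (by rw [D.tConj_zpow, B.tc, inv_zpow, F.U_inv h])

theorem c_invol (B : CaseB F x c) {i : ℤ} (h : c ^ (2 * i) = 1) : c ^ i = 1 ∨ c ^ i = D.z := by
  rw [two_mul, zpow_add] at h
  rcases B.sq_sub i (by rw [h]; exact F.one_U) with h' | ⟨u, hu, h'⟩
  · exact B.c_mem_U h'
  · rw [h', F.sU_sq hu] at h; exact absurd h D.z_ne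

theorem c_ne_v (B : CaseB F x c) (i : ℤ) : c ^ i ≠ v := fun h => by
  rcases B.c_mem_U (i := i) (by rw [h]; exact F.v_U) with h' | h' <;> rw [h] at h'
  · exact F.v1 h'
  · exact F.vnz h'

theorem c_odd_ne (B : CaseB F x c) {i : ℤ} (hi : Odd i) : c ^ (2 * i) ≠ 1 := fun h => by
  rcases B.c_invol h with h' | h'
  · exact B.cU i hi (h' ▸ F.one_U)
  · exact B.cU i hi (h' ▸ F.z_U)

/-- Two classes of reflections in `c`-cosets. -/
theorem refl_conj (B : CaseB F x c) (m e : ℤ) :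
    c ^ (-m) * (x * c ^ e) * (c ^ (-m))⁻¹ = x * c ^ (e + 2 * m) := by
  rw [← mul_assoc, B.x_comm (-m), neg_neg, ← zpow_neg, neg_neg, mul_assoc, mul_assoc,
    ← zpow_add, ← zpow_add]
  congr 2; ring

/-- Fusion of two elements under `A`. -/
def Fused (D : Setup X) (a b : X) : Prop := ∃ g ∈ D.A, g * a * g⁻¹ = b

theorem Fused.refl (a : X) : Fused D a a := ⟨1, D.A.one_mem, by group⟩

theorem Fused.symm {a b : X} : Fused D a b → Fused D b a := fun ⟨g, hg, h⟩ =>
  ⟨g⁻¹, D.A.inv_mem hg, by rw [← h]; group⟩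

theorem Fused.trans {a b e : X} : Fused D a b → Fused D b e → Fused D a e :=
  fun ⟨g, hg, h⟩ ⟨g', hg', h'⟩ => ⟨g' * g, D.A.mul_mem hg' hg, by rw [← h', ← h]; group⟩

theorem Fused.tConj {a b : X} : Fused D a b → Fused D (D.t * a * D.t) (D.t * b * D.t) :=
  fun ⟨g, hg, h⟩ => ⟨D.t * g * D.t, by have := D.conjA D.t hg; rwa [D.t_inv] at this, by
    rw [← h, ← D.tConj_inv, ← D.tConj_mul, ← D.tConj_mul]⟩

theorem Fused.of_conj {g a b : X} (hg : g ∈ D.A) (h : g * a * g⁻¹ = b) : Fused D a b := ⟨g, hg, h⟩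

set_option maxHeartbeats 1600000 in
/-- The case `S = D × ⟨v⟩`. -/
theorem prod_false (B : CaseB F x c) (hxv : x * v = v * x) : False := by
  have hcv := B.c_comm_v
  have hvS : ∀ g ∈ D.S, g * v = v * g := by
    intro g hg
    have h1 : ∀ i : ℤ, Commute (x * c ^ i) v := fun i => (show Commute x v from hxv).mul_left (hcv i)
    obtain ⟨i, rfl | rfl | rfl | rfl⟩ := B.cases g hg
    · exact hcv i
    · exact ((show Commute (c ^ i) v from hcv i).mul_left (Commute.refl v)).eq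
    · exact (h1 i).eq
    · exact ((h1 i).mul_left (Commute.refl v)).eq
  have hzS : ∀ g ∈ D.S, g * D.z = D.z * g := fun g hg => F.zc g hg.1
  -- squares
  have hsq : ∀ g ∈ D.S, g * g * (g * g) = 1 → g * g = 1 ∨ g * g = D.z := by
    intro g hg hgg
    obtain ⟨i, rfl | rfl | rfl | rfl⟩ := B.cases g hg
    · rw [← zpow_add, ← two_mul] at hgg ⊢
      rw [← zpow_add] at hgg
      exact B.c_invol (by rwa [← two_mul] at hgg)
    · have e : c ^ i * v * (c ^ i * v) = c ^ (2 * i) := by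
        rw [show c ^ i * v * (c ^ i * v) = c ^ i * (v * c ^ i) * v by group, ← hcv,
          show c ^ i * (c ^ i * v) * v = c ^ i * c ^ i * (v * v) by group, F.vv, mul_one,
          ← zpow_add, ← two_mul]
      rw [e] at hgg ⊢
      rw [← zpow_add] at hgg
      exact B.c_invol (by rwa [← two_mul] at hgg)
    · left
      rw [show x * c ^ i * (x * c ^ i) = x * c ^ i * x * c ^ i by group, B.x_zpow, ← zpow_add]
      simp
    · left
      have hc' : Commute (x * c ^ i) v := (show Commute x v from hxv).mul_left (hcv i)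
      rw [show x * c ^ i * v * (x * c ^ i * v) = x * c ^ i * (v * (x * c ^ i)) * v by group,
        ← hc'.eq, show x * c ^ i * (x * c ^ i * v) * v = x * c ^ i * x * c ^ i * (v * v) by group,
        F.vv, mul_one, B.x_zpow, ← zpow_add]
      simp
  have hznv : ∀ u, (u = v ∨ u = v * D.z) → ¬ Fused D D.z u := by
    rintro u hu ⟨g, hg, hgu⟩
    have huS : u ∈ D.S := by rcases hu with rfl | rfl; exacts [F.vS, D.S.mul_mem F.vS D.z_mem]
    have hucomm : ∀ g ∈ D.S, g * u = u * g := fun g hg => by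
      rcases hu with rfl | rfl
      · exact hvS g hg
      · exact ((show Commute g v from hvS g hg).mul_right (hzS g hg)).eq
    obtain ⟨n, hn, hnN, hnu⟩ := D.burnside hzS huS hucomm hg hgu
    have h1 : n * D.s * n⁻¹ ∈ D.S := (mem_normalizer_iff.1 hnN D.s).1 D.s_mem
    have h2 : n * D.s * n⁻¹ * (n * D.s * n⁻¹) = u := by rw [← hnu, Setup.z]; group
    have hu2 : u * u = 1 := by rcases hu with rfl | rfl; exacts [F.vv, F.vz_sq]
    rcases hsq _ h1 (by rw [h2, hu2]) with h | h <;> rw [h2] at h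
    · rcases hu with rfl | rfl; exacts [F.v1 h, F.vz_ne_one h]
    · rcases hu with rfl | rfl; exacts [F.vnz h, F.vz_ne_z h]
  have hvvz : ¬ Fused D v (v * D.z) := by
    rintro ⟨g, hg, hgv⟩
    obtain ⟨n, hn, hnN, hnv⟩ := D.burnside hvS F.flip.vS
      (fun g hg => ((show Commute g v from hvS g hg).mul_right (hzS g hg)).eq) hg hgv
    have hnz : n * D.z * n⁻¹ = D.z := by
      have h1 : n * D.s * n⁻¹ ∈ D.S := (mem_normalizer_iff.1 hnN D.s).1 D.s_mem
      have h2 : n * D.s * n⁻¹ * (n * D.s * n⁻¹) = n * D.z * n⁻¹ := by rw [Setup.z]; group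
      rcases hsq _ h1 (by
        rw [h2, show n * D.z * n⁻¹ * (n * D.z * n⁻¹) = n * (D.z * D.z) * n⁻¹ by group, D.zz]
        simp) with h | h <;> rw [h2] at h
      · exact absurd (conj_eq_one_iff.1 h) D.z_ne
      · exact h
    refine F.vz_ne_v (D.no_swap hn hnN hvS hnv ?_).symm
    rw [show n * (v * D.z) * n⁻¹ = n * v * n⁻¹ * (n * D.z * n⁻¹) by group, hnv, hnz, mul_assoc,
      D.zz, mul_one]
  obtain ⟨l, hl⟩ := B.z_eq
  -- Thompson transfer for the four dihedral subgroups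
  have hyS : x * c ∈ D.S := D.S.mul_mem B.xS B.cS
  have htrans : ∀ a b : X, (a = 1 ∨ a = v) → (b = 1 ∨ b = v) →
      Fused D v (x * a) ∨ Fused D v (x * c * b) := by
    intro a b ha hb
    have haa : a * a = 1 := by rcases ha with rfl | rfl; exacts [one_mul 1, F.vv]
    have hbb : b * b = 1 := by rcases hb with rfl | rfl; exacts [one_mul 1, F.vv]
    have haS : a ∈ D.S := by rcases ha with rfl | rfl; exacts [D.S.one_mem, F.vS]
    have hbS : b ∈ D.S := by rcases hb with rfl | rfl; exacts [D.S.one_mem, F.vS]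
    have hcom : ∀ g ∈ D.S, ∀ e, (e = a ∨ e = b) → Commute g e := by
      intro g hg e he
      rcases he with rfl | rfl
      · rcases ha with rfl | rfl; exacts [Commute.one_right g, hvS g hg]
      · rcases hb with rfl | rfl; exacts [Commute.one_right g, hvS g hg]
    set d := c * (a * b) with hd
    have hab2 : a * b * (a * b) = 1 := by
      rw [show a * b * (a * b) = a * (b * a) * b by group, (hcom b hbS a (Or.inl rfl)).eq,
        show a * (a * b) * b = a * a * (b * b) by group, haa, hbb, one_mul]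
    have hdS : d ∈ D.S := D.S.mul_mem B.cS (D.S.mul_mem haS hbS)
    have hdz : ∀ i : ℤ, d ^ i = c ^ i * (a * b) ^ i := fun i =>
      ((hcom c B.cS a (Or.inl rfl)).mul_right (hcom c B.cS b (Or.inr rfl))).mul_zpow i
    have habz : ∀ i : ℤ, (a * b) ^ (2 * i) = 1 := fun i => by
      rw [zpow_mul, zpow_two, hab2, one_zpow]
    set r := x * a with hr
    have hrr : r * r = 1 := by
      rw [hr, show x * a * (x * a) = x * (a * x) * a by group, ← (hcom x B.xS a (Or.inl rfl)).eq,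
        show x * (x * a) * a = x * x * (a * a) by group, B.xx, haa, one_mul]
    have hrd : ∀ i : ℤ, d ^ i * r = r * d ^ (-i) := by
      intro i
      have h1 : Commute ((a * b) ^ i) r := by
        refine Commute.zpow_left ?_ i
        exact ((hcom r (D.S.mul_mem B.xS haS) a (Or.inl rfl)).mul_right
          (hcom r (D.S.mul_mem B.xS haS) b (Or.inr rfl))).symm
      have h2 : (a * b) ^ (-i) = (a * b) ^ i := by
        rw [show -i = i + 2 * (-i) by ring, zpow_add, habz, mul_one]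
      have h3 : c ^ i * r = r * c ^ (-i) := by
        rw [hr, ← mul_assoc, B.x_comm, mul_assoc, (hcom _ (zpow_mem B.cS _) a (Or.inl rfl)).eq,
          ← mul_assoc]
      rw [hdz, hdz, h2, mul_assoc, h1.eq, ← mul_assoc, h3, mul_assoc]
    let M : Subgroup X :=
      { carrier := {g | ∃ i : ℤ, g = d ^ i ∨ g = r * d ^ i}
        one_mem' := ⟨0, Or.inl (by simp)⟩
        mul_mem' := by
          rintro g g' ⟨i, rfl | rfl⟩ ⟨j, rfl | rfl⟩
          · exact ⟨i + j, Or.inl (by rw [zpow_add])⟩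
          · exact ⟨-i + j, Or.inr (by rw [zpow_add, ← mul_assoc, hrd, mul_assoc])⟩
          · exact ⟨i + j, Or.inr (by rw [zpow_add, mul_assoc])⟩
          · refine ⟨-i + j, Or.inl ?_⟩
            rw [show r * d ^ i * (r * d ^ j) = r * (d ^ i * r) * d ^ j by group, hrd, ← mul_assoc,
              hrr, one_mul, zpow_add]
        inv_mem' := by
          rintro g ⟨i, rfl | rfl⟩
          · exact ⟨-i, Or.inl (by rw [zpow_neg])⟩
          · refine ⟨i, Or.inr ?_⟩
            rw [mul_inv_rev, inv_eq_of_mul_eq_one_right hrr, ← zpow_neg, hrd, neg_neg] }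
    have hMS : M ≤ D.S := by
      rintro g ⟨i, rfl | rfl⟩
      · exact zpow_mem hdS i
      · exact D.S.mul_mem (D.S.mul_mem B.xS haS) (zpow_mem hdS i)
    have hvM : v ∉ M := by
      rintro ⟨i, h | h⟩
      · obtain ⟨m, rfl | rfl⟩ := Int.even_or_odd' i
        · rw [hdz, habz, mul_one] at h; exact B.c_ne_v _ h.symm
        · refine B.cU (2 * m + 1) ⟨m, rfl⟩ ?_
          rw [hdz] at h
          rw [eq_mul_inv_of_mul_eq h.symm]
          refine F.U.mul_mem F.v_U (F.U.inv_mem (F.U.zpow_mem (F.U.mul_mem ?_ ?_) _))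
          · rcases ha with rfl | rfl; exacts [F.one_U, F.v_U]
          · rcases hb with rfl | rfl; exacts [F.one_U, F.v_U]
      · refine B.x_nmem i ?_
        rw [hdz, hr, show x * a * (c ^ i * (a * b) ^ i) = x * (a * c ^ i) * (a * b) ^ i by group,
          ← (hcom _ (zpow_mem B.cS i) a (Or.inl rfl)).eq] at h
        have haU : a ∈ F.U := by rcases ha with rfl | rfl; exacts [F.one_U, F.v_U]
        have hbU : b ∈ F.U := by rcases hb with rfl | rfl; exacts [F.one_U, F.v_U]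
        have h' : x * c ^ i * (a * (a * b) ^ i) = v := by rw [h]; group
        rw [eq_mul_inv_of_mul_eq h']
        exact F.U.mul_mem F.v_U
          (F.U.inv_mem (F.U.mul_mem haU (F.U.zpow_mem (F.U.mul_mem haU hbU) i)))
    have hab' : (a * b) = 1 ∨ a * b = v := by
      rcases ha with rfl | rfl <;> rcases hb with rfl | rfl <;> simp [F.vv]
    have hcd : ∀ i : ℤ, c ^ i ∈ M ∨ v * c ^ i ∈ M := by
      intro i
      rcases hab' with h | h
      · exact Or.inl ⟨i, Or.inl (by rw [hdz, h, one_zpow, mul_one])⟩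
      · obtain ⟨m, rfl | rfl⟩ := Int.even_or_odd' i
        · exact Or.inl ⟨_, Or.inl (by rw [hdz, habz, mul_one])⟩
        · refine Or.inr ⟨2 * m + 1, Or.inl ?_⟩
          rw [hdz, zpow_add (a * b), habz, one_mul, zpow_one, h, hcv]
    obtain ⟨g, hg, hgM⟩ := D.fused_into M hMS (r := v) (fun g hg => by
      have hrM : r ∈ M := ⟨0, Or.inr (by simp)⟩
      have hx' : x ∈ M ∨ v * x ∈ M := by
        rcases ha with rfl | rfl
        · left; simpa [hr] using hrM
        · right; rw [← hxv]; exact hrM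
      have key : ∀ g₁ g₂ : X, g₁ ∈ D.S → (g₁ ∈ M ∨ v * g₁ ∈ M) → (g₂ ∈ M ∨ v * g₂ ∈ M) →
          g₁ * g₂ ∈ M ∨ v * (g₁ * g₂) ∈ M := by
        intro g₁ g₂ hg₁ h₁ h₂
        rcases h₁ with h₁ | h₁ <;> rcases h₂ with h₂ | h₂
        · exact Or.inl (M.mul_mem h₁ h₂)
        · right; rw [← mul_assoc, ← hvS g₁ hg₁, mul_assoc]; exact M.mul_mem h₁ h₂
        · right; rw [← mul_assoc]; exact M.mul_mem h₁ h₂
        · left
          have := M.mul_mem h₁ h₂
          rwa [show v * g₁ * (v * g₂) = v * (g₁ * v) * g₂ by group, hvS g₁ hg₁, ← mul_assoc v,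
            F.vv, one_mul] at this
      have hv' : v ∈ M ∨ v * v ∈ M := Or.inr (by rw [F.vv]; exact M.one_mem)
      obtain ⟨i, rfl | rfl | rfl | rfl⟩ := B.cases g hg
      · exact hcd i
      · exact key _ _ (zpow_mem B.cS i) (hcd i) hv'
      · exact key _ _ B.xS hx' (hcd i)
      · exact key _ _ (D.S.mul_mem B.xS (zpow_mem B.cS i)) (key _ _ B.xS hx' (hcd i)) hv')
      F.vS F.vv hvM
    have hgg : g * v * g⁻¹ * (g * v * g⁻¹) = 1 := by
      rw [show g * v * g⁻¹ * (g * v * g⁻¹) = g * (v * v) * g⁻¹ by group, F.vv]; simp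
    obtain ⟨i, hi | hi⟩ := hgM
    · exfalso
      rw [hi, ← zpow_add, ← two_mul, hdz, habz, mul_one] at hgg
      have h1 : d ^ i ∈ F.U := by
        rw [hdz]
        have habU : a * b ∈ F.U := by
          rcases hab' with h | h <;> rw [h]
          exacts [F.one_U, F.v_U]
        refine F.U.mul_mem ?_ (F.U.zpow_mem habU i)
        rcases B.c_invol hgg with h | h <;> rw [h]
        exacts [F.one_U, F.z_U]
      rcases h1 with h | h | h | h
      · exact F.v1 (conj_eq_one_iff.1 (hi.trans h))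
      · exact hznv v (Or.inl rfl) (Fused.of_conj hg (hi.trans h)).symm
      · exact hvM (h ▸ ⟨i, Or.inl rfl⟩)
      · exact hvvz (Fused.of_conj hg (hi.trans h))
    · obtain ⟨m, rfl | rfl⟩ := Int.even_or_odd' i
      · refine Or.inl ((Fused.of_conj hg hi).trans (Fused.of_conj (D.A.zpow_mem hdS.2 m) ?_))
        rw [← zpow_neg, ← mul_assoc, hrd, mul_assoc, mul_assoc, ← zpow_add, ← zpow_add,
          show -m + (2 * m + -m) = 0 by ring, zpow_zero, mul_one]
      · refine Or.inr ((Fused.of_conj hg hi).trans (Fused.of_conj (D.A.zpow_mem hdS.2 m) ?_))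
        rw [← zpow_neg, ← mul_assoc, hrd, mul_assoc, mul_assoc, ← zpow_add, ← zpow_add,
          show -m + (2 * m + 1 + -m) = 1 by ring, zpow_one, hr, hd,
          show x * a * (c * (a * b)) = x * (a * c) * a * b by group,
          ← (hcom c B.cS a (Or.inl rfl)).eq, show x * (c * a) * a * b = x * c * (a * a) * b by group,
          haa, mul_one]
  -- normalise: both `x` and `x v` are fused to the same `v₀ ∈ {v, v z}`, the others to `v₀ z`
  have h11 := htrans 1 1 (Or.inl rfl) (Or.inl rfl)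
  have h1v := htrans 1 v (Or.inl rfl) (Or.inr rfl)
  have hv1 := htrans v 1 (Or.inr rfl) (Or.inl rfl)
  have hvv' := htrans v v (Or.inr rfl) (Or.inr rfl)
  simp only [mul_one] at h11 h1v hv1
  have ty : D.t * (x * c) * D.t = x := by rw [← B.y_eq, D.tConj_tConj]
  have hxz : ∀ e : X, (e = 1 ∨ e = v) → Fused D (x * e) (x * e * D.z) := by
    intro e he
    obtain ⟨w, hw⟩ := B.w
    refine Fused.of_conj (D.A.zpow_mem B.cS.2 (-w)) ?_
    have hc : Commute (c ^ (-w)) e := by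
      rcases he with rfl | rfl; exacts [Commute.one_right _, hcv _]
    rw [show c ^ (-w) * (x * e) * (c ^ (-w))⁻¹ = c ^ (-w) * x * (e * (c ^ (-w))⁻¹) by group,
      ← hc.inv_left.eq, ← mul_assoc, B.x_comm, neg_neg, ← zpow_neg, neg_neg, mul_assoc x,
      ← zpow_add, ← two_mul]
    have h1 : c ^ (2 * w) = D.z := by rw [mul_comm, zpow_mul, hw, zpow_two, F.sU_sq F.v_U]
    rw [h1, mul_assoc, mul_assoc]
    congr 1
    rcases he with rfl | rfl
    · simp
    · exact F.v_z.symm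
  have htyv : D.t * (x * c * v) * D.t = x * v * D.z := by
    rw [D.tConj_mul, ty, F.tv, mul_assoc]
  obtain ⟨v₀, hv₀, hxv₀, hxvv₀⟩ :
      ∃ v₀, (v₀ = v ∨ v₀ = v * D.z) ∧ Fused D v₀ x ∧ Fused D v₀ (x * v) := by
    by_cases h : Fused D v x ∧ Fused D v (x * v)
    · exact ⟨v, Or.inl rfl, h.1, h.2⟩
    · have hy : Fused D v (x * c) ∧ Fused D v (x * c * v) := by tauto
      refine ⟨v * D.z, Or.inr rfl, ?_, ?_⟩
      · have := hy.1.tConj
        rwa [F.tv, ty] at this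
      · have h1 := hy.2.tConj
        rw [F.tv, htyv] at h1
        exact h1.trans (hxz v (Or.inr rfl)).symm
  set v₁ := v₀ * D.z with hv₁
  have hv₀' : D.t * v₀ * D.t = v₁ := by
    rcases hv₀ with rfl | rfl
    · exact F.tv
    · exact F.flip.tv
  have hyv₁ : Fused D v₁ (x * c) ∧ Fused D v₁ (x * c * v) := by
    constructor
    · have := hxv₀.tConj
      rwa [hv₀', B.y_eq] at this
    · have h1 := (hxvv₀.trans (hxz v (Or.inr rfl))).tConj
      rwa [hv₀', ← htyv, D.tConj_tConj] at h1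
  have hv₀S : v₀ ∈ D.S ∧ ∀ g ∈ D.S, g * v₀ = v₀ * g := by
    rcases hv₀ with rfl | rfl
    · exact ⟨F.vS, hvS⟩
    · exact ⟨F.flip.vS, fun g hg => ((show Commute g v from hvS g hg).mul_right (hzS g hg)).eq⟩
  have hd01 : ¬ Fused D v₀ v₁ := by
    rcases hv₀ with rfl | rfl
    · exact hvvz
    · intro h
      rw [hv₁, mul_assoc, D.zz, mul_one] at h
      exact hvvz h.symm
  have hdz0 : ¬ Fused D D.z v₀ := hznv v₀ hv₀
  have hdz1 : ¬ Fused D D.z v₁ := hznv v₁ (by
    rcases hv₀ with rfl | rfl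
    · exact Or.inr rfl
    · left; rw [hv₁, mul_assoc, D.zz, mul_one])
  -- classification of involutions of `S`
  have hclass : ∀ g ∈ D.S, g * g = 1 → g ≠ 1 →
      g = D.z ∨ g = v₀ ∨ g = v₁ ∨ (∃ m : ℤ, g = x * c ^ (2 * m) ∨ g = x * c ^ (2 * m) * v) ∧
        Fused D v₀ g ∨ (∃ m : ℤ, g = x * c ^ (2 * m + 1) ∨ g = x * c ^ (2 * m + 1) * v) ∧
        Fused D v₁ g := by
    intro g hg hgg hg1
    have hUc : ∀ g : X, g ∈ F.U → g ≠ 1 → g = D.z ∨ g = v₀ ∨ g = v₁ := by
      intro g hg hg1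
      rcases hg with h | h | h | h
      · exact absurd h hg1
      · exact Or.inl h
      all_goals
        right
        rcases hv₀ with h0 | h0 <;> rw [hv₁, h0, h] <;> simp [mul_assoc, D.zz]
    obtain ⟨i, hi⟩ := B.cases g hg
    rcases hi with h | h | h | h
    · have h1 : g ∈ F.U := by
        rw [h] at hgg ⊢
        rcases B.c_invol (by rwa [two_mul, zpow_add]) with h' | h' <;> rw [h']
        exacts [F.one_U, F.z_U]
      exact (hUc g h1 hg1).elim Or.inl (fun h' => Or.inr (h'.elim Or.inl (fun h'' => Or.inr (Or.inl h''))))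
    · have h1 : g ∈ F.U := by
        have e : c ^ i * v * (c ^ i * v) = c ^ (2 * i) := by
          rw [show c ^ i * v * (c ^ i * v) = c ^ i * (v * c ^ i) * v by group, ← hcv,
            show c ^ i * (c ^ i * v) * v = c ^ i * c ^ i * (v * v) by group, F.vv, mul_one,
            ← zpow_add, ← two_mul]
        rw [h, e] at hgg
        rw [h]
        refine F.U.mul_mem ?_ F.v_U
        rcases B.c_invol hgg with h' | h' <;> rw [h']
        exacts [F.one_U, F.z_U]
      exact (hUc g h1 hg1).elim Or.inl (fun h' => Or.inr (h'.elim Or.inl (fun h'' => Or.inr (Or.inl h''))))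
    all_goals
      obtain ⟨m, rfl | rfl⟩ := Int.even_or_odd' i
    · refine Or.inr (Or.inr (Or.inr (Or.inl ⟨⟨m, Or.inl h⟩, ?_⟩)))
      refine hxv₀.trans (Fused.of_conj (D.A.zpow_mem B.cS.2 (-m)) ?_)
      rw [h, show x = x * c ^ (0 : ℤ) by simp, B.refl_conj]; simp
    · refine Or.inr (Or.inr (Or.inr (Or.inr ⟨⟨m, Or.inl h⟩, ?_⟩)))
      refine hyv₁.1.trans (Fused.of_conj (D.A.zpow_mem B.cS.2 (-m)) ?_)
      rw [h, show x * c = x * c ^ (1 : ℤ) by simp, B.refl_conj, add_comm]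
    · refine Or.inr (Or.inr (Or.inr (Or.inl ⟨⟨m, Or.inr h⟩, ?_⟩)))
      refine hxvv₀.trans (Fused.of_conj (D.A.zpow_mem B.cS.2 (-m)) ?_)
      rw [h, show c ^ (-m) * (x * v) * (c ^ (-m))⁻¹ = c ^ (-m) * (x * c ^ (0 : ℤ)) *
        (c ^ (-m))⁻¹ * (c ^ (-m) * v * (c ^ (-m))⁻¹) by group, B.refl_conj, hcv,
        mul_inv_cancel_right]
      simp
    · refine Or.inr (Or.inr (Or.inr (Or.inr ⟨⟨m, Or.inr h⟩, ?_⟩)))
      refine hyv₁.2.trans (Fused.of_conj (D.A.zpow_mem B.cS.2 (-m)) ?_)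
      rw [h, show c ^ (-m) * (x * c * v) * (c ^ (-m))⁻¹ = c ^ (-m) * (x * c ^ (1 : ℤ)) *
        (c ^ (-m))⁻¹ * (c ^ (-m) * v * (c ^ (-m))⁻¹) by group, B.refl_conj, hcv,
        mul_inv_cancel_right, add_comm (1 : ℤ)]
  obtain ⟨g₀, hg₀, hg₀x⟩ := hxv₀.symm
  obtain ⟨n, hn, hnx, hnS⟩ := D.extremal hv₀S.1 hv₀S.2 hg₀ hg₀x
  have hxzc : x * D.z = D.z * x := hzS x B.xS
  have him : ∀ e : X, e ∈ D.S → e * e = 1 → e ≠ 1 → e * x = x * e →
      n * e * n⁻¹ ∈ D.S ∧ n * e * n⁻¹ * (n * e * n⁻¹) = 1 ∧ n * e * n⁻¹ ≠ 1 := by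
    intro e he hee he1 hex
    refine ⟨hnS e he hex, ?_, fun h => he1 (conj_eq_one_iff.1 h)⟩
    rw [show n * e * n⁻¹ * (n * e * n⁻¹) = n * (e * e) * n⁻¹ by group, hee]; simp
  have hnf : ∀ e : X, Fused D e (n * e * n⁻¹) := fun e => Fused.of_conj hn rfl
  -- the image of `z`
  have hnz : n * D.z * n⁻¹ = D.z := by
    obtain ⟨h1, h2, h3⟩ := him D.z D.z_mem D.zz D.z_ne hxzc.symm
    rcases hclass _ h1 h2 h3 with h | h | h | ⟨-, h⟩ | ⟨-, h⟩
    · exact h
    · exact absurd (h ▸ hnf D.z) hdz0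
    · exact absurd (h ▸ hnf D.z) hdz1
    · exact absurd ((hnf D.z).trans h.symm) hdz0
    · exact absurd ((hnf D.z).trans h.symm) hdz1
  -- the image of `x v`
  have hxvS : x * v ∈ D.S := D.S.mul_mem B.xS F.vS
  have hxvx : x * v * x = x * (x * v) := by rw [mul_assoc, hxv]
  obtain ⟨m, hb⟩ : ∃ m : ℤ, n * (x * v) * n⁻¹ = x * c ^ (2 * m) ∨
      n * (x * v) * n⁻¹ = x * c ^ (2 * m) * v := by
    obtain ⟨h1, h2, h3⟩ := him (x * v) hxvS (by
      rw [show x * v * (x * v) = x * (v * x) * v by group, ← hxv,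
        show x * (x * v) * v = x * x * (v * v) by group, B.xx, F.vv, one_mul])
      (fun h => B.x_nmem 0 (by
        rw [eq_inv_of_mul_eq_one_left h, zpow_zero, mul_one]
        exact F.U.inv_mem F.v_U)) hxvx
    rcases hclass _ h1 h2 h3 with h | h | h | ⟨h, -⟩ | ⟨-, h⟩
    · exact absurd (h ▸ hxvv₀.trans (hnf _)).symm hdz0
    · exfalso
      have h4 := h.trans hnx.symm
      exact F.v1 (mul_eq_left.1 (mul_left_cancel (mul_right_cancel h4)))
    · exact absurd (h ▸ hxvv₀.trans (hnf _)) hd01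
    · exact h
    · exact absurd ((hxvv₀.trans (hnf _)).trans h.symm) hd01
  -- the image of `v₁` is `v₁`
  have hv₁S : v₁ ∈ D.S := D.S.mul_mem hv₀S.1 D.z_mem
  have hv₁c : ∀ g ∈ D.S, Commute g v₁ := fun g hg =>
    (show Commute g v₀ from hv₀S.2 g hg).mul_right (hzS g hg)
  have hnv₁ : n * v₁ * n⁻¹ = v₁ := by
    obtain ⟨h1, h2, h3⟩ := him v₁ hv₁S (by
      rcases hv₀ with rfl | rfl
      · exact F.vz_sq
      · exact F.flip.vz_sq) (by
      rcases hv₀ with rfl | rfl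
      · exact F.vz_ne_one
      · exact F.flip.vz_ne_one) (hv₁c x B.xS).symm.eq
    rcases hclass _ h1 h2 h3 with h | h | h | ⟨-, h⟩ | ⟨⟨m', h'⟩, -⟩
    · exact absurd (h ▸ hnf v₁).symm hdz1
    · exact absurd (h ▸ hnf v₁).symm hd01
    · exact h
    · exact absurd ((hnf v₁).trans h.symm).symm hd01
    · exfalso
      have hcomm : Commute (n * (x * v) * n⁻¹) (n * v₁ * n⁻¹) :=
        (Commute.conj_iff n).2 (hv₁c _ hxvS)
      have hcv' : Commute (x * c ^ (2 * m)) (x * c ^ (2 * m' + 1)) := by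
        have hvc : ∀ g ∈ D.S, Commute g v := hvS
        rcases hb with hb | hb <;> rcases h' with h' | h' <;> rw [hb, h'] at hcomm
        · exact hcomm
        · have h5 := hcomm.mul_right (hvc _ (D.S.mul_mem B.xS (zpow_mem B.cS (2 * m))))
          rwa [mul_assoc, F.vv, mul_one] at h5
        · have h5 := hcomm.mul_left (hvc _ (D.S.mul_mem B.xS (zpow_mem B.cS (2 * m' + 1)))).symm
          rwa [mul_assoc, F.vv, mul_one] at h5
        · have hv' : x * c ^ (2 * m) * v ∈ D.S :=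
            D.S.mul_mem (D.S.mul_mem B.xS (zpow_mem B.cS (2 * m))) F.vS
          have h6 := hcomm.mul_right (hvc _ hv')
          rw [mul_assoc (x * c ^ (2 * m' + 1)), F.vv, mul_one] at h6
          have h7 := h6.mul_left (hvc _ (D.S.mul_mem B.xS (zpow_mem B.cS (2 * m' + 1)))).symm
          rwa [mul_assoc, F.vv, mul_one] at h7
      apply B.c_odd_ne (i := 2 * m' + 1 - 2 * m) ⟨m' - m, by ring⟩
      have h5 := hcv'.eq
      rw [show x * c ^ (2 * m) * (x * c ^ (2 * m' + 1)) = x * c ^ (2 * m) * x * c ^ (2 * m' + 1) by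
          group, show x * c ^ (2 * m' + 1) * (x * c ^ (2 * m)) = x * c ^ (2 * m' + 1) * x *
          c ^ (2 * m) by group, B.x_zpow, B.x_zpow, ← zpow_add, ← zpow_add] at h5
      rw [show 2 * (2 * m' + 1 - 2 * m) =
        (-(2 * m) + (2 * m' + 1)) - (-(2 * m' + 1) + 2 * m) by ring, zpow_sub, h5,
        mul_inv_cancel]
  have hnv₀ : n * v₀ * n⁻¹ = v₀ := by
    have h : v₀ = v₁ * D.z := by rw [hv₁, mul_assoc, D.zz, mul_one]
    rw [h, show n * (v₁ * D.z) * n⁻¹ = n * v₁ * n⁻¹ * (n * D.z * n⁻¹) by group, hnv₁, hnz]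
  have hxv₀' : x = v₀ := mul_left_cancel (mul_right_cancel (hnx.trans hnv₀.symm))
  refine B.x_nmem 0 ?_
  rw [zpow_zero, mul_one, hxv₀']
  rcases hv₀ with rfl | rfl
  exacts [F.v_U, F.flip.v_U.elim (fun h => absurd h F.vz_ne_one) (fun _ => Or.inr (Or.inr (Or.inr rfl)))]

/-- The case `S = D ∘ ⟨s⟩`. -/
theorem central_false (B : CaseB F x c) (hxv : x * v ≠ v * x) : False := by
  have hxv' : x * v * x = v * D.z := by
    have h := (F.vconj x B.xS.1).resolve_left fun h => hxv (mul_inv_eq_iff_eq_mul.1 h)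
    rwa [B.xi] at h
  have hcv := B.c_comm_v
  have hcs := B.s_comm_c
  have hxs : x * D.s = D.s * x := by
    obtain ⟨l, hl⟩ := B.w
    obtain hz : c ^ (2 * l) = D.z := by rw [mul_comm, zpow_mul, hl, zpow_two, F.sU_sq F.v_U]
    have hs : D.s = c ^ l * v := by rw [hl, mul_assoc, F.vv, mul_one]
    have h1 : x * D.s * x = D.s := by
      calc x * D.s * x = x * (c ^ l * v) * x := by rw [← hs]
        _ = (x * c ^ l * x) * (x * v * x) := by
          rw [show x * c ^ l * x * (x * v * x) = x * c ^ l * (x * x) * v * x by group, B.xx]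
          group
        _ = c ^ (-l) * (v * c ^ (2 * l)) := by rw [B.x_zpow, hxv', hz]
        _ = c ^ l * v := by rw [← hcv, ← mul_assoc, ← zpow_add]; ring_nf
        _ = D.s := hs.symm
    calc x * D.s = x * D.s * (x * x) := by rw [B.xx, mul_one]
      _ = x * D.s * x * x := by group
      _ = D.s * x := by rw [h1]
  have hsS : ∀ g ∈ D.S, g * D.s = D.s * g := by
    intro g hg
    have hsv : Commute v D.s := F.s_comm.symm
    have h1 : ∀ i : ℤ, Commute (x * c ^ i) D.s := fun i =>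
      (show Commute x D.s from hxs).mul_left (hcs i)
    obtain ⟨i, rfl | rfl | rfl | rfl⟩ := B.cases g hg
    · exact hcs i
    · exact ((show Commute (c ^ i) D.s from hcs i).mul_left hsv).eq
    · exact (h1 i).eq
    · exact ((h1 i).mul_left hsv).eq
  have hzS : ∀ g ∈ D.S, g * D.z = D.z * g := fun g hg => F.zc g hg.1
  have hsqv : ∀ i : ℤ, c ^ i * v * (c ^ i * v) = c ^ (2 * i) := fun i => by
    rw [show c ^ i * v * (c ^ i * v) = c ^ i * (v * c ^ i) * v by group, ← hcv,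
      show c ^ i * (c ^ i * v) * v = c ^ i * c ^ i * (v * v) by group, F.vv, mul_one,
      ← zpow_add, ← two_mul]
  have hsqx : ∀ i : ℤ, x * c ^ i * (x * c ^ i) = 1 := fun i => by
    rw [show x * c ^ i * (x * c ^ i) = x * c ^ i * x * c ^ i by group, B.x_zpow, ← zpow_add]
    simp
  have hsqxv : ∀ i : ℤ, x * c ^ i * v * (x * c ^ i * v) = D.z := fun i => by
    have h1 : v * x = x * (v * D.z) := by
      rw [← hxv', show x * (x * v * x) = x * x * (v * x) by group, B.xx, one_mul]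
    calc x * c ^ i * v * (x * c ^ i * v) = x * c ^ i * (v * x) * (c ^ i * v) := by group
      _ = x * c ^ i * x * (v * (D.z * c ^ i) * v) := by rw [h1]; group
      _ = x * c ^ i * x * (v * c ^ i * (D.z * v)) := by
        rw [← hzS _ (zpow_mem B.cS i)]; group
      _ = c ^ (-i) * c ^ i * (v * v * D.z) := by
        rw [B.x_zpow, ← hcv, ← F.v_z]; group
      _ = D.z := by rw [← zpow_add, F.vv]; simp
  have hsq : ∀ g ∈ D.S, g * g * (g * g) = 1 → g * g = 1 ∨ g * g = D.z := by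
    intro g hg hgg
    obtain ⟨i, rfl | rfl | rfl | rfl⟩ := B.cases g hg
    · rw [← zpow_add, ← two_mul] at hgg ⊢
      rw [← zpow_add] at hgg
      exact B.c_invol (by rwa [← two_mul] at hgg)
    · rw [hsqv] at hgg ⊢
      rw [← zpow_add] at hgg
      exact B.c_invol (by rwa [← two_mul] at hgg)
    · exact Or.inl (hsqx i)
    · exact Or.inr (hsqxv i)
  -- `z` is isolated in `S`
  have hziso : ∀ u ∈ D.S, Fused D u D.z → u = D.z := by
    rintro u hu ⟨g, hg, hgu⟩
    obtain ⟨n, hn, hnu, hnS⟩ := D.extremal D.z_mem hzS hg hgu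
    have huu : u * u = 1 := by
      have h1 : g * (u * u) * g⁻¹ = 1 := by
        rw [show g * (u * u) * g⁻¹ = g * u * g⁻¹ * (g * u * g⁻¹) by group, hgu, D.zz]
      exact conj_eq_one_iff.1 h1
    have h1 : n * D.s * n⁻¹ ∈ D.S := hnS D.s D.s_mem (hsS u hu).symm
    have h2 : n * D.s * n⁻¹ * (n * D.s * n⁻¹) = n * D.z * n⁻¹ := by rw [Setup.z]; group
    rcases hsq _ h1 (by
      rw [h2, show n * D.z * n⁻¹ * (n * D.z * n⁻¹) = n * (D.z * D.z) * n⁻¹ by group, D.zz]
      simp) with h | h <;> rw [h2] at h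
    · exact absurd (conj_eq_one_iff.1 h) D.z_ne
    · exact mul_left_cancel (mul_right_cancel (hnu.trans h.symm))
  -- the subgroup `Q = ⟨c, x s⟩`
  obtain ⟨w, hw⟩ := B.w
  have hz2 : D.z = c ^ (2 * w) := by rw [mul_comm, zpow_mul, hw, zpow_two, F.sU_sq F.v_U]
  set r := x * D.s with hr
  have hrr : r * r = D.z := by
    rw [hr, show x * D.s * (x * D.s) = x * (D.s * x) * D.s by group, ← hxs,
      show x * (x * D.s) * D.s = x * x * (D.s * D.s) by group, B.xx, one_mul]; rfl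
  have hrd : ∀ i : ℤ, c ^ i * r = r * c ^ (-i) := fun i => by
    rw [hr, ← mul_assoc, B.x_comm, mul_assoc, hcs, ← mul_assoc]
  let Q : Subgroup X :=
    { carrier := {g | ∃ i : ℤ, g = c ^ i ∨ g = r * c ^ i}
      one_mem' := ⟨0, Or.inl (by simp)⟩
      mul_mem' := by
        rintro g g' ⟨i, rfl | rfl⟩ ⟨j, rfl | rfl⟩
        · exact ⟨i + j, Or.inl (by rw [zpow_add])⟩
        · exact ⟨-i + j, Or.inr (by rw [zpow_add, ← mul_assoc, hrd, mul_assoc])⟩
        · exact ⟨i + j, Or.inr (by rw [zpow_add, mul_assoc])⟩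
        · refine ⟨2 * w + (-i + j), Or.inl ?_⟩
          rw [show r * c ^ i * (r * c ^ j) = r * (c ^ i * r) * c ^ j by group, hrd, ← mul_assoc,
            hrr, hz2, zpow_add, zpow_add, mul_assoc]
      inv_mem' := by
        rintro g ⟨i, rfl | rfl⟩
        · exact ⟨-i, Or.inl (by rw [zpow_neg])⟩
        · refine ⟨i + 2 * w, Or.inr ?_⟩
          have hri : r⁻¹ = r * D.z := inv_eq_of_mul_eq_one_right (by rw [← mul_assoc, hrr, D.zz])
          rw [mul_inv_rev, hri, ← zpow_neg, ← mul_assoc, hrd, neg_neg, hz2, zpow_add, mul_assoc] }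
  have hQS : Q ≤ D.S := by
    rintro g ⟨i, rfl | rfl⟩
    · exact zpow_mem B.cS i
    · exact D.S.mul_mem (D.S.mul_mem B.xS D.s_mem) (zpow_mem B.cS i)
  have hvs : v = c ^ (-w) * D.s := by
    rw [hcs, zpow_neg, hw, mul_inv_rev, F.v_inv, ← mul_assoc, F.s_comm, mul_inv_cancel_right]
  have hcases : ∀ g ∈ D.S, g ∈ Q ∨ D.s * g ∈ Q := by
    intro g hg
    obtain ⟨i, rfl | rfl | rfl | rfl⟩ := B.cases g hg
    · exact Or.inl ⟨i, Or.inl rfl⟩
    · refine Or.inr ⟨i + -w + 2 * w, Or.inl ?_⟩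
      rw [hvs, zpow_add, zpow_add, ← hz2, Setup.z,
        show D.s * (c ^ i * (c ^ (-w) * D.s)) = D.s * (c ^ i * c ^ (-w)) * D.s by group,
        ← zpow_add, ← hcs, mul_assoc]
    · refine Or.inr ⟨i, Or.inr ?_⟩
      rw [← mul_assoc, ← hxs]
    · refine Or.inl ⟨i + -w, Or.inr ?_⟩
      rw [hvs]
      calc x * c ^ i * (c ^ (-w) * D.s) = x * (c ^ i * c ^ (-w) * D.s) := by group
        _ = x * (D.s * c ^ (i + -w)) := by rw [← zpow_add, hcs]
        _ = r * c ^ (i + -w) := (mul_assoc _ _ _).symm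
  have hsQ : D.s ∉ Q := by
    rintro ⟨i, h | h⟩
    · have h1 : c ^ (w - i) = v := by
        rw [zpow_sub, hw, ← h, F.s_comm, mul_inv_cancel_right]
      exact B.c_ne_v _ h1
    · refine B.x_nmem i ?_
      have h1 : D.s = D.s * (x * c ^ i) := by
        rw [← mul_assoc, ← hxs]; exact h
      rw [mul_eq_left.1 h1.symm]
      exact F.one_U
  have hnorm : ∀ k ∈ Q, ∀ g ∈ D.S, g * k * g⁻¹ ∈ Q := by
    intro k hk g hg
    rcases hcases g hg with h | h
    · exact Q.mul_mem (Q.mul_mem h hk) (Q.inv_mem h)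
    · have := Q.mul_mem (Q.mul_mem h hk) (Q.inv_mem h)
      rwa [show D.s * g * k * (D.s * g)⁻¹ = D.s * (g * k * g⁻¹) * D.s⁻¹ by group,
        ← hsS _ (D.S.mul_mem (D.S.mul_mem hg (hQS hk)) (D.S.inv_mem hg)),
        mul_inv_cancel_right] at this
  -- an element of order four of `Q` with square `z` is inverted in `S`
  have hqinv : ∀ q ∈ Q, q * q = D.z → ∃ g ∈ D.A, g * q * g⁻¹ = q⁻¹ := by
    rintro q ⟨i, rfl | rfl⟩ hqq
    · exact ⟨x, B.xS.2, by rw [B.xi, B.x_zpow, zpow_neg]⟩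
    · refine ⟨c ^ w, D.A.zpow_mem B.cS.2 w, ?_⟩
      have hqi : (r * c ^ i)⁻¹ = r * c ^ i * D.z :=
        inv_eq_of_mul_eq_one_right (by rw [← mul_assoc, hqq, D.zz])
      rw [hqi, ← zpow_neg, ← mul_assoc, hrd, mul_assoc r, mul_assoc r, mul_assoc r,
        ← zpow_add, ← zpow_add]
      congr 1
      calc c ^ (-w + i + -w) = c ^ i * c ^ (-(2 * w)) := by rw [← zpow_add]; congr 1; ring
        _ = c ^ i * D.z := by rw [zpow_neg, ← hz2, D.z_inv]
  have hsinv : ¬ ∃ g ∈ D.A, g * D.s * g⁻¹ = D.s⁻¹ := by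
    rintro ⟨g, hg, hgs⟩
    obtain ⟨n, hn, hnN, hns⟩ := D.burnside hsS (D.S.inv_mem D.s_mem)
      (fun g hg => ((show Commute g D.s from hsS g hg).inv_right).eq) hg hgs
    have h2 : n * D.s⁻¹ * n⁻¹ = D.s := by
      rw [show n * D.s⁻¹ * n⁻¹ = (n * D.s * n⁻¹)⁻¹ by group, hns, inv_inv]
    exact D.z_ne (eq_inv_iff_mul_eq_one.1 (D.no_swap hn hnN hsS hns h2))
  refine D.transfer_false Q hQS hnorm ?_ D.s_mem hsQ fun m a ha hmem => ?_
  · intro g hg h hh
    have hzQ : D.z ∈ Q := ⟨2 * w, Or.inl hz2⟩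
    rcases hcases h hh with h' | h'
    · exact Q.mul_mem (hnorm h h' g hg) (Q.inv_mem h')
    · have h1 := Q.mul_mem (hnorm _ h' g hg) (Q.inv_mem h')
      rwa [show g * (D.s * h) * g⁻¹ * (D.s * h)⁻¹ = g * D.s * (h * g⁻¹ * h⁻¹) * D.s⁻¹ by group,
        mul_assoc g D.s, ← hsS (h * g⁻¹ * h⁻¹)
          (D.S.mul_mem (D.S.mul_mem hh (D.S.inv_mem hg)) (D.S.inv_mem hh)),
        show g * (h * g⁻¹ * h⁻¹ * D.s) * D.s⁻¹ = g * h * g⁻¹ * h⁻¹ by group] at h1
  · have hzQ : D.z ∈ Q := ⟨2 * w, Or.inl hz2⟩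
    obtain ⟨l, rfl | rfl⟩ := Int.even_or_odd' m
    · rw [zpow_mul, zpow_two] at hmem ⊢
      obtain ⟨l', rfl | rfl⟩ := Int.even_or_odd' l
      · rw [show D.s * D.s = D.z from rfl, zpow_mul, zpow_two, D.zz, one_zpow]
        simp
      · have e : D.z ^ (2 * l' + 1) = D.z := by
          rw [zpow_add, zpow_mul, zpow_two, D.zz, one_zpow, one_mul, zpow_one]
        rw [show D.s * D.s = D.z from rfl, e] at hmem ⊢
        rw [hziso _ hmem (Fused.of_conj ha rfl).symm, mul_inv_cancel]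
        exact Q.one_mem
    · set e := D.s ^ (2 * l + 1) with he
      have hese : e = D.s ∨ e = D.s⁻¹ := by
        have hs4 : ∀ j : ℤ, D.s ^ (4 * j) = 1 := fun j => by
          rw [zpow_mul, show (4 : ℤ) = 2 + 2 from rfl, zpow_add, zpow_two,
            show D.s * D.s = D.z from rfl, D.zz, one_zpow]
        obtain ⟨l', rfl | rfl⟩ := Int.even_or_odd' l
        · left
          rw [he, show 2 * (2 * l') + 1 = 4 * l' + 1 by ring, zpow_add, hs4, one_mul, zpow_one]
        · right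
          rw [he, show 2 * (2 * l' + 1) + 1 = 4 * (l' + 1) + -1 by ring, zpow_add, hs4, one_mul,
            zpow_neg_one]
      have hee : e * e = D.z := by
        rcases hese with h | h <;> rw [h]
        · rfl
        · rw [← mul_inv_rev]; exact D.z_inv
      set s' := a * e * a⁻¹ with hs'
      have hs'2 : s' * s' = D.z := by
        have hmem' : a * D.z * a⁻¹ ∈ D.S := by
          rw [← hee, show a * (e * e) * a⁻¹ = s' * s' by rw [hs']; group]
          exact D.S.mul_mem hmem hmem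
        rw [hs', show a * e * a⁻¹ * (a * e * a⁻¹) = a * (e * e) * a⁻¹ by group, hee]
        exact hziso _ hmem' (Fused.of_conj ha rfl).symm
      have hs'Q : s' ∉ Q := by
        intro hQ'
        apply hsinv
        obtain ⟨g, hg, hgq⟩ := hqinv s' hQ' hs'2
        refine ⟨a⁻¹ * g * a, D.A.mul_mem (D.A.mul_mem (D.A.inv_mem ha) hg) ha, ?_⟩
        have h1 : a⁻¹ * g * a * e * (a⁻¹ * g * a)⁻¹ = e⁻¹ := by
          rw [show a⁻¹ * g * a * e * (a⁻¹ * g * a)⁻¹ = a⁻¹ * (g * s' * g⁻¹) * a by rw [hs']; group,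
            hgq, hs']; group
        rcases hese with h | h <;> rw [h] at h1
        · exact h1
        · rw [show a⁻¹ * g * a * D.s⁻¹ * (a⁻¹ * g * a)⁻¹ =
            (a⁻¹ * g * a * D.s * (a⁻¹ * g * a)⁻¹)⁻¹ by group, inv_inv] at h1
          exact inv_eq_iff_eq_inv.1 h1
      have hs'' : D.s * s' ∈ Q := (hcases s' hmem).resolve_left hs'Q
      have hzinv : e⁻¹ = e * D.z := inv_eq_of_mul_eq_one_right (by rw [← mul_assoc, hee, D.zz])
      rcases hese with h | h
      · rw [hzinv, h, ← mul_assoc, hsS s' hmem]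
        exact Q.mul_mem hs'' hzQ
      · rw [h, inv_inv, hsS s' hmem]
        exact hs''

theorem false (B : CaseB F x c) : False := by
  by_cases h : x * v = v * x
  · exact B.prod_false h
  · exact B.central_false h

end CaseB

/-- Case B is impossible. -/
theorem Four.no_invol_outside {v : X} (F : Four D v) {x : X} (hxS : x ∈ D.S) (hxx : x * x = 1) :
    x ∈ F.U := by
  by_contra hxU
  obtain ⟨v', F', c, B⟩ := F.exists_caseB hxS hxx hxU
  exact B.false

end Cfsg.Agent.Lib.InvFourCyclic
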