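/-
All involutions of `S` lie in the invariant four-group: this contradicts the perfectness of `A`.
-/
import Cfsg.Agent.Lib.InvFourCyclic.CaseB
import Cfsg.Agent.S0949

set_option autoImplicit false
set_option linter.unusedSectionVars false

namespace Cfsg.Agent.Lib.InvFourCyclic

open Subgroup

universe u

variable {X : Type u} [Group X] [Finite X] {D : Setup X}

/-- The index-two subgroup `⟨k⟩U` of `T`. -/
def Gen.K {v k : X} {F : Four D v} (G : Gen F k) : Subgroup X where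
  carrier := {g | ∃ i : ℤ, ∃ u ∈ F.U, g = k ^ i * u}
  one_mem' := ⟨0, 1, F.one_U, by simp⟩
  mul_mem' := by
    rintro g g' ⟨i, u, hu, rfl⟩ ⟨j, u', hu', rfl⟩
    refine ⟨i + j, (k ^ j)⁻¹ * u * k ^ j * u', F.U.mul_mem ?_ hu', ?_⟩
    · have := F.U_norm (inv_mem (zpow_mem G.kT j)) hu
      rwa [inv_inv] at this
    · rw [zpow_add]; group
  inv_mem' := by
    rintro g ⟨i, u, hu, rfl⟩
    refine ⟨-i, k ^ i * u⁻¹ * (k ^ i)⁻¹, F.U_norm (zpow_mem G.kT i) (F.U.inv_mem hu), ?_⟩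
    rw [zpow_neg]; group

namespace Gen

variable {v k : X} {F : Four D v}

theorem K_le (G : Gen F k) : G.K ≤ D.T := by
  rintro g ⟨i, u, hu, rfl⟩
  exact D.T.mul_mem (zpow_mem G.kT i) (F.S_U_T hu)

theorem k_mem (G : Gen F k) : k ∈ G.K := ⟨1, 1, F.one_U, by simp⟩

theorem U_le_K (G : Gen F k) : F.U ≤ G.K := fun u hu => ⟨0, u, hu, by simp⟩

theorem t_notMem (G : Gen F k) : D.t ∉ G.K := fun ⟨i, u, hu, h⟩ => G.t_ne i u hu h

theorem mem_or (G : Gen F k) {g : X} (hg : g ∈ D.T) : g ∈ G.K ∨ D.t * g ∈ G.K := by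
  obtain ⟨i, u, hu, h | h⟩ := G.cases g hg
  · exact Or.inl ⟨i, u, hu, h⟩
  · refine Or.inr ⟨i, u, hu, ?_⟩
    rw [h, ← mul_assoc, ← mul_assoc, D.tt, one_mul]

theorem index_two (G : Gen F k) : (G.K.subgroupOf D.T).index = 2 := by
  rw [index_eq_two_iff']
  refine ⟨⟨D.t, D.tT⟩, fun ⟨b, hb⟩ => ?_⟩
  simp only [mem_subgroupOf, Subgroup.coe_mul]
  rcases G.mem_or hb with h | h
  · refine Or.inr ⟨h, fun h' => G.t_notMem ?_⟩
    simpa using G.K.mul_mem h' (G.K.inv_mem h)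
  · refine Or.inl ⟨h, fun h' => G.t_notMem ?_⟩
    simpa using G.K.mul_mem h (G.K.inv_mem h')

theorem sq_mem (G : Gen F k) {g : X} (hg : g ∈ D.T) : g * g ∈ G.K :=
  mem_subgroupOf.1 (mul_self_mem_of_index_two G.index_two ⟨g, hg⟩)

theorem mul_mem_of_notMem (G : Gen F k) {a b : X} (ha : a ∈ D.T) (hb : b ∈ D.T) (ha' : a ∉ G.K)
    (hb' : b ∉ G.K) : a * b ∈ G.K :=
  mem_subgroupOf.1 ((mul_mem_iff_of_index_two G.index_two (a := ⟨a, ha⟩) (b := ⟨b, hb⟩)).2
    (iff_of_false (fun h => ha' (mem_subgroupOf.1 h)) (fun h => hb' (mem_subgroupOf.1 h))))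

theorem K_conj (G : Gen F k) {g y : X} (hg : g ∈ D.T) (hy : y ∈ G.K) : g * y * g⁻¹ ∈ G.K :=
  mem_subgroupOf.1 ((normal_of_index_eq_two G.index_two).conj_mem ⟨y, G.K_le hy⟩
    (mem_subgroupOf.2 hy) ⟨g, hg⟩)

/-- An involution of `K` modulo `U` lies in `sU`. -/
theorem invol_mem (G : Gen F k) {y : X} (hy : y ∈ G.K) (hyU : y ∉ F.U) (hyy : y * y ∈ F.U) :
    ∃ u ∈ F.U, y = D.s * u := by
  obtain ⟨i, u, hu, rfl⟩ := hy
  have hi : k ^ i ∉ F.U := fun h => hyU (F.U.mul_mem h hu)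
  have h2 : k ^ (2 * i) ∈ F.U := by
    rw [two_mul, zpow_add, show k ^ i * k ^ i =
      (k ^ i * u * (k ^ i)⁻¹)⁻¹ * (k ^ i * u * (k ^ i * u)) * u⁻¹ by group]
    exact F.U.mul_mem (F.U.mul_mem (F.U.inv_mem (F.U_norm (zpow_mem G.kT i) hu)) hyy)
      (F.U.inv_mem hu)
  obtain ⟨u', hu', h⟩ := G.invol i hi h2
  exact ⟨u' * u, F.U.mul_mem hu' hu, by rw [h, mul_assoc]⟩

theorem k_notMem_U (G : Gen F k) : k ∉ F.U := by
  intro hk
  have hK : ∀ g ∈ G.K, g ∈ F.U := by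
    rintro g ⟨i, u, hu, rfl⟩
    exact F.U.mul_mem (F.U.zpow_mem hk i) hu
  rcases G.mem_or D.sT with h | h
  · exact F.s_notMem (hK _ h)
  · apply D.tA
    have := D.A.mul_mem (F.U_le (hK _ h)).2 (D.A.inv_mem D.sA)
    rwa [mul_inv_cancel_right] at this

theorem exists_top (G : Gen F k) {y : X} (hy : y ∈ D.T) (hyU : y ∉ F.U) :
    ∃ l : ℕ, y ^ 2 ^ l ∉ F.U ∧ y ^ 2 ^ (l + 1) ∈ F.U := by
  classical
  obtain ⟨n, hn⟩ := IsPGroup.iff_orderOf.1 D.Tp ⟨y, hy⟩
  rw [Subgroup.orderOf_mk] at hn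
  have hex : ∃ j : ℕ, y ^ 2 ^ j ∈ F.U := ⟨n, by rw [← hn, pow_orderOf_eq_one]; exact F.one_U⟩
  have h0 : Nat.find hex ≠ 0 := fun h => hyU (by
    have := Nat.find_spec hex
    rwa [h, pow_zero, pow_one] at this)
  obtain ⟨l, hl⟩ : ∃ l, Nat.find hex = l + 1 := ⟨Nat.find hex - 1, by omega⟩
  exact ⟨l, Nat.find_min hex (by omega), hl ▸ Nat.find_spec hex⟩

theorem s_mem (G : Gen F k) : D.s ∈ G.K := by
  obtain ⟨l, h1, h2⟩ := G.exists_top G.kT G.k_notMem_U
  obtain ⟨u, hu, h⟩ := G.invol_mem (G.K.pow_mem G.k_mem _) h1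
    (by rw [← pow_add, ← two_mul, ← pow_succ']; exact h2)
  have : D.s = k ^ 2 ^ l * u⁻¹ := by rw [h, mul_inv_cancel_right]
  rw [this]
  exact G.K.mul_mem (G.K.pow_mem G.k_mem _) (G.K.inv_mem (G.U_le_K hu))

/-- Powers of `k` lying in `U` lie in `⟨z⟩`. -/
theorem zpow_mem_U (G : Gen F k) {j : ℤ} (hj : k ^ j ∈ F.U) : k ^ j = 1 ∨ k ^ j = D.z := by
  have key : ∀ n : ℕ, ∀ j : ℤ, j.natAbs ≤ n → k ^ j ∈ F.U → k ^ j = 1 ∨ k ^ j = D.z := by
    intro n
    induction n with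
    | zero =>
      intro j hj _
      left
      rw [Int.natAbs_eq_zero.1 (Nat.le_zero.1 hj), zpow_zero]
    | succ n ih =>
      intro j hj hjU
      obtain ⟨m, rfl | rfl⟩ := Int.even_or_odd' j
      · by_cases hm : k ^ m ∈ F.U
        · left; rw [mul_comm, zpow_mul, zpow_two]; exact F.U_sq hm
        · obtain ⟨u, hu, h⟩ := G.invol m hm hjU
          right; rw [mul_comm, zpow_mul, h, zpow_two, F.sU_sq hu]
      · exact absurd (F.odd_zpow_mem G.kT ⟨m, rfl⟩ hjU) G.k_notMem_U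
  exact key _ j le_rfl hj

end Gen

namespace Four

variable {v : X} (F : Four D v)
include F

/-- The quotient of `A` by a maximal normal subgroup of odd order cannot have a Sylow subgroup
`Z₄ × Z₄`. -/
theorem homocyclic_false
    (e : ↥D.S ≃* Multiplicative (ZMod (2 ^ 2) × ZMod (2 ^ 2))) : False := by
  classical
  haveI : Fact (Nat.Prime 2) := ⟨Nat.prime_two⟩
  obtain ⟨N, ⟨hNn, hNo⟩, hNmax⟩ := Set.Finite.exists_maximalFor
    (fun N : Subgroup ↥D.A => Nat.card N) {N : Subgroup ↥D.A | N.Normal ∧ Odd (Nat.card N)}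
    (Set.toFinite _) ⟨⊥, inferInstance, by simp⟩
  haveI := hNn
  let q := QuotientGroup.mk' N
  have hq : Function.Surjective q := QuotientGroup.mk'_surjective _
  have hSp : IsPGroup 2 (D.S.subgroupOf D.A) := D.Sp.comap_subtype
  obtain ⟨Q, hQ⟩ := hSp.exists_le_sylow
  have hQe : (Q : Subgroup ↥D.A) = D.S.subgroupOf D.A := by
    refine le_antisymm (fun x hx => mem_subgroupOf.2 ?_) hQ
    have hQm : (Q : Subgroup ↥D.A).map D.A.subtype = D.S := by
      refine D.Tmax' _ (Q.2.map _) (map_subtype_le _) ?_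
      intro x hx
      exact ⟨⟨x, hx.2⟩, hQ (mem_subgroupOf.2 hx), rfl⟩
    rw [← hQm]; exact ⟨x, hx, rfl⟩
  let P : Sylow 2 (↥D.A ⧸ N) := Q.mapSurjective hq
  have hinj : Function.Injective ((q.comp (Q : Subgroup ↥D.A).subtype)) := by
    rw [← MonoidHom.ker_eq_bot_iff, eq_bot_iff]
    intro x hx
    rw [MonoidHom.mem_ker, MonoidHom.comp_apply, QuotientGroup.mk'_apply,
      QuotientGroup.eq_one_iff] at hx
    obtain ⟨n, hn⟩ := IsPGroup.iff_orderOf.1 Q.2 x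
    have h1 : orderOf x ∣ Nat.card N := by
      rw [← Subgroup.orderOf_coe]
      have := orderOf_dvd_natCard (⟨(x : ↥D.A), hx⟩ : N)
      rwa [← Subgroup.orderOf_coe] at this
    rw [hn] at h1
    rcases n with _ | n
    · rw [mem_bot]; exact orderOf_eq_one_iff.1 (by simpa using hn)
    · exact absurd (even_iff_two_dvd.2 ((dvd_pow_self 2 n.succ_ne_zero).trans h1))
        (Nat.not_even_iff_odd.2 hNo)
  have hPe : (P : Subgroup (↥D.A ⧸ N)) = (q.comp (Q : Subgroup ↥D.A).subtype).range := by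
    rw [MonoidHom.range_comp, Subgroup.range_subtype]; rfl
  let e₁ : ↥(Q : Subgroup ↥D.A) ≃* ↥D.S :=
    (MulEquiv.subgroupCongr hQe).trans (subgroupOfEquivOfLe D.S_le_A)
  let e₂ : ↥(P : Subgroup (↥D.A ⧸ N)) ≃* Multiplicative (ZMod (2 ^ 2) × ZMod (2 ^ 2)) :=
    ((MulEquiv.subgroupCongr hPe).trans (MonoidHom.ofInjective hinj).symm).trans (e₁.trans e)
  obtain ⟨hPn, -, hidx⟩ := S0949.result P 2 le_rfl e₂ (fun M hM hodd => by
    by_contra hne
    haveI := hM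
    have hcard : Nat.card (M.comap q) = Nat.card N * Nat.card M := by
      have h1 := (M.comap q).card_mul_index
      have h2 := M.card_mul_index
      rw [index_comap_of_surjective _ hq] at h1
      have h3 := N.card_mul_index
      rw [show N.index = Nat.card (↥D.A ⧸ N) from rfl] at h3
      have h4 : 0 < M.index := Nat.pos_of_ne_zero Subgroup.index_ne_zero_of_finite
      apply Nat.eq_of_mul_eq_mul_right h4
      rw [h1, mul_assoc, h2, h3]
    have hodd' : Odd (Nat.card (M.comap q)) := by rw [hcard]; exact hNo.mul hodd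
    have hle : Nat.card N ≤ Nat.card (M.comap q) := by
      rw [hcard]; exact Nat.le_mul_of_pos_right _ Nat.card_pos
    have := hNmax ⟨hM.comap q, hodd'⟩ hle
    simp only [hcard] at this
    have hM1 : Nat.card M = 1 := by
      have h5 : 0 < Nat.card N := Nat.card_pos
      have h6 : 0 < Nat.card M := Nat.card_pos
      nlinarith
    exact hne (Subgroup.card_eq_one.1 hM1))
  haveI := hPn
  have hQperf : commutator (↥D.A ⧸ N) = ⊤ := by
    rw [_root_.commutator_def, ← MonoidHom.range_eq_top.2 hq, MonoidHom.range_eq_map,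
      ← map_commutator, ← _root_.commutator_def, D.perfect]
  haveI hcyc : IsCyclic ((↥D.A ⧸ N) ⧸ (P : Subgroup (↥D.A ⧸ N))) := by
    rcases hidx with h | h
    · haveI : Subsingleton ((↥D.A ⧸ N) ⧸ (P : Subgroup (↥D.A ⧸ N))) :=
        (Nat.card_eq_one_iff_unique.1 h).1
      exact isCyclic_of_subsingleton
    · haveI : Fact (Nat.Prime 3) := ⟨Nat.prime_three⟩
      exact isCyclic_of_prime_card (p := 3) h
  have hle : commutator (↥D.A ⧸ N) ≤ (P : Subgroup (↥D.A ⧸ N)) := by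
    rw [_root_.commutator_def, commutator_le]
    intro a _ b _
    rw [← QuotientGroup.eq_one_iff, ← QuotientGroup.mk'_apply, map_commutatorElement,
      commutatorElement_eq_one_iff_mul_comm]
    letI := IsCyclic.commGroup (α := (↥D.A ⧸ N) ⧸ (P : Subgroup (↥D.A ⧸ N)))
    exact mul_comm _ _
  rw [hQperf, top_le_iff] at hle
  have hcomm : ∀ a b : ↥D.A ⧸ N, a * b = b * a := fun a b => congrArg Subtype.val
    (e₂.injective (by rw [map_mul, map_mul, mul_comm]) :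
      (⟨a, hle ▸ mem_top a⟩ : (P : Subgroup (↥D.A ⧸ N))) * ⟨b, hle ▸ mem_top b⟩ =
        ⟨b, hle ▸ mem_top b⟩ * ⟨a, hle ▸ mem_top a⟩)
  have hbot : commutator (↥D.A ⧸ N) = ⊥ := by
    rw [_root_.commutator_def, eq_bot_iff, commutator_le]
    intro a _ b _
    rw [mem_bot, commutatorElement_eq_one_iff_mul_comm]
    exact hcomm a b
  have h16 : Nat.card (P : Subgroup (↥D.A ⧸ N)) = 16 := by
    rw [Nat.card_congr e₂.toEquiv, Nat.card_congr Multiplicative.toAdd, Nat.card_prod,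
      Nat.card_zmod]; norm_num
  rw [hle, Subgroup.card_top] at h16
  have h1 := Subgroup.card_top (G := ↥D.A ⧸ N)
  rw [← hQperf, hbot, Subgroup.card_bot] at h1
  omega

variable (hinv : ∀ x ∈ D.S, x * x = 1 → x ∈ F.U)

/-- `v` is not fused to `z`. -/
theorem not_fused (hinv : ∀ x ∈ D.S, x * x = 1 → x ∈ F.U) :
    ¬ CaseB.Fused D v D.z := by
  rintro ⟨g, hg, hgv⟩
  obtain ⟨k, G⟩ := F.exists_gen
  have hzS : ∀ x ∈ D.S, x * D.z = D.z * x := fun x hx => F.zc x hx.1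
  obtain ⟨n, hn, hnv, hnS⟩ := D.extremal D.z_mem hzS hg hgv
  have hUc : ∀ x ∈ F.U, x * v = v * x := fun x hx => F.U_comm hx F.v_U
  have hnU : ∀ x ∈ F.U, n * x * n⁻¹ ∈ F.U := fun x hx =>
    hinv _ (hnS x (F.U_le hx) (hUc x hx)) (by
      rw [show n * x * n⁻¹ * (n * x * n⁻¹) = n * (x * x) * n⁻¹ by group, F.U_sq hx]; simp)
  have hnz : n * D.z * n⁻¹ ≠ D.z := fun h =>
    F.vnz (mul_left_cancel (mul_right_cancel (hnv.trans h.symm)))
  obtain ⟨g₁, hg₁, hg₁R⟩ := F.frattini hnU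
  have hg₁z : g₁ * D.z * g₁⁻¹ ≠ D.z := by rw [hg₁ _ F.z_U]; exact hnz
  have hg₁zU : g₁ * D.z * g₁⁻¹ ∈ F.U := by rw [hg₁ _ F.z_U]; exact hnU _ F.z_U
  have hS₀ : ∀ y ∈ D.S, y * v = v * y → g₁ * y * g₁⁻¹ ∈ D.S ∧
      g₁ * y * g₁⁻¹ * v = v * (g₁ * y * g₁⁻¹) := by
    intro y hy hyv
    obtain ⟨h1, h2⟩ := hg₁R y hy.1 (fun x hx => F.comm_U hy.1 hyv hx)
    exact ⟨⟨h1, D.conjA _ hy.2⟩, h2 v F.v_U⟩
  have hsq_ne : g₁ * D.z * g₁⁻¹ ≠ 1 := fun h => D.z_ne (conj_eq_one_iff.1 h)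
  by_cases hex : ∃ y ∈ D.S, y * v = v * y ∧ y * y ∉ F.U
  · obtain ⟨y, hy, hyv, hyy⟩ := hex
    have hyU : y ∉ F.U := fun h => hyy (by rw [F.U_sq h]; exact F.one_U)
    obtain ⟨l, hl1, hl2⟩ := G.exists_top hy.1 hyU
    obtain ⟨l, rfl⟩ : ∃ l', l = l' + 1 := by
      rcases l with _ | l
      · exact absurd (by simpa [pow_two] using hl2) hyy
      · exact ⟨l, rfl⟩
    set b := y ^ 2 ^ l with hb
    have hbb : b * b = y ^ 2 ^ (l + 1) := by rw [hb, ← pow_add, ← two_mul, ← pow_succ']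
    have hbS : b ∈ D.S := D.S.pow_mem hy _
    have hbv : b * v = v * b := ((show Commute y v from hyv).pow_left _).eq
    obtain ⟨u, hu, hbu⟩ := G.invol_mem (G.sq_mem hbS.1) (by rw [hbb]; exact hl1)
      (by rw [hbb, ← pow_add, ← two_mul, ← pow_succ']; exact hl2)
    obtain ⟨hb'S, hb'v⟩ := hS₀ b hbS hbv
    set b' := g₁ * b * g₁⁻¹ with hb'
    have hsq : b' * b' * (b' * b') = g₁ * D.z * g₁⁻¹ := by
      rw [show b' * b' * (b' * b') = g₁ * (b * b * (b * b)) * g₁⁻¹ by rw [hb']; group, hbu,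
        F.sU_sq hu]
    have hnU' : b' * b' ∉ F.U := fun h => hsq_ne (by rw [← hsq, F.U_sq h])
    obtain ⟨u', hu', hbu'⟩ := G.invol_mem (G.sq_mem hb'S.1) hnU' (by rw [hsq]; exact hg₁zU)
    rw [hbu', F.sU_sq hu'] at hsq
    exact hg₁z hsq.symm
  push Not at hex
  -- `C_S(U) / U` has exponent two
  set a := g₁ * D.s * g₁⁻¹ with hadef
  obtain ⟨haS, hav⟩ := hS₀ D.s D.s_mem F.s_comm
  set v' := g₁ * D.z * g₁⁻¹ with hv'
  have haa : a * a = v' := by rw [hadef, hv', Setup.z]; group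
  have haK : a ∉ G.K := by
    intro h
    have haU : a ∉ F.U := fun h' => hsq_ne (by rw [← haa, F.U_sq h'])
    obtain ⟨u, hu, hau⟩ := G.invol_mem h haU (by rw [haa]; exact hg₁zU)
    rw [hau, F.sU_sq hu] at haa
    exact hg₁z haa.symm
  have hSKU : ∀ y ∈ D.S, y * v = v * y → y ∈ G.K → y ∈ F.U ∨ ∃ u ∈ F.U, y = D.s * u := by
    intro y hy hyv hyK
    by_cases h : y ∈ F.U
    · exact Or.inl h
    · exact Or.inr (G.invol_mem hyK h (hex y hy hyv))
  have hcases : ∀ y ∈ D.S, y * v = v * y → y ∈ F.U ∨ (∃ u ∈ F.U, y = D.s * u) ∨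
      (∃ u ∈ F.U, y = a * u) ∨ ∃ u ∈ F.U, y = a * D.s * u := by
    intro y hy hyv
    by_cases hyK : y ∈ G.K
    · rcases hSKU y hy hyv hyK with h | h
      · exact Or.inl h
      · exact Or.inr (Or.inl h)
    · have h1 : a⁻¹ * y ∈ G.K := G.mul_mem_of_notMem (D.T.inv_mem haS.1) hy.1
        (fun h => haK (inv_inv a ▸ G.K.inv_mem h)) hyK
      have h2 : a⁻¹ * y * v = v * (a⁻¹ * y) :=
        ((show Commute a v from hav).inv_left.mul_left (show Commute y v from hyv)).eq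
      rcases hSKU _ (D.S.mul_mem (D.S.inv_mem haS) hy) h2 h1 with h | ⟨u, hu, h⟩
      · exact Or.inr (Or.inr (Or.inl ⟨_, h, (mul_inv_cancel_left a y).symm⟩))
      · exact Or.inr (Or.inr (Or.inr ⟨u, hu, by rw [mul_assoc, ← h, mul_inv_cancel_left]⟩))
  have hv'n : v' ≠ D.z ∧ D.t * v' * D.t = v' * D.z ∧ v' ∈ F.U := by
    refine ⟨hg₁z, ?_, hg₁zU⟩
    rcases hg₁zU with h | h | h | h
    · exact absurd h hsq_ne
    · exact absurd h hg₁z
    · rw [h]; exact F.tv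
    · rw [h]; exact F.flip.tv
  have haU : ∀ u ∈ F.U, Commute a u := fun u hu => F.comm_U haS.1 hav hu
  have hsU : ∀ u ∈ F.U, Commute D.s u := fun u hu => F.s_comm_U hu
  -- `t a t ∈ a s U`
  set a' := D.t * a * D.t with ha'
  have ha'S : a' ∈ D.S := D.tConj_mem haS
  have ha'sq : a' * a' = v' * D.z := by rw [ha', ← D.tConj_mul, haa, hv'n.2.1]
  have ha'v : a' * v = v * a' := by
    have e : D.t * (v * D.z) * D.t = v := by rw [F.flip.tv, mul_assoc, D.zz, mul_one]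
    calc a' * v = D.t * (a * (v * D.z)) * D.t := by rw [D.tConj_mul a, e]
      _ = D.t * (v * D.z * a) * D.t := by rw [(haU _ (Or.inr (Or.inr (Or.inr rfl)))).eq]
      _ = v * a' := by rw [D.tConj_mul (v * D.z), e]
  obtain ⟨u₀, hu₀, ha'u⟩ : ∃ u ∈ F.U, a' = a * D.s * u := by
    rcases hcases a' ha'S ha'v with h | ⟨u, hu, h⟩ | ⟨u, hu, h⟩ | h
    · exfalso
      rw [F.U_sq h] at ha'sq
      exact hg₁z (show v' = D.z by rw [eq_inv_of_mul_eq_one_left ha'sq.symm, D.z_inv])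
    · exfalso
      rw [h, F.sU_sq hu] at ha'sq
      exact hsq_ne (mul_eq_right.1 ha'sq.symm)
    · exfalso
      rw [h, show a * u * (a * u) = a * (u * a) * u by group, ← (haU u hu).eq,
        show a * (a * u) * u = a * a * (u * u) by group, F.U_sq hu, haa, mul_one] at ha'sq
      exact D.z_ne (mul_eq_left.1 ha'sq.symm)
    · exact h
  have hasc : Commute a D.s := by
    rw [ha'u, show a * D.s * u₀ * (a * D.s * u₀) = a * D.s * (u₀ * (a * D.s)) * u₀ by group,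
      ← ((haU u₀ hu₀).mul_left (hsU u₀ hu₀)).eq,
      show a * D.s * (a * D.s * u₀) * u₀ = a * D.s * a * D.s * (u₀ * u₀) by group, F.U_sq hu₀,
      mul_one, ← haa, show a * a * D.z = a * a * D.s * D.s by rw [Setup.z, ← mul_assoc]] at ha'sq
    have h1 := mul_right_cancel ha'sq
    rw [mul_assoc a D.s a, mul_assoc a a D.s] at h1
    exact (mul_left_cancel h1).symm
  by_cases hall : ∀ y ∈ D.S, y * v = v * y
  · -- `S` is homocyclic of order 16
    have hs4 : D.s ^ 4 = 1 := by rw [← D.hs, pow_orderOf_eq_one]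
    have ha4 : a ^ 4 = 1 := by
      rw [show 4 = 2 + 2 from rfl, pow_add, pow_two, haa, F.U_sq hg₁zU]
    have hmod : ∀ x : X, x ^ 4 = 1 → ∀ m n : ZMod (2 ^ 2),
        x ^ (m + n).val = x ^ m.val * x ^ n.val := by
      intro x hx m n
      have h : (m + n).val = (m.val + n.val) % 4 := ZMod.val_add m n
      rw [← pow_add, h]
      exact (pow_eq_pow_mod _ hx).symm
    let f : Multiplicative (ZMod (2 ^ 2) × ZMod (2 ^ 2)) →* D.S := MonoidHom.mk'
      (fun p => ⟨D.s ^ (Multiplicative.toAdd p).1.val * a ^ (Multiplicative.toAdd p).2.val,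
        D.S.mul_mem (D.S.pow_mem D.s_mem _) (D.S.pow_mem haS _)⟩) (fun p p' => Subtype.ext (by
        obtain ⟨i, j⟩ := p
        obtain ⟨i', j'⟩ := p'
        show D.s ^ (i + i').val * a ^ (j + j').val =
          (D.s ^ i.val * a ^ j.val) * (D.s ^ i'.val * a ^ j'.val)
        rw [hmod _ hs4, hmod _ ha4]
        exact (hasc.symm.pow_pow i'.val j.val).mul_mul_mul_comm _ _))
    have hfin : ∀ i j : ZMod (2 ^ 2), D.s ^ i.val * a ^ j.val = 1 → i = 0 ∧ j = 0 := by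
      intro i j h
      have hj : Even j.val := by
        rw [← Nat.not_odd_iff_even]
        rintro ⟨l, hl⟩
        apply haK
        have ej : a ^ j.val = v' ^ l * a := by rw [hl, pow_succ, pow_mul, pow_two, haa]
        rw [ej] at h
        have : a = (D.s ^ i.val * v' ^ l)⁻¹ := eq_inv_of_mul_eq_one_right (by rw [mul_assoc]; exact h)
        rw [this]
        exact G.K.inv_mem (G.K.mul_mem (G.K.pow_mem G.s_mem _) (G.K.pow_mem (G.U_le_K hg₁zU) _))
      have hjv : a ^ j.val = 1 ∨ a ^ j.val = v' := by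
        obtain ⟨l, hl⟩ := hj
        rw [hl, ← two_mul, pow_mul, pow_two, haa]
        obtain ⟨r, rfl | rfl⟩ := Nat.even_or_odd' l
        · left; rw [pow_mul, pow_two, F.U_sq hg₁zU, one_pow]
        · right; rw [pow_succ, pow_mul, pow_two, F.U_sq hg₁zU, one_pow, one_mul]
      have hi4 : i.val < 4 := ZMod.val_lt i
      have hj4 : j.val < 4 := ZMod.val_lt j
      have hsi : D.s ^ i.val = 1 ∨ D.s ^ i.val = v' := by
        rcases hjv with h' | h' <;> rw [h'] at h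
        · left; simpa using h
        · right; rw [eq_inv_of_mul_eq_one_left h, F.U_inv hg₁zU]
      have hi0 : i.val = 0 := by
        by_contra hne
        rcases hsi with h' | h'
        · have := orderOf_dvd_of_pow_eq_one h'
          rw [D.hs] at this
          have := Nat.le_of_dvd (by omega) this
          omega
        · rcases D.zpowers_s_cases (pow_mem (mem_zpowers D.s) i.val) with e | e | e | e <;>
            rw [h'] at e
          · exact hsq_ne e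
          · exact F.s_notMem (e ▸ hg₁zU)
          · exact hg₁z e
          · apply F.s_notMem
            have := F.U.mul_mem (e ▸ hg₁zU : D.s * D.z ∈ F.U) F.z_U
            rwa [mul_assoc, D.zz, mul_one] at this
      refine ⟨(ZMod.val_eq_zero i).1 hi0, (ZMod.val_eq_zero j).1 ?_⟩
      rw [hi0, pow_zero, one_mul] at h
      by_contra hne
      obtain ⟨l, hl⟩ := hj
      have hl1 : l = 1 := by omega
      rw [hl, hl1, show 1 + 1 = 2 from rfl, pow_two, haa] at h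
      exact hsq_ne h
    have hbij : Function.Bijective f := by
      constructor
      · rw [← MonoidHom.ker_eq_bot_iff, eq_bot_iff]
        intro p hp
        obtain ⟨h1, h2⟩ := hfin (Multiplicative.toAdd p).1 (Multiplicative.toAdd p).2
          (congrArg Subtype.val hp)
        rw [mem_bot]
        exact Multiplicative.toAdd.injective (Prod.ext h1 h2)
      · intro ⟨y, hy⟩
        have hr : y ∈ f.range.map D.S.subtype := by
          have hU : F.U ≤ f.range.map D.S.subtype := by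
            have hz : D.z ∈ f.range.map D.S.subtype :=
              ⟨_, ⟨Multiplicative.ofAdd (2, 0), rfl⟩, by
                show D.s ^ 2 * a ^ 0 = D.z
                simp [pow_two, Setup.z]⟩
            have hv'r : v' ∈ f.range.map D.S.subtype :=
              ⟨_, ⟨Multiplicative.ofAdd (0, 2), rfl⟩, by
                show D.s ^ 0 * a ^ 2 = v'
                simp [pow_two, haa]⟩
            have hvr : v ∈ f.range.map D.S.subtype := by
              rcases hg₁zU with h | h | h | h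
              · exact absurd h hsq_ne
              · exact absurd h hg₁z
              · exact h ▸ hv'r
              · have := Subgroup.mul_mem _ (h ▸ hv'r : v * D.z ∈ f.range.map D.S.subtype) hz
                rwa [mul_assoc, D.zz, mul_one] at this
            rintro x (rfl | rfl | rfl | rfl)
            exacts [one_mem _, hz, hvr, mul_mem hvr hz]
          have hs' : D.s ∈ f.range.map D.S.subtype :=
            ⟨_, ⟨Multiplicative.ofAdd (1, 0), rfl⟩, by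
              show D.s ^ 1 * a ^ 0 = D.s
              simp⟩
          have ha' : a ∈ f.range.map D.S.subtype :=
            ⟨_, ⟨Multiplicative.ofAdd (0, 1), rfl⟩, by
              show D.s ^ 0 * a ^ 1 = a
              simp⟩
          rcases hcases y hy (hall y hy) with h | ⟨u, hu, rfl⟩ | ⟨u, hu, rfl⟩ | ⟨u, hu, rfl⟩
          exacts [hU h, mul_mem hs' (hU hu), mul_mem ha' (hU hu),
            mul_mem (mul_mem ha' hs') (hU hu)]
        obtain ⟨_, ⟨p, rfl⟩, hp⟩ := hr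
        exact ⟨p, Subtype.ext hp⟩
    exact F.homocyclic_false (MulEquiv.ofBijective f hbij).symm
  · -- `S ≠ C_S(U)`
    push Not at hall
    obtain ⟨b, hbS, hbv⟩ := hall
    have hbv' : b * v * b⁻¹ = v * D.z :=
      (F.vconj b hbS.1).resolve_left fun h => hbv (mul_inv_eq_iff_eq_mul.1 h)
    set f := D.t * b with hf
    have hfT : f ∈ D.T := D.T.mul_mem D.tT hbS.1
    have hfA : f ∉ D.A := fun h => D.tA (by
      have := D.A.mul_mem h (D.A.inv_mem hbS.2)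
      rwa [hf, mul_inv_cancel_right] at this)
    have hfv : f * v = v * f := by
      refine mul_inv_eq_iff_eq_mul.1 ?_
      rw [hf, show D.t * b * v * (D.t * b)⁻¹ = D.t * (b * v * b⁻¹) * D.t⁻¹ by group, hbv', D.t_inv,
        F.flip.tv, mul_assoc, D.zz, mul_one]
    obtain ⟨hf'T, hf'U⟩ := hg₁R f hfT (fun x hx => F.comm_U hfT hfv hx)
    set f' := g₁ * f * g₁⁻¹ with hf'
    have hf'A : f' ∉ D.A := fun h => hfA (by
      have := D.conjA' g₁ h
      rwa [hf', show g₁⁻¹ * (g₁ * f * g₁⁻¹) * g₁ = f by group] at this)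
    set e := f⁻¹ * f' with he
    have heS : e ∈ D.S := ⟨D.T.mul_mem (D.T.inv_mem hfT) hf'T,
      (mul_mem_iff_of_index_two D.hAX).2 (iff_of_false (fun h => hfA (inv_inv f ▸ D.A.inv_mem h))
        hf'A)⟩
    have hev : e * v = v * e :=
      ((show Commute f v from hfv).inv_left.mul_left (show Commute f' v from hf'U v F.v_U)).eq
    have hea : e * a = a * e := by
      rcases hcases e heS hev with h | ⟨u, hu, h⟩ | ⟨u, hu, h⟩ | ⟨u, hu, h⟩
      · exact (haU e h).eq.symm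
      · rw [h]; exact (hasc.mul_right (haU u hu)).eq.symm
      · rw [h]; exact ((Commute.refl a).mul_right (haU u hu)).eq.symm
      · rw [h]; exact (((Commute.refl a).mul_right hasc).mul_right (haU u hu)).eq.symm
    obtain ⟨u, hu, hfs⟩ := G.invol_mem (G.K_conj hfT G.s_mem) (fun h => F.s_notMem (by
        have := F.U_norm (D.T.inv_mem hfT) h
        rwa [show f⁻¹ * (f * D.s * f⁻¹) * f⁻¹⁻¹ = D.s by group] at this))
      (by
        have := F.U_norm hfT F.z_U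
        rwa [show f * D.z * f⁻¹ = f * D.s * f⁻¹ * (f * D.s * f⁻¹) by rw [Setup.z]; group] at this)
    obtain ⟨u', hu', hfa'⟩ : ∃ u' ∈ F.U, f * a * f⁻¹ = a * u' := by
      refine ⟨g₁ * u * g₁⁻¹, by rw [hg₁ u hu]; exact hnU u hu, ?_⟩
      have h1 : f' * a * f'⁻¹ = a * (g₁ * u * g₁⁻¹) := by
        calc f' * a * f'⁻¹ = g₁ * (f * D.s * f⁻¹) * g₁⁻¹ := by rw [hf', hadef]; group
          _ = _ := by rw [hfs, hadef]; group
      rw [← h1, show f' = f * e by rw [he, mul_inv_cancel_left]]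
      calc f * a * f⁻¹ = f * (a * e * e⁻¹) * f⁻¹ := by rw [mul_inv_cancel_right]
        _ = f * (e * a * e⁻¹) * f⁻¹ := by rw [← hea]
        _ = _ := by group
    -- the elements of `T` centralizing `a` modulo `U`
    let Z : Subgroup X :=
      { carrier := {g | g ∈ D.T ∧ ∃ u ∈ F.U, g * a * g⁻¹ = a * u}
        one_mem' := ⟨D.T.one_mem, 1, F.one_U, by simp⟩
        mul_mem' := by
          rintro g g' ⟨hg, u₁, hu₁, h₁⟩ ⟨hg', u₂, hu₂, h₂⟩
          refine ⟨D.T.mul_mem hg hg', u₁ * (g * u₂ * g⁻¹), F.U.mul_mem hu₁ (F.U_norm hg hu₂), ?_⟩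
          rw [show g * g' * a * (g * g')⁻¹ = g * (g' * a * g'⁻¹) * g⁻¹ by group, h₂,
            show g * (a * u₂) * g⁻¹ = g * a * g⁻¹ * (g * u₂ * g⁻¹) by group, h₁, mul_assoc]
        inv_mem' := by
          rintro g ⟨hg, u₁, hu₁, h₁⟩
          refine ⟨D.T.inv_mem hg, g⁻¹ * u₁⁻¹ * g, ?_, ?_⟩
          · have := F.U_norm (D.T.inv_mem hg) (F.U.inv_mem hu₁)
            rwa [inv_inv] at this
          · have h3 : a = g⁻¹ * (a * u₁) * g := by rw [← h₁]; group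
            calc g⁻¹ * a * g⁻¹⁻¹ = g⁻¹ * (a * u₁) * g * (g⁻¹ * u₁⁻¹ * g) := by group
              _ = _ := by rw [← h3] }
    have hUZ : ∀ x ∈ F.U, x ∈ Z := fun x hx =>
      ⟨F.S_U_T hx, 1, F.one_U, by rw [(haU x hx).eq.symm]; group⟩
    have haZ : a ∈ Z := ⟨haS.1, 1, F.one_U, by group⟩
    have hfZ : f ∈ Z := ⟨hfT, u', hu', hfa'⟩
    obtain ⟨f'', hfK, hf''A, hf''Z⟩ : ∃ f'', f'' ∈ G.K ∧ f'' ∉ D.A ∧ f'' ∈ Z := by
      by_cases h : f ∈ G.K
      · exact ⟨f, h, hfA, hfZ⟩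
      · refine ⟨f * a, G.mul_mem_of_notMem hfT haS.1 h haK, fun h' => hfA ?_, Z.mul_mem hfZ haZ⟩
        have := D.A.mul_mem h' (D.A.inv_mem haS.2)
        rwa [mul_inv_cancel_right] at this
    obtain ⟨i, w, hw, hfi⟩ := hfK
    have hiodd : Odd i := by
      rw [← Int.not_even_iff_odd]
      rintro ⟨l, rfl⟩
      apply hf''A
      rw [hfi, zpow_add]
      exact D.A.mul_mem (mul_self_mem_of_index_two D.hAX _) (F.U_le hw).2
    have hkZ : k ∈ Z := by
      have h1 : k ^ i ∈ Z := by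
        have := Z.mul_mem hf''Z (Z.inv_mem (hUZ w hw))
        rwa [hfi, mul_inv_cancel_right] at this
      obtain ⟨n, hn⟩ := IsPGroup.iff_orderOf.1 D.Tp ⟨k, G.kT⟩
      rw [Subgroup.orderOf_mk] at hn
      have hco : IsCoprime i ((2 : ℤ) ^ n) := by
        refine IsCoprime.pow_right ?_
        obtain ⟨c, rfl⟩ := hiodd
        exact ⟨1, -c, by ring⟩
      obtain ⟨p, q, hpq⟩ := hco
      have hk : k = (k ^ i) ^ p * (k ^ ((2 : ℤ) ^ n)) ^ q := by
        rw [← zpow_mul, ← zpow_mul, ← zpow_add, show i * p + 2 ^ n * q = 1 by linarith, zpow_one]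
      rw [hk, show ((2 : ℤ) ^ n) = ((2 ^ n : ℕ) : ℤ) by push_cast; rfl, zpow_natCast k, ← hn,
        pow_orderOf_eq_one, one_zpow, mul_one]
      exact Z.zpow_mem h1 p
    have htZ : D.t ∈ Z := by
      obtain ⟨j, w', hw', hj⟩ := G.mul_mem_of_notMem haS.1 D.tT haK G.t_notMem
      have h1 : a * D.t ∈ Z := by rw [hj]; exact Z.mul_mem (Z.zpow_mem hkZ j) (hUZ w' hw')
      have := Z.mul_mem (Z.inv_mem haZ) h1
      rwa [inv_mul_cancel_left] at this
    obtain ⟨-, u₁, hu₁, htu⟩ := htZ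
    rw [D.t_inv, ← ha', ha'u, mul_assoc] at htu
    have h2 := mul_left_cancel htu
    have h3 : D.s = u₁ * u₀ := by rw [← h2, mul_assoc, F.U_sq hu₀, mul_one]
    exact F.s_notMem (h3 ▸ F.U.mul_mem hu₁ hu₀)

/-- If all involutions of `S` lie in `U`, we have a contradiction. -/
theorem all_invol_false (hinv : ∀ x ∈ D.S, x * x = 1 → x ∈ F.U) : False := by
  have hnf : ¬ CaseB.Fused D v D.z := F.not_fused hinv
  have hflipU : ∀ x, x ∈ F.U → x ∈ F.flip.U := fun x hx => by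
    rw [F.flip.mem_U, mul_assoc, D.zz, mul_one]; rw [F.mem_U] at hx; tauto
  have hnf' : ¬ CaseB.Fused D (v * D.z) D.z :=
    F.flip.not_fused (fun x hx h => hflipU x (hinv x hx h))
  obtain ⟨k, G⟩ := F.exists_gen
  set K₁ := D.S ⊓ G.K with hK₁
  -- a generator of `K₁` modulo `U`
  obtain ⟨p, hk₁S, hk₁⟩ : ∃ p : ℤ, k ^ p ∈ D.S ∧
      ∀ g ∈ K₁, ∃ l : ℤ, ∃ u ∈ F.U, g = (k ^ p) ^ l * u := by
    by_cases hk : k ∈ D.S
    · exact ⟨1, by rw [zpow_one]; exact hk, fun g hg => by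
        obtain ⟨i, u, hu, h⟩ := hg.2
        exact ⟨i, u, hu, by rw [zpow_one]; exact h⟩⟩
    · refine ⟨2, by rw [zpow_two]; exact D.sq_mem_S G.kT, fun g hg => ?_⟩
      obtain ⟨i, u, hu, h⟩ := hg.2
      obtain ⟨l, rfl | rfl⟩ := Int.even_or_odd' i
      · exact ⟨l, u, hu, by rw [h, zpow_mul]⟩
      · exfalso
        apply hk
        have h1 : k ^ (2 * l + 1) ∈ D.S := by
          have := D.S.mul_mem hg.1 (D.S.inv_mem (F.U_le hu))
          rwa [h, mul_inv_cancel_right] at this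
        have h2 : (k * k) ^ l ∈ D.S := D.S.zpow_mem (D.sq_mem_S G.kT) l
        have := D.S.mul_mem (D.S.inv_mem h2) h1
        rwa [← zpow_two, ← zpow_mul, zpow_add, zpow_one, inv_mul_cancel_left] at this
  set k₁ := k ^ p with hk₁def
  have hk₁K : k₁ ∈ K₁ := ⟨hk₁S, G.K.zpow_mem G.k_mem p⟩
  -- an element outside `K₁`
  obtain ⟨b, hbS, hb, hbv⟩ : ∃ b ∈ D.S, (∀ g ∈ D.S, g ∈ K₁ ∨ b⁻¹ * g ∈ K₁) ∧
      (b = 1 ∨ b ∉ G.K) := by
    by_cases h : ∀ g ∈ D.S, g ∈ G.K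
    · exact ⟨1, D.S.one_mem, fun g hg => Or.inl ⟨hg, h g hg⟩, Or.inl rfl⟩
    · push Not at h
      obtain ⟨b, hb, hbK⟩ := h
      refine ⟨b, hb, fun g hg => ?_, Or.inr hbK⟩
      by_cases hgK : g ∈ G.K
      · exact Or.inl ⟨hg, hgK⟩
      · exact Or.inr ⟨D.S.mul_mem (D.S.inv_mem hb) hg, G.mul_mem_of_notMem (D.T.inv_mem hb.1) hg.1
          (fun h' => hbK (inv_inv b ▸ G.K.inv_mem h')) hgK⟩
  -- adjust `b` so that it centralizes `v` if `k₁` does not
  obtain ⟨b, hbS, hb, hbK, hbkv⟩ : ∃ b ∈ D.S, (∀ g ∈ D.S, g ∈ K₁ ∨ b⁻¹ * g ∈ K₁) ∧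
      (b = 1 ∨ b ∉ G.K) ∧ (k₁ * v = v * k₁ ∨ b * v = v * b) := by
    by_cases hkv : k₁ * v = v * k₁
    · exact ⟨b, hbS, hb, hbv, Or.inl hkv⟩
    by_cases hbv' : b * v = v * b
    · exact ⟨b, hbS, hb, hbv, Or.inr hbv'⟩
    have h1 : b ∉ G.K := hbv.resolve_left fun h => hbv' (by rw [h, one_mul, mul_one])
    refine ⟨b * k₁, D.S.mul_mem hbS hk₁S, fun g hg => ?_, Or.inr fun h => h1 ?_, Or.inr ?_⟩
    · rcases hb g hg with h | h
      · exact Or.inl h
      · refine Or.inr ?_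
        rw [mul_inv_rev, mul_assoc]
        exact K₁.mul_mem (K₁.inv_mem hk₁K) h
    · have := G.K.mul_mem h (G.K.inv_mem hk₁K.2)
      rwa [mul_inv_cancel_right] at this
    · have e1 := (F.vconj b hbS.1).resolve_left fun h => hbv' (mul_inv_eq_iff_eq_mul.1 h)
      have e2 := (F.vconj k₁ hk₁S.1).resolve_left fun h => hkv (mul_inv_eq_iff_eq_mul.1 h)
      refine mul_inv_eq_iff_eq_mul.1 ?_
      rw [show b * k₁ * v * (b * k₁)⁻¹ = b * (k₁ * v * k₁⁻¹) * b⁻¹ by group, e2,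
        show b * (v * D.z) * b⁻¹ = b * v * b⁻¹ * (b * D.z * b⁻¹) by group, e1,
        F.zc b hbS.1, mul_inv_cancel_right, mul_assoc, D.zz, mul_one]
  set e := b * k₁ * b⁻¹ * k₁⁻¹ with he
  have heK : e ∈ K₁ := K₁.mul_mem
    ⟨D.S.mul_mem (D.S.mul_mem hbS hk₁S) (D.S.inv_mem hbS), G.K_conj hbS.1 hk₁K.2⟩
    (K₁.inv_mem hk₁K)
  have heS : e ∈ D.S := heK.1
  have hzc : ∀ x ∈ D.S, Commute x D.z := fun x hx => F.zc x hx.1
  let Z₀ : Subgroup X := zpowers D.z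
  have hzZ : D.z ∈ Z₀ := mem_zpowers _
  -- commutators with `U` lie in `⟨z⟩`
  have hUc : ∀ x ∈ D.S, ∀ u ∈ F.U, x * u * x⁻¹ * u⁻¹ ∈ Z₀ := by
    intro x hx u hu
    rcases hu with rfl | rfl | rfl | rfl
    · simp
    · rw [(hzc x hx).eq]; simp
    · rcases F.vconj x hx.1 with h | h <;> rw [h]
      · simp
      · rw [F.v_z, mul_assoc, F.v_inv, F.vv, mul_one]; exact hzZ
    · rcases F.flip.vconj x hx.1 with h | h <;> rw [h]
      · simp
      · rw [mul_assoc _ D.z D.z] at *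
        rw [show v * (D.z * D.z) * (v * D.z)⁻¹ = v * (D.z * D.z) * D.z⁻¹ * v⁻¹ by group, D.zz,
          mul_one, D.z_inv, F.v_z, F.v_inv, mul_assoc, F.vv, mul_one]
        exact hzZ
  have hKc : ∀ x ∈ K₁, ∀ y ∈ K₁, x * y * x⁻¹ * y⁻¹ ∈ Z₀ := by
    intro x hx y hy
    obtain ⟨l, u, hu, rfl⟩ := hk₁ x hx
    obtain ⟨l', u', hu', rfl⟩ := hk₁ y hy
    have hzz : ∀ w ∈ Z₀, ∀ g ∈ D.S, g * w * g⁻¹ = w := fun w hw g hg => by
      obtain ⟨j, rfl⟩ := mem_zpowers_iff.1 hw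
      rw [((hzc g hg).zpow_right j).eq, mul_inv_cancel_right]
    have hkl : ∀ j : ℤ, k₁ ^ j ∈ D.S := fun j => D.S.zpow_mem hk₁S j
    have hcc : k₁ ^ l * k₁ ^ l' = k₁ ^ l' * k₁ ^ l := ((Commute.refl k₁).zpow_zpow l l').eq
    -- expand the commutator
    have h1 := hUc (k₁ ^ l') (hkl l') u hu
    have h2 := hUc (k₁ ^ l) (hkl l) u' hu'
    have huu : u * u' = u' * u := F.U_comm hu hu'
    have h3 : k₁ ^ l * u * (k₁ ^ l' * u') * (k₁ ^ l * u)⁻¹ * (k₁ ^ l' * u')⁻¹ =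
        (k₁ ^ l * ((k₁ ^ l' * u * (k₁ ^ l')⁻¹ * u⁻¹)⁻¹) * (k₁ ^ l)⁻¹) *
          (k₁ ^ l' * (k₁ ^ l * u' * (k₁ ^ l)⁻¹ * u'⁻¹) * (k₁ ^ l')⁻¹) := by
      calc k₁ ^ l * u * (k₁ ^ l' * u') * (k₁ ^ l * u)⁻¹ * (k₁ ^ l' * u')⁻¹
          = k₁ ^ l * u * k₁ ^ l' * (u' * u⁻¹) * (k₁ ^ l)⁻¹ * u'⁻¹ * (k₁ ^ l')⁻¹ := by group
        _ = k₁ ^ l * u * k₁ ^ l' * (u⁻¹ * u') * (k₁ ^ l)⁻¹ * u'⁻¹ * (k₁ ^ l')⁻¹ := by
          rw [show u' * u⁻¹ = u⁻¹ * u' by rw [F.U_inv hu]; exact huu.symm]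
        _ = k₁ ^ l * ((k₁ ^ l' * u * (k₁ ^ l')⁻¹ * u⁻¹)⁻¹) * (k₁ ^ l)⁻¹ *
            (k₁ ^ l * k₁ ^ l' * u' * (k₁ ^ l)⁻¹ * u'⁻¹ * (k₁ ^ l')⁻¹) := by group
        _ = _ := by rw [hcc]; group
    rw [h3]
    refine Z₀.mul_mem ?_ ?_
    · rw [hzz _ (Z₀.inv_mem h1) _ (hkl l)]; exact Z₀.inv_mem h1
    · rw [hzz _ h2 _ (hkl l')]; exact h2
  let E : Subgroup X :=
    { carrier := {x | ∃ i : ℤ, x = e ^ i ∨ x = e ^ i * D.z}
      one_mem' := ⟨0, Or.inl (by simp)⟩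
      mul_mem' := by
        have hc : ∀ j : ℤ, D.z * e ^ j = e ^ j * D.z := fun j =>
          ((hzc e heS).zpow_left j).eq.symm
        rintro x y ⟨i, rfl | rfl⟩ ⟨j, rfl | rfl⟩
        · exact ⟨i + j, Or.inl (by rw [zpow_add])⟩
        · exact ⟨i + j, Or.inr (by rw [zpow_add, mul_assoc])⟩
        · exact ⟨i + j, Or.inr (by rw [zpow_add, mul_assoc, hc, ← mul_assoc])⟩
        · refine ⟨i + j, Or.inl ?_⟩
          rw [zpow_add, show e ^ i * D.z * (e ^ j * D.z) = e ^ i * (D.z * e ^ j) * D.z by group, hc,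
            show e ^ i * (e ^ j * D.z) * D.z = e ^ i * e ^ j * (D.z * D.z) by group, D.zz, mul_one]
      inv_mem' := by
        rintro x ⟨i, rfl | rfl⟩
        · exact ⟨-i, Or.inl (by rw [zpow_neg])⟩
        · refine ⟨-i, Or.inr ?_⟩
          rw [mul_inv_rev, D.z_inv, zpow_neg]
          exact ((hzc e heS).zpow_left i).inv_left.eq.symm }
  have heE : e ∈ E := ⟨1, Or.inl (by simp)⟩
  have hzE : D.z ∈ E := ⟨0, Or.inr (by simp)⟩
  have hZE : Z₀ ≤ E := zpowers_le.2 hzE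
  have hES : E ≤ D.S := by
    rintro x ⟨i, rfl | rfl⟩
    · exact D.S.zpow_mem heS i
    · exact D.S.mul_mem (D.S.zpow_mem heS i) D.z_mem
  -- `b` inverts `e` modulo `z`
  have hgen : ∀ g ∈ D.S, (g * e * g⁻¹ ∈ E) := by
    have hK : ∀ g ∈ K₁, g * e * g⁻¹ ∈ E := fun g hg => by
      have := E.mul_mem (hZE (hKc g hg e heK)) heE
      rwa [show g * e * g⁻¹ * e⁻¹ * e = g * e * g⁻¹ by group] at this
    have hb2 : b * b ∈ K₁ := by
      refine ⟨D.S.mul_mem hbS hbS, G.sq_mem hbS.1⟩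
    have hbE : b * e * b⁻¹ ∈ E := by
      have h1 : b * e * b⁻¹ = (b * b * k₁ * (b * b)⁻¹ * k₁⁻¹) * (k₁ * (b * k₁ * b⁻¹)⁻¹) := by
        rw [he]; group
      rw [h1]
      refine E.mul_mem (hZE (hKc _ hb2 _ hk₁K)) ?_
      rw [show k₁ * (b * k₁ * b⁻¹)⁻¹ = e⁻¹ by rw [he]; group]
      exact E.inv_mem heE
    have hEb : ∀ x ∈ E, b * x * b⁻¹ ∈ E := by
      rintro x ⟨i, rfl | rfl⟩
      · rw [← conj_zpow]; exact E.zpow_mem hbE i
      · rw [show b * (e ^ i * D.z) * b⁻¹ = b * e ^ i * b⁻¹ * (b * D.z * b⁻¹) by group, ← conj_zpow,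
          (hzc b hbS).eq, mul_inv_cancel_right]
        exact E.mul_mem (E.zpow_mem hbE i) hzE
    intro g hg
    rcases hb g hg with h | h
    · exact hK g h
    · have := hEb _ (hK _ h)
      rwa [show b * (b⁻¹ * g * e * (b⁻¹ * g)⁻¹) * b⁻¹ = g * e * g⁻¹ by group] at this
  have hnorm : ∀ x ∈ E, ∀ g ∈ D.S, g * x * g⁻¹ ∈ E := by
    rintro x ⟨i, rfl | rfl⟩ g hg
    · rw [← conj_zpow]; exact E.zpow_mem (hgen g hg) i
    · rw [show g * (e ^ i * D.z) * g⁻¹ = g * e ^ i * g⁻¹ * (g * D.z * g⁻¹) by group, ← conj_zpow,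
        (hzc g hg).eq, mul_inv_cancel_right]
      exact E.mul_mem (E.zpow_mem (hgen g hg) i) hzE
  -- commutators lie in `E`
  have hab : ∀ x ∈ D.S, ∀ y ∈ D.S, x * y * x⁻¹ * y⁻¹ ∈ E := by
    haveI : (E.subgroupOf D.S).Normal :=
      ⟨fun x hx g => mem_subgroupOf.2 (hnorm x (mem_subgroupOf.1 hx) g g.2)⟩
    let q := QuotientGroup.mk' (E.subgroupOf D.S)
    have hq1 : ∀ {x : D.S}, q x = 1 ↔ (x : X) ∈ E := fun {x} =>
      (QuotientGroup.eq_one_iff x).trans mem_subgroupOf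
    have hqc : ∀ x y : D.S, (x : X) * y * (x : X)⁻¹ * (y : X)⁻¹ ∈ E → Commute (q x) (q y) := by
      intro x y h
      have h1 : q (x * y * x⁻¹ * y⁻¹) = 1 := hq1.2 (by simpa using h)
      rw [map_mul, map_mul, map_mul, map_inv, map_inv] at h1
      exact mul_inv_eq_iff_eq_mul.1 (mul_inv_eq_one.1 h1)
    let B : D.S := ⟨b, hbS⟩
    have hKK : ∀ x y : D.S, (x : X) ∈ K₁ → (y : X) ∈ K₁ → Commute (q x) (q y) :=
      fun x y hx hy => hqc x y (hZE (hKc _ hx _ hy))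
    have hBk : ∀ x : D.S, (x : X) ∈ K₁ → Commute (q B) (q x) := by
      intro x hx
      obtain ⟨l, u, hu, h⟩ := hk₁ x hx
      have hxe : x = (⟨k₁, hk₁S⟩ : D.S) ^ l * ⟨u, F.U_le hu⟩ := Subtype.ext (by simpa using h)
      rw [hxe, map_mul, map_zpow]
      exact ((hqc B ⟨k₁, hk₁S⟩ heE).zpow_right l).mul_right
        (hqc B ⟨u, F.U_le hu⟩ (hZE (hUc b hbS u hu)))
    have hall : ∀ x y : D.S, Commute (q x) (q y) := by
      have hdec : ∀ x : D.S, ∃ x' : D.S, (x' : X) ∈ K₁ ∧ (q x = q x' ∨ q x = q B * q x') := by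
        intro x
        rcases hb x x.2 with h | h
        · exact ⟨x, h, Or.inl rfl⟩
        · refine ⟨B⁻¹ * x, by simpa [B] using h, Or.inr ?_⟩
          rw [← map_mul, mul_inv_cancel_left]
      intro x y
      obtain ⟨x', hx', hx⟩ := hdec x
      obtain ⟨y', hy', hy⟩ := hdec y
      rcases hx with hx | hx <;> rcases hy with hy | hy <;> rw [hx, hy]
      · exact hKK x' y' hx' hy'
      · exact (hBk x' hx').symm.mul_right (hKK x' y' hx' hy')
      · exact (hBk y' hy').mul_left (hKK x' y' hx' hy')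
      · exact ((Commute.refl _).mul_right (hBk y' hy')).mul_left
          ((hBk x' hx').symm.mul_right (hKK x' y' hx' hy'))
    intro x hx y hy
    have h := hall ⟨x, hx⟩ ⟨y, hy⟩
    have h1 : q (⟨x, hx⟩ * ⟨y, hy⟩ * ⟨x, hx⟩⁻¹ * ⟨y, hy⟩⁻¹) = 1 := by
      rw [map_mul, map_mul, map_mul, map_inv, map_inv, h.eq]; group
    exact hq1.1 h1
  -- `v ∈ E`
  have hvE : v ∈ E := by
    by_contra hvE
    refine D.transfer_false E hES (fun x hx g hg => hnorm x hx g hg) hab F.vS hvE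
      fun m a ha hmem => ?_
    obtain ⟨l, rfl | rfl⟩ := Int.even_or_odd' m
    · rw [zpow_mul, zpow_two, F.vv, one_zpow]; simp
    · have e1 : v ^ (2 * l + 1) = v := by
        rw [zpow_add, zpow_mul, zpow_two, F.vv, one_zpow, one_mul, zpow_one]
      rw [e1] at hmem ⊢
      have h1 : a * v * a⁻¹ * (a * v * a⁻¹) = 1 := by
        rw [show a * v * a⁻¹ * (a * v * a⁻¹) = a * (v * v) * a⁻¹ by group, F.vv]; simp
      rcases hinv _ hmem h1 with h | h | h | h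
      · exact absurd (conj_eq_one_iff.1 h) F.v1
      · exact absurd (CaseB.Fused.of_conj ha h) hnf
      · rw [h, mul_inv_cancel]; exact E.one_mem
      · rw [h, F.v_z, mul_assoc, F.v_inv, F.vv, mul_one]; exact hzE
  obtain ⟨i, hi⟩ := hvE
  obtain ⟨v', hv', hv'v⟩ : ∃ v' : X, e ^ i = v' ∧ (v' = v ∨ v' = v * D.z) := by
    rcases hi with h | h
    · exact ⟨v, h.symm, Or.inl rfl⟩
    · exact ⟨v * D.z, by rw [h, mul_assoc, D.zz, mul_one], Or.inr rfl⟩
  have hv'1 : v' ≠ 1 ∧ v' ≠ D.z ∧ v' ∈ F.U := by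
    rcases hv'v with rfl | rfl
    · exact ⟨F.v1, F.vnz, F.v_U⟩
    · exact ⟨F.vz_ne_one, F.vz_ne_z, Or.inr (Or.inr (Or.inr rfl))⟩
  have hZ₀ : ∀ {w : X}, w ∈ Z₀ → w = 1 ∨ w = D.z := by
    intro w hw
    obtain ⟨j, rfl⟩ := mem_zpowers_iff.1 hw
    obtain ⟨l, rfl | rfl⟩ := Int.even_or_odd' j
    · left; rw [zpow_mul, zpow_two, D.zz, one_zpow]
    · right; rw [zpow_add, zpow_mul, zpow_two, D.zz, one_zpow, one_mul, zpow_one]
  obtain ⟨l₀, u₀, hu₀, heq⟩ := hk₁ e heK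
  obtain ⟨r, rfl | rfl⟩ := Int.even_or_odd' i
  · -- even powers of `e` in `U` lie in `⟨z⟩`
    have h1 : e * e * (k₁ ^ l₀ * k₁ ^ l₀)⁻¹ ∈ Z₀ := by
      have := hUc (k₁ ^ l₀) (D.S.zpow_mem hk₁S l₀) u₀ hu₀
      have hzz : ∀ w ∈ Z₀, ∀ g ∈ D.S, g * w * g⁻¹ = w := fun w hw g hg => by
        obtain ⟨j, rfl⟩ := mem_zpowers_iff.1 hw
        rw [((hzc g hg).zpow_right j).eq, mul_inv_cancel_right]
      rw [heq, show k₁ ^ l₀ * u₀ * (k₁ ^ l₀ * u₀) * (k₁ ^ l₀ * k₁ ^ l₀)⁻¹ =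
        k₁ ^ l₀ * (u₀ * (k₁ ^ l₀ * u₀ * (k₁ ^ l₀)⁻¹ * u₀⁻¹) * u₀⁻¹ * (u₀ * u₀)) * (k₁ ^ l₀)⁻¹ by
          group, F.U_sq hu₀, mul_one, hzz _ this _ (F.U_le hu₀), hzz _ this _
          (D.S.zpow_mem hk₁S l₀)]
      exact this
    rw [zpow_mul, zpow_two] at hv'
    have hcom : Commute (e * e * (k₁ ^ l₀ * k₁ ^ l₀)⁻¹) (k₁ ^ l₀ * k₁ ^ l₀) := by
      rcases hZ₀ h1 with h | h <;> rw [h]
      · exact Commute.one_left _
      · exact (hzc _ (D.S.mul_mem (D.S.zpow_mem hk₁S l₀) (D.S.zpow_mem hk₁S l₀))).symm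
    have h2 : v' = (e * e * (k₁ ^ l₀ * k₁ ^ l₀)⁻¹) ^ r * k ^ (p * (l₀ + l₀) * r) := by
      rw [zpow_mul k, zpow_mul k, zpow_add, ← hcom.mul_zpow, inv_mul_cancel_right, hv']
    have h3 : k ^ (p * (l₀ + l₀) * r) ∈ F.U := by
      have : k ^ (p * (l₀ + l₀) * r) = ((e * e * (k₁ ^ l₀ * k₁ ^ l₀)⁻¹) ^ r)⁻¹ * v' := by
        rw [h2, inv_mul_cancel_left]
      rw [this]
      exact F.U.mul_mem (F.U.inv_mem (F.U.zpow_mem ((zpowers_le.2 F.z_U) h1) r)) hv'1.2.2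
    have h4 : k ^ (p * (l₀ + l₀) * r) ∈ Z₀ := by
      rcases G.zpow_mem_U h3 with h | h <;> rw [h]
      exacts [Z₀.one_mem, hzZ]
    have h5 : v' ∈ Z₀ := h2 ▸ Z₀.mul_mem (Z₀.zpow_mem h1 r) h4
    rcases hZ₀ h5 with h | h
    exacts [hv'1.1 h, hv'1.2.1 h]
  · -- `e ∈ U`
    have heU : e ∈ F.U := F.odd_zpow_mem heS.1 ⟨r, rfl⟩ (hv' ▸ hv'1.2.2)
    have hev : e = v' := by
      rw [← hv', zpow_add, zpow_mul, zpow_two, F.U_sq heU, one_zpow, one_mul, zpow_one]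
    rcases hbK with hb1 | hbK
    · apply hv'1.1
      rw [← hev, he, hb1]; group
    -- `T = K ∪ b K`
    obtain ⟨m, w, hw, htb⟩ := G.mul_mem_of_notMem (D.T.inv_mem hbS.1) D.tT
      (fun h => hbK (inv_inv b ▸ G.K.inv_mem h)) G.t_notMem
    have ht : D.t = b * (k ^ m * w) := by rw [← htb, mul_inv_cancel_left]
    have hwk : w * k₁ * w⁻¹ * k₁⁻¹ ∈ F.U := by
      rw [show w * k₁ * w⁻¹ * k₁⁻¹ = w * (k₁ * w⁻¹ * k₁⁻¹) by group]
      exact F.U.mul_mem hw (F.U_norm hk₁S.1 (F.U.inv_mem hw))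
    have hmk : k ^ m * k₁ * (k ^ m)⁻¹ = k₁ := by
      rw [hk₁def, ((Commute.refl k).zpow_zpow m p).eq, mul_inv_cancel_right]
    have h1 : D.t * k₁ * D.t * k₁⁻¹ ∈ F.U := by
      have h2 : D.t * k₁ * D.t⁻¹ * k₁⁻¹ =
          b * (k ^ m * (w * k₁ * w⁻¹ * k₁⁻¹) * (k ^ m)⁻¹) * b⁻¹ *
            (b * (k ^ m * k₁ * (k ^ m)⁻¹) * b⁻¹ * k₁⁻¹) := by rw [ht]; group
      rw [hmk, ← he, D.t_inv] at h2
      rw [h2]
      exact F.U.mul_mem (F.U_norm hbS.1 (F.U_norm (zpow_mem G.kT m) hwk)) heU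
    have h1' : k₁⁻¹ * (D.t * k₁ * D.t) ∈ F.U := by
      have := F.U_norm (D.T.inv_mem hk₁S.1) h1
      rwa [show k₁⁻¹ * (D.t * k₁ * D.t * k₁⁻¹) * k₁⁻¹⁻¹ = k₁⁻¹ * (D.t * k₁ * D.t) by group] at this
    have heZ : e ∈ Z₀ := by
      rcases F.fix_mod hk₁S h1' with hkU | ⟨u₁, hu₁, hk1⟩
      · rw [he]; exact hUc b hbS k₁ hkU
      · -- `b` fixes `s` modulo `z`
        obtain ⟨q, u₂, hu₂, hs⟩ := G.s_mem
        have hbs : b * D.s * b⁻¹ * D.s⁻¹ ∈ Z₀ := by
          have hU1 : ∀ g ∈ D.T, ∀ u ∈ F.U, g * u * g⁻¹ * u⁻¹ ∈ Z₀ := by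
            intro g hg u hu
            rcases D.mem_T_cases hg with h | h
            · exact hUc g h u hu
            · have hb' := hUc _ h u hu
              have htz : ∀ a ∈ F.U, D.t * a * D.t * a⁻¹ ∈ Z₀ := by
                rintro a (rfl | rfl | rfl | rfl)
                · rw [mul_one, D.tt]; simp
                · rw [D.tConj_z]; simp
                · rw [F.tv, F.v_z, mul_assoc, F.v_inv, F.vv, mul_one]; exact hzZ
                · rw [F.flip.tv, mul_assoc v D.z D.z, D.zz, mul_one, mul_inv_rev, D.z_inv, F.v_inv,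
                    ← F.v_z, ← mul_assoc, F.vv, one_mul]
                  exact hzZ
              have h3 := htz _ (F.U_norm h.1 hu)
              have h4 : g * u * g⁻¹ * u⁻¹ = D.t * (D.t * g * u * (D.t * g)⁻¹) * D.t *
                  (D.t * g * u * (D.t * g)⁻¹)⁻¹ * (D.t * g * u * (D.t * g)⁻¹ * u⁻¹) := by
                rw [mul_inv_rev D.t g, D.t_inv]
                rw [show D.t * (D.t * g * u * (g⁻¹ * D.t)) * D.t = D.t * D.t * (g * u * g⁻¹) *
                  (D.t * D.t) by group, D.tt]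
                group
              rw [h4]
              exact Z₀.mul_mem h3 hb'
          set g := k ^ m * w with hg
          have hgT : g ∈ D.T := D.T.mul_mem (zpow_mem G.kT m) (F.S_U_T hw)
          have hgs : g * D.s * g⁻¹ * D.s⁻¹ ∈ Z₀ := by
            have h5 := hU1 (k ^ m) (zpow_mem G.kT m) u₂ hu₂
            have h6 : g * D.s * g⁻¹ * D.s⁻¹ =
                k ^ q * (k ^ m * u₂ * (k ^ m)⁻¹ * u₂⁻¹) * (k ^ q)⁻¹ := by
              rw [hg, show k ^ m * w * D.s * (k ^ m * w)⁻¹ = k ^ m * (w * D.s * w⁻¹) * (k ^ m)⁻¹ by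
                group, ← (show Commute D.s w from F.s_comm_U hw).eq, mul_inv_cancel_right, hs,
                show k ^ m * (k ^ q * u₂) * (k ^ m)⁻¹ = k ^ m * k ^ q * u₂ * (k ^ m)⁻¹ by group,
                ((Commute.refl k).zpow_zpow m q).eq]
              group
            rw [h6]
            obtain ⟨j, hj⟩ := mem_zpowers_iff.1 h5
            rw [← hj, ((show Commute (k ^ q) D.z from F.zc _ (zpow_mem G.kT q)).zpow_right j).eq,
              mul_inv_cancel_right]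
            exact Z₀.zpow_mem hzZ j
          -- `t = b g` fixes `s`
          have h7 : b * (g * D.s * g⁻¹) * b⁻¹ = D.s := by
            calc b * (g * D.s * g⁻¹) * b⁻¹ = D.t * D.s * D.t⁻¹ := by rw [ht]; group
              _ = D.s := by rw [D.t_inv, D.tConj_s]
          obtain ⟨j, hj⟩ := mem_zpowers_iff.1 hgs
          have h8 : g * D.s * g⁻¹ = D.z ^ j * D.s := by rw [hj]; group
          rw [h8, show b * (D.z ^ j * D.s) * b⁻¹ = b * D.z ^ j * b⁻¹ * (b * D.s * b⁻¹) by group,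
            ((hzc b hbS).zpow_right j).eq, mul_inv_cancel_right] at h7
          have h9 : b * D.s * b⁻¹ * D.s⁻¹ = (D.z ^ j)⁻¹ := by
            rw [eq_inv_mul_of_mul_eq h7]; group
          rw [h9]
          exact Z₀.inv_mem (Z₀.zpow_mem hzZ j)
        rw [he, hk1, show b * (D.s * u₁) * b⁻¹ * (D.s * u₁)⁻¹ =
          b * D.s * b⁻¹ * D.s⁻¹ * (D.s * (b * u₁ * b⁻¹ * u₁⁻¹) * D.s⁻¹) by group]
        obtain ⟨j, hj⟩ := mem_zpowers_iff.1 (hUc b hbS u₁ hu₁)
        rw [← hj, ((hzc D.s D.s_mem).zpow_right j).eq, mul_inv_cancel_right]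
        exact Z₀.mul_mem hbs (Z₀.zpow_mem hzZ j)
    rcases hZ₀ (hev ▸ heZ) with h | h
    exacts [hv'1.1 h, hv'1.2.1 h]

/-- The invariant four-group cannot exist. -/
theorem false : False :=
  F.all_invol_false fun _ hx hxx => F.no_invol_outside hx hxx

end Four

end Cfsg.Agent.Lib.InvFourCyclic
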