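/-
A second involution in `S` gives an invariant four-group or a semidihedral `S`; both are
impossible.
-/
import Cfsg.Agent.Lib.InvFourCyclic.CaseA
import Cfsg.Agent.Lib.Involutions.NormalFour

set_option autoImplicit false
set_option linter.unusedSectionVars false

namespace Cfsg.Agent.Lib.InvFourCyclic

open Subgroup

universe u

namespace Setup

variable {X : Type u} [Group X] [Finite X] (D : Setup X)

theorem z_central {g : X} (hg : g ∈ D.T) : g * D.z = D.z * g := by
  obtain ⟨y, hyS, hy1, hy2, hyc⟩ := D.exists_step (N := D.S) (K := ⊥) inf_le_left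
    (bot_lt_iff_ne_bot.2 fun h => by
      have := D.s_mem
      rw [h, mem_bot] at this
      have h4 := D.hs
      rw [this, orderOf_one] at h4
      norm_num at h4)
    (fun g hg x hx => D.conjS_mem hg hx) (fun g hg x hx => by rw [mem_bot.1 hx]; simp)
  have hc : ∀ g ∈ D.T, g * y = y * g := fun g hg => by
    have h := mem_bot.1 (hyc g hg)
    exact mul_inv_eq_iff_eq_mul.1 (mul_inv_eq_one.1 h)
  rw [mem_bot] at hy1 hy2
  rw [← D.fixed_invol hyS (hc _ D.tT) hy2 hy1]
  exact hc g hg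

/-- An invariant four-group is impossible. -/
theorem four_false {y : X} (hy : y ∈ D.S) (hyy : y * y = 1) (hy1 : y ≠ 1) (hyz : y ≠ D.z)
    (hconj : ∀ g ∈ D.T, g * y * g⁻¹ = y ∨ g * y * g⁻¹ = y * D.z) : False := by
  have htv : D.t * y * D.t = y * D.z := by
    have h := hconj D.t D.tT
    rw [D.t_inv] at h
    exact h.resolve_left fun h' => hyz (D.fixed_invol hy (D.tConj_eq_iff.1 h') hyy hy1)
  exact (Four.mk (D := D) hy hyy hy1 hyz htv (fun g hg => D.z_central hg) hconj).false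

/-- Being centralized only by small 2-subgroups of `A`. -/
def Small (D : Setup X) (u : X) : Prop :=
  ∀ P : Subgroup X, IsPGroup 2 P → P ≤ D.A → (∀ p ∈ P, u * p = p * u) →
    IsCyclic P ∧ Nat.card P ≤ 4

theorem small_conj {u : X} (g : X) (h : D.Small u) : D.Small (g * u * g⁻¹) := by
  intro P hP hPA hc
  have hinj := (MulAut.conj g⁻¹).injective
  obtain ⟨h1, h2⟩ := h (P.map (MulAut.conj g⁻¹).toMonoidHom) (hP.map _)
    (by
      rintro _ ⟨p, hp, rfl⟩
      exact D.conjA _ (hPA hp))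
    (by
      rintro _ ⟨p, hp, rfl⟩
      simp only [MulEquiv.coe_toMonoidHom, MulAut.conj_apply]
      calc u * (g⁻¹ * p * g⁻¹⁻¹) = g⁻¹ * (g * u * g⁻¹ * p) * g := by group
        _ = g⁻¹ * (p * (g * u * g⁻¹)) * g := by rw [hc p hp]
        _ = _ := by group)
  haveI := h1
  exact ⟨(P.equivMapOfInjective _ hinj).isCyclic.2 h1,
    by rwa [Subgroup.card_map_of_injective hinj] at h2⟩

/-- Integers whose square is one modulo a power of two. -/
theorem sq_one_cases {m : ℕ} {a : ℤ} (h : (2 : ℤ) ^ (m + 3) ∣ a * a - 1) :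
    (2 : ℤ) ^ (m + 2) ∣ a - 1 ∨ (2 : ℤ) ^ (m + 2) ∣ a + 1 :=
  Involutions.NormalFour.int_sq_one h

set_option maxHeartbeats 3200000 in
/-- The semidihedral configuration is impossible. -/
theorem semidihedral_false {x k : X} {m : ℕ} {q p i₁ β : ℤ} (hq : q = 2 ^ (m + 1)) (hp : q = 2 * p)
    (hx : x ∈ D.S) (hxx : x * x = 1) (hxK : x ∉ zpowers k) (hkS : k ∈ D.S)
    (hn : orderOf k = 2 ^ (m + 3))
    (keq : ∀ i j : ℤ, k ^ i = k ^ j ↔ 4 * q ∣ i - j) (hzK : D.z ∈ zpowers k)
    (ha : x * k * x⁻¹ = k ^ (-1 + 2 * q)) (hβ : β = 0 ∨ β = 1)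
    (hbt : ∀ l : ℤ, D.t * k ^ l * D.t = k ^ ((-1 + 2 * q * β) * l))
    (hj : D.t * x * D.t = x * k ^ ((2 * i₁ + 1) * (2 - 2 * q * β)))
    (hidx : ∀ g ∈ D.S, g ∈ zpowers k ∨ x * g ∈ zpowers k) : False := by
  classical
  have hxi : x⁻¹ = x := inv_eq_of_mul_eq_one_right hxx
  have kpow : ∀ {g : X} {a : ℤ}, g * k * g⁻¹ = k ^ a → ∀ i : ℤ, g * k ^ i * g⁻¹ = k ^ (a * i) :=
    fun {g a} h i => by rw [← conj_zpow, h, ← zpow_mul]
  have hsqx : ∀ l : ℤ, x * k ^ l * (x * k ^ l) = k ^ ((-1 + 2 * q) * l + l) := fun l => by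
    rw [show x * k ^ l * (x * k ^ l) = x * k ^ l * x⁻¹ * (x * x) * k ^ l by group, kpow ha, hxx,
      mul_one, ← zpow_add]
  obtain ⟨i, hidef⟩ : ∃ i : ℤ, i = 2 * i₁ + 1 := ⟨_, rfl⟩
  rw [← hidef] at hj
  have hkx : ∀ l : ℤ, k ^ l * x = x * k ^ ((-1 + 2 * q) * l) := fun l => by
    have h1 := kpow ha l
    rw [hxi] at h1
    rw [← h1, ← mul_assoc, ← mul_assoc, hxx, one_mul]
  have hsqk : ∀ l : ℤ, x * k ^ (2 * l) * (x * k ^ (2 * l)) = 1 := fun l => by
    rw [hsqx, ← zpow_zero k, keq]; exact ⟨l, by ring⟩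
  -- `⟨k², x⟩` and the subgroup `M`
  let K₂ : Subgroup X :=
    { carrier := {g | ∃ l : ℤ, g = k ^ (2 * l) ∨ g = x * k ^ (2 * l)}
      one_mem' := ⟨0, Or.inl (by simp)⟩
      mul_mem' := by
        rintro g g' ⟨l, rfl | rfl⟩ ⟨l', rfl | rfl⟩
        · exact ⟨l + l', Or.inl (by rw [← zpow_add]; congr 1; ring)⟩
        · exact ⟨(-1 + 2 * q) * l + l', Or.inr (by
            rw [← mul_assoc, hkx, mul_assoc, ← zpow_add]; congr 2; ring)⟩
        · exact ⟨l + l', Or.inr (by rw [mul_assoc, ← zpow_add]; congr 2; ring)⟩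
        · exact ⟨(-1 + 2 * q) * l + l', Or.inl (by
            rw [show x * k ^ (2 * l) * (x * k ^ (2 * l')) =
              x * (k ^ (2 * l) * x) * k ^ (2 * l') by group, hkx, ← mul_assoc, hxx, one_mul,
              ← zpow_add]
            congr 1; ring)⟩
      inv_mem' := by
        rintro g ⟨l, rfl | rfl⟩
        · exact ⟨-l, Or.inl (by rw [← zpow_neg]; congr 1; ring)⟩
        · exact ⟨l, Or.inr (inv_eq_of_mul_eq_one_right (hsqk l))⟩ }
  have hkK₂ : ∀ l : ℤ, k ^ (2 * l) ∈ K₂ := fun l => ⟨l, Or.inl rfl⟩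
  have hxK₂ : x ∈ K₂ := ⟨0, Or.inr (by simp)⟩
  have hmem : ∀ {g : X} (c : ℤ), g = k ^ c ∨ g = x * k ^ c → (g ∈ K₂ ↔ Even c) := by
    intro g c hg
    constructor
    · rintro ⟨l, hl⟩
      have h2 : ∀ u v : ℤ, k ^ u = k ^ v → Even v → Even u := fun u v h ⟨v', hv⟩ => by
        obtain ⟨d, hd⟩ := (keq _ _).1 h
        exact ⟨v' + 2 * q * d, by linear_combination hd + hv⟩
      rcases hg with hg | hg <;> rcases hl with hl | hl <;> rw [hg] at hl
      · exact h2 _ _ hl (even_two_mul l)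
      · exfalso; apply hxK
        rw [eq_mul_inv_of_mul_eq hl.symm]
        exact mul_mem (zpow_mem (mem_zpowers k) _) (inv_mem (zpow_mem (mem_zpowers k) _))
      · exfalso; apply hxK
        rw [eq_mul_inv_of_mul_eq hl]
        exact mul_mem (zpow_mem (mem_zpowers k) _) (inv_mem (zpow_mem (mem_zpowers k) _))
      · exact h2 _ _ (mul_left_cancel hl) (even_two_mul l)
    · rintro ⟨c', rfl⟩
      rcases hg with rfl | rfl
      · exact ⟨c', Or.inl (by rw [two_mul])⟩
      · exact ⟨c', Or.inr (by rw [two_mul])⟩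
  have hSel : ∀ g ∈ D.S, ∃ c : ℤ, g = k ^ c ∨ g = x * k ^ c := by
    intro g hg
    rcases hidx g hg with h | h <;> obtain ⟨c, hc⟩ := mem_zpowers_iff.1 h
    · exact ⟨c, Or.inl hc.symm⟩
    · exact ⟨c, Or.inr (by rw [hc, ← mul_assoc, hxx, one_mul])⟩
  -- conjugation by `t k` preserves `K₂`
  set r := D.t * k with hr
  have hrT : r ∈ D.T := D.T.mul_mem D.tT hkS.1
  have hrconj : ∀ g ∈ K₂, r * g * r⁻¹ ∈ K₂ := by
    have hgx : r * x * r⁻¹ ∈ K₂ := by
      rw [hr, show D.t * k * x * (D.t * k)⁻¹ = D.t * (k ^ (1 : ℤ) * x * (k ^ (1 : ℤ))⁻¹) * D.t⁻¹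
        by group, hkx, D.t_inv, mul_assoc x, ← zpow_neg, ← zpow_add, D.tConj_mul, hj, hbt,
        mul_assoc x, ← zpow_add]
      refine (hmem _ (Or.inr rfl)).2 ?_
      exact ⟨i * (1 - q * β) + (-1 + 2 * q * β) * (-1 + q), by ring⟩
    rintro g ⟨l, rfl | rfl⟩
    · rw [hr, show D.t * k * k ^ (2 * l) * (D.t * k)⁻¹ = D.t * k ^ (2 * l) * D.t⁻¹ by group,
        D.t_inv, hbt]
      exact (hmem _ (Or.inl rfl)).2 ⟨(-1 + 2 * q * β) * l, by ring⟩
    · rw [show r * (x * k ^ (2 * l)) * r⁻¹ = r * x * r⁻¹ * (r * k ^ (2 * l) * r⁻¹) by group]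
      refine K₂.mul_mem hgx ?_
      rw [hr, show D.t * k * k ^ (2 * l) * (D.t * k)⁻¹ = D.t * k ^ (2 * l) * D.t⁻¹ by group,
        D.t_inv, hbt]
      exact (hmem _ (Or.inl rfl)).2 ⟨(-1 + 2 * q * β) * l, by ring⟩
  have hr2 : r * r ∈ K₂ := by
    rw [hr, show D.t * k * (D.t * k) = D.t * k ^ (1 : ℤ) * D.t * k ^ (1 : ℤ) by group, hbt,
      ← zpow_add]
    exact (hmem _ (Or.inl rfl)).2 ⟨q * β, by ring⟩
  have hK₂T : K₂ ≤ D.T := by
    rintro g ⟨l, rfl | rfl⟩
    exacts [D.T.zpow_mem hkS.1 _, D.T.mul_mem hx.1 (D.T.zpow_mem hkS.1 _)]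
  let M : Subgroup X :=
    { carrier := {g | g ∈ K₂ ∨ r⁻¹ * g ∈ K₂}
      one_mem' := Or.inl K₂.one_mem
      mul_mem' := by
        have hconj' : ∀ g ∈ K₂, r⁻¹ * g * r ∈ K₂ := fun g hg => by
          have := K₂.mul_mem (K₂.mul_mem (K₂.inv_mem hr2) (hrconj g hg)) hr2
          rwa [show (r * r)⁻¹ * (r * g * r⁻¹) * (r * r) = r⁻¹ * g * r by group] at this
        rintro g g' (hg | hg) (hg' | hg')
        · exact Or.inl (K₂.mul_mem hg hg')
        · refine Or.inr ?_
          have := K₂.mul_mem (hconj' g hg) hg'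
          rwa [show r⁻¹ * g * r * (r⁻¹ * g') = r⁻¹ * (g * g') by group] at this
        · refine Or.inr ?_
          rw [← mul_assoc]; exact K₂.mul_mem hg hg'
        · refine Or.inl ?_
          have := K₂.mul_mem (K₂.mul_mem (hrconj _ hg) hr2) hg'
          rwa [show r * (r⁻¹ * g) * r⁻¹ * (r * r) * (r⁻¹ * g') = g * g' by group] at this
      inv_mem' := by
        rintro g (hg | hg)
        · exact Or.inl (K₂.inv_mem hg)
        · refine Or.inr ?_
          have := K₂.mul_mem (K₂.inv_mem hr2) (hrconj _ (K₂.inv_mem hg))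
          rwa [show (r * r)⁻¹ * (r * (r⁻¹ * g)⁻¹ * r⁻¹) = r⁻¹ * g⁻¹ by group] at this }
  have hmemM : ∀ (c : ℤ), (D.t * k ^ c ∈ M ↔ Odd c) ∧ (D.t * (x * k ^ c) ∈ M ↔ Odd c) := by
    intro c
    have ht2 : ∀ y : X, D.t * y ∈ K₂ → y ∈ D.S → False := fun y h hy => D.tA (by
      obtain ⟨l, hl | hl⟩ := h <;> rw [eq_mul_inv_of_mul_eq hl]
      · exact D.A.mul_mem (D.A.zpow_mem hkS.2 _) (D.A.inv_mem hy.2)
      · exact D.A.mul_mem (D.A.mul_mem hx.2 (D.A.zpow_mem hkS.2 _)) (D.A.inv_mem hy.2))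
    have e1 : r⁻¹ * (D.t * k ^ c) = k ^ (c - 1) := by rw [hr]; group
    have e2 : r⁻¹ * (D.t * (x * k ^ c)) = x * k ^ ((-1 + 2 * q) * -1 + c) := by
      rw [hr, zpow_add, ← mul_assoc x, ← hkx]; group
    constructor
    · constructor
      · rintro (h | h)
        · exact absurd h fun h' => ht2 _ h' (D.S.zpow_mem hkS c)
        · obtain ⟨d, hd⟩ := (hmem _ (Or.inl e1)).1 h
          exact ⟨d, by linarith⟩
      · rintro ⟨d, rfl⟩
        exact Or.inr ((hmem _ (Or.inl e1)).2 ⟨d, by ring⟩)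
    · constructor
      · rintro (h | h)
        · exact absurd h fun h' => ht2 _ h' (D.S.mul_mem hx (D.S.zpow_mem hkS c))
        · obtain ⟨d, hd⟩ := (hmem _ (Or.inr e2)).1 h
          exact ⟨d + q - 1, by linarith⟩
      · rintro ⟨d, rfl⟩
        exact Or.inr ((hmem _ (Or.inr e2)).2 ⟨d + 1 - q, by ring⟩)
  have hMT : M ≤ D.T := by
    rintro g (hg | hg)
    · exact hK₂T hg
    · have := D.T.mul_mem hrT (hK₂T hg)
      rwa [mul_inv_cancel_left] at this
  have hidxM : (M.subgroupOf D.T).index = 2 := by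
    rw [index_eq_two_iff']
    refine ⟨⟨D.t, D.tT⟩, fun ⟨g, hg⟩ => ?_⟩
    simp only [mem_subgroupOf, Subgroup.coe_mul]
    have htM : D.t ∉ M := fun h => by
      have := (hmemM 0).1.1 (by simpa using h)
      simp at this
    have key : g ∈ M ∨ D.t * g ∈ M := by
      rcases D.mem_T_cases hg with h | h
      · obtain ⟨c, hc⟩ := hSel g h
        rcases Int.even_or_odd c with he | ho
        · exact Or.inl (Or.inl ((hmem c hc).2 he))
        · right
          rcases hc with rfl | rfl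
          exacts [(hmemM c).1.2 ho, (hmemM c).2.2 ho]
      · obtain ⟨c, hc⟩ := hSel _ h
        rcases Int.even_or_odd c with he | ho
        · exact Or.inr (Or.inl ((hmem c hc).2 he))
        · left
          have hg' : g = D.t * (D.t * g) := by rw [← mul_assoc, D.tt, one_mul]
          rw [hg']
          rcases hc with hc | hc <;> rw [hc]
          exacts [(hmemM c).1.2 ho, (hmemM c).2.2 ho]
    rcases key with h | h
    · refine Or.inr ⟨h, fun h' => htM ?_⟩
      simpa using M.mul_mem h' (M.inv_mem h)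
    · refine Or.inl ⟨h, fun h' => htM ?_⟩
      simpa using M.mul_mem h (M.inv_mem h')
  -- involutions outside `S`
  have hout : ∀ u ∈ D.T, u * u = 1 → u ∉ D.A →
      (u ∈ M ∧ ¬ D.Small u) ∨ (u ∉ M ∧ D.Small u) := by
    intro u hu huu huA
    have huS : D.t * u ∈ D.S := (D.mem_T_cases hu).resolve_left fun h => huA h.2
    obtain ⟨c, hc⟩ := hSel _ huS
    have hue : u = D.t * (D.t * u) := by rw [← mul_assoc, D.tt, one_mul]
    have hsmallP : ∀ g ∈ D.S, u * g = g * u → D.Small u → g * g = 1 → g = 1 ∨ g = D.z := by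
      intro g hg hgu hsm hgg
      by_contra hne
      push Not at hne
      obtain ⟨hP, -⟩ := hsm (D.S ⊓ centralizer ({u} : Set X)) (D.Sp.to_le inf_le_left)
        (inf_le_left.trans D.S_le_A) (fun p hp => (mem_centralizer_singleton_iff.1 hp.2).symm)
      haveI := hP
      have hzu : D.z ∈ D.S ⊓ centralizer ({u} : Set X) :=
        ⟨D.z_mem, mem_centralizer_singleton_iff.2 (D.z_central hu).symm⟩
      have hgm : g ∈ D.S ⊓ centralizer ({u} : Set X) :=
        ⟨hg, mem_centralizer_singleton_iff.2 hgu.symm⟩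
      have := Fintype.ofFinite ↥(D.S ⊓ centralizer ({u} : Set X))
      have hle := IsCyclic.card_pow_eq_one_le (α := ↥(D.S ⊓ centralizer ({u} : Set X))) (n := 2)
        (by norm_num)
      have hsub : ({1, ⟨g, hgm⟩, ⟨D.z, hzu⟩} : Finset ↥(D.S ⊓ centralizer ({u} : Set X))) ⊆
          Finset.univ.filter (fun w => w ^ 2 = 1) := by
        intro w hw
        simp only [Finset.mem_insert, Finset.mem_singleton] at hw
        rw [Finset.mem_filter]
        refine ⟨Finset.mem_univ _, ?_⟩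
        rcases hw with rfl | rfl | rfl
        · simp
        · exact Subtype.ext (by simpa [pow_two] using hgg)
        · exact Subtype.ext (by simpa [pow_two] using D.zz)
      have h3 := (Finset.card_le_card hsub).trans hle
      rw [Finset.card_insert_of_notMem (by simp [Subtype.ext_iff, Ne.symm hne.1, Ne.symm D.z_ne]),
        Finset.card_insert_of_notMem (by simp [Subtype.ext_iff, hne.2]), Finset.card_singleton]
        at h3
      omega
    rcases hc with hc | hc <;> rw [hue, hc]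
    · rw [hue, hc] at hsmallP
      rcases Int.even_or_odd c with ⟨c', rfl⟩ | ho
      · refine Or.inr ⟨fun h => (Int.not_even_iff_odd.2 ((hmemM _).1.1 h)) ⟨c', rfl⟩, ?_⟩
        set d := -c' * (1 + q * β) with hd
        have hconj : k ^ d * D.t * (k ^ d)⁻¹ = D.t * k ^ (c' + c') := by
          have h1 : k ^ d * D.t = D.t * k ^ ((-1 + 2 * q * β) * d) := by
            rw [← hbt d, ← mul_assoc, ← mul_assoc, D.tt, one_mul]
          rw [h1, mul_assoc, ← zpow_neg, ← zpow_add]
          congr 1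
          refine (keq _ _).2 ⟨-p * β * β * c', ?_⟩
          rw [hd, hp]; ring
        rw [← hconj]
        exact D.small_conj _ D.small
      · refine Or.inl ⟨(hmemM _).1.2 ho, fun hsm => ?_⟩
        have hβ0 : β = 0 := by
          refine hβ.resolve_right fun h => ?_
          rw [hue, hc, show D.t * k ^ c * (D.t * k ^ c) = D.t * k ^ c * D.t * k ^ c by group,
            hbt, ← zpow_add, ← zpow_zero k, keq, h] at huu
          obtain ⟨w, hw⟩ := huu
          obtain ⟨c', rfl⟩ := ho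
          have hq0 : (2 * q : ℤ) ≠ 0 := by rw [hq]; positivity
          have : (2 * c' + 1 : ℤ) = 2 * w := mul_left_cancel₀ hq0 (by linear_combination hw)
          omega
        obtain ⟨c', rfl⟩ := ho
        set d := i + (2 * c' + 1) - q * (2 * c' + 1) with hd
        obtain ⟨d', hd'⟩ : ∃ d', d = 2 * d' :=
          ⟨i₁ + c' + 1 - p * (2 * c' + 1), by rw [hd, hidef, hp]; ring⟩
        have hcomm : D.t * k ^ (2 * c' + 1) * (x * k ^ d) =
            x * k ^ d * (D.t * k ^ (2 * c' + 1)) := by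
          have h1 : x * k ^ d * D.t = D.t * (x * k ^ (i * (2 - 2 * q * β)) *
              k ^ ((-1 + 2 * q * β) * d)) := by
            rw [← hj, ← hbt d, ← D.tConj_mul, ← mul_assoc, ← mul_assoc, D.tt, one_mul]
          rw [← mul_assoc, mul_assoc D.t, hkx, ← mul_assoc (x * k ^ d), h1]
          simp only [mul_assoc, ← zpow_add, hβ0]
          congr 2
          refine (keq _ _).2 ⟨0, ?_⟩
          rw [hd]; ring
        rcases hsmallP _ (D.S.mul_mem hx (D.S.zpow_mem hkS d)) hcomm hsm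
            (by rw [hd']; exact hsqk d') with e | e
        · exact hxK (by
            rw [eq_inv_of_mul_eq_one_left e]; exact inv_mem (zpow_mem (mem_zpowers k) _))
        · exact hxK (by
            rw [eq_mul_inv_of_mul_eq e]
            exact mul_mem hzK (inv_mem (zpow_mem (mem_zpowers k) _)))
    · -- `u = t x k^c`
      have husq : k ^ ((-1 + 2 * q) * (i * (2 - 2 * q * β) + (-1 + 2 * q * β) * c) + c) = 1 := by
        have h1 : D.t * (x * k ^ c) * (D.t * (x * k ^ c)) = 1 := by rw [← hc, ← hue]; exact huu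
        rw [show D.t * (x * k ^ c) * (D.t * (x * k ^ c)) =
          (D.t * (x * k ^ c) * D.t) * (x * k ^ c) by group, D.tConj_mul, hj, hbt,
          mul_assoc x, ← zpow_add, show ∀ e : ℤ, x * k ^ e * (x * k ^ c) = x * (k ^ e * x) * k ^ c
            from fun e => by group, hkx, ← mul_assoc x x, hxx, one_mul, ← zpow_add] at h1
        exact h1
      obtain ⟨w, hw⟩ := (keq _ 0).1 (by rw [husq, zpow_zero])
      obtain ⟨c', rfl⟩ : Odd c := by
        rw [← Int.not_even_iff_odd]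
        rintro ⟨c', rfl⟩
        have e : ∃ N : ℤ, (-1 + 2 * q) * (i * (2 - 2 * q * β) + (-1 + 2 * q * β) * (c' + c')) +
            (c' + c') - 0 = -2 * i + 4 * N := by
          refine ⟨p * (i * (2 - 2 * q * β) + (-1 + 2 * q * β) * (c' + c')) + i * p * β +
            c' - p * β * (c' + c'), ?_⟩
          rw [hp]; ring
        obtain ⟨N, hN⟩ := e
        rw [hN, hidef] at hw
        have : 4 * q * w = 4 * (q * w) := by ring
        omega
      refine Or.inl ⟨(hmemM _).2.2 ⟨c', rfl⟩, fun hsm => ?_⟩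
      set u' := D.t * (x * k ^ (2 * c' + 1)) with hu'
      have hu'k : ∀ l : ℤ,
          u' * k ^ l * u'⁻¹ = k ^ ((-1 + 2 * q * β) * ((-1 + 2 * q) * l)) := by
        intro l
        rw [hu', show D.t * (x * k ^ (2 * c' + 1)) * k ^ l * (D.t * (x * k ^ (2 * c' + 1)))⁻¹ =
          D.t * (x * k ^ l * x⁻¹) * D.t⁻¹ by group, kpow ha, D.t_inv, hbt]
      have hcen : ∀ l : ℤ, k ^ ((-1 + 2 * q * β) * ((-1 + 2 * q) * l)) = k ^ l →
          u' * k ^ l = k ^ l * u' := fun l hl =>
        mul_inv_eq_iff_eq_mul.1 ((hu'k l).trans hl)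
      rcases hβ with rfl | rfl
      · have h2 : ∀ p' ∈ zpowers (k ^ (2 : ℤ)), u' * p' = p' * u' := by
          intro p' hp'
          obtain ⟨l, rfl⟩ := mem_zpowers_iff.1 hp'
          exact ((show Commute u' (k ^ (2 : ℤ)) from
            hcen 2 ((keq _ _).2 ⟨-1, by ring⟩)).zpow_right l).eq
        by_cases hp2 : 2 ≤ p
        · have hle : zpowers (k ^ (2 : ℤ)) ≤ D.S := zpowers_le.2 (D.S.zpow_mem hkS 2)
          obtain ⟨-, hcard⟩ := hsm _ (D.Sp.to_le hle) (hle.trans D.S_le_A) h2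
          rw [Nat.card_zpowers] at hcard
          have h8 : (k ^ (2 : ℤ)) ^ (orderOf (k ^ (2 : ℤ)) : ℤ) = 1 := by
            rw [zpow_natCast, pow_orderOf_eq_one]
          rw [← zpow_mul, ← zpow_zero k, keq] at h8
          have hpos : 0 < orderOf (k ^ (2 : ℤ)) := orderOf_pos _
          have := Int.le_of_dvd (by omega) h8
          omega
        · have hp1 : p = 1 := by
            have : (0 : ℤ) < q := by rw [hq]; positivity
            omega
          obtain ⟨d, hd⟩ : ∃ d : ℤ, 4 * d = -(2 * i + 2 * (2 * c' + 1)) :=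
            ⟨-(i₁ + c' + 1), by rw [hidef]; ring⟩
          have hq2 : q = 2 := by omega
          have hcomm : u' * (x * k ^ d) = x * k ^ d * u' := by
            refine mul_inv_eq_iff_eq_mul.1 ?_
            rw [hu', show D.t * (x * k ^ (2 * c' + 1)) * (x * k ^ d) *
              (D.t * (x * k ^ (2 * c' + 1)))⁻¹ = D.t * (x * (k ^ (2 * c' + 1) * x *
                k ^ d * (k ^ (2 * c' + 1))⁻¹) * x⁻¹) * D.t⁻¹ by group, hkx, ← zpow_neg,
              mul_assoc x (k ^ _) (k ^ d), ← zpow_add, mul_assoc x (k ^ _) (k ^ _), ← zpow_add,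
              ← mul_assoc x x, hxx, one_mul, hxi, hkx, D.t_inv, D.tConj_mul, hj, hbt,
              mul_assoc, ← zpow_add]
            congr 1
            refine (keq _ _).2 ?_
            rw [hq2]
            exact ⟨-(2 * c' + 1) - d, by linear_combination hd⟩
          have hle : zpowers (k ^ (2 : ℤ)) ⊔ zpowers (x * k ^ d) ≤
              D.S ⊓ centralizer ({u'} : Set X) :=
            sup_le (zpowers_le.2 ⟨D.S.zpow_mem hkS 2,
              mem_centralizer_singleton_iff.2 (h2 _ (mem_zpowers _)).symm⟩)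
              (zpowers_le.2 ⟨D.S.mul_mem hx (D.S.zpow_mem hkS d),
                mem_centralizer_singleton_iff.2 hcomm.symm⟩)
          obtain ⟨-, hcard⟩ := hsm (D.S ⊓ centralizer ({u'} : Set X)) (D.Sp.to_le inf_le_left)
            (inf_le_left.trans D.S_le_A) (fun p' hp' => (mem_centralizer_singleton_iff.1 hp'.2).symm)
          have ho4 : orderOf (k ^ (2 : ℤ)) = 4 := by
            refine orderOf_eq_prime_pow (p := 2) (n := 1) ?_ ?_
            · intro h
              rw [← zpow_natCast, ← zpow_mul, ← zpow_zero k, keq, hq2] at h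
              norm_num at h
            · rw [← zpow_natCast, ← zpow_mul, ← zpow_zero k, keq, hq2]
              norm_num
          have h5 : zpowers (k ^ (2 : ℤ)) = D.S ⊓ centralizer ({u'} : Set X) :=
            eq_of_le_of_card_ge (le_sup_left.trans hle) (by rw [Nat.card_zpowers, ho4]; exact hcard)
          have h6 : x * k ^ d ∈ zpowers (k ^ (2 : ℤ)) :=
            h5 ▸ hle (mem_sup_right (mem_zpowers _))
          apply hxK
          have h7 : zpowers (k ^ (2 : ℤ)) ≤ zpowers k := zpowers_le.2 (zpow_mem (mem_zpowers k) _)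
          have := mul_mem (h7 h6) (inv_mem (zpow_mem (mem_zpowers k) d))
          rwa [mul_inv_cancel_right] at this
      · have h2 : ∀ p' ∈ zpowers k, u' * p' = p' * u' := by
          intro p' hp'
          obtain ⟨l, rfl⟩ := mem_zpowers_iff.1 hp'
          exact hcen l ((keq _ _).2 ⟨(q - 1) * l, by ring⟩)
        have hle : zpowers k ≤ D.S := zpowers_le.2 hkS
        obtain ⟨-, hcard⟩ := hsm _ (D.Sp.to_le hle) (hle.trans D.S_le_A) h2
        rw [Nat.card_zpowers, hn] at hcard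
        have : 2 ^ 3 ≤ 2 ^ (m + 3) := Nat.pow_le_pow_right (by norm_num) (by omega)
        omega
  -- the involution `f`
  set l₀ := i * (1 - q * β) * (1 + q * (1 + β)) with hl₀
  set f := D.t * (x * k ^ l₀) with hfdef
  have hfT : f ∈ D.T := D.T.mul_mem D.tT (D.T.mul_mem hx.1 (D.T.zpow_mem hkS.1 _))
  have hfA : f ∉ D.A := fun h => D.tA (by
    have := D.A.mul_mem h (D.A.inv_mem (D.A.mul_mem hx.2 (D.A.zpow_mem hkS.2 l₀)))
    rwa [hfdef, mul_inv_cancel_right] at this)
  have hff : f * f = 1 := by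
    rw [hfdef, show D.t * (x * k ^ l₀) * (D.t * (x * k ^ l₀)) =
      (D.t * (x * k ^ l₀) * D.t) * (x * k ^ l₀) by group, D.tConj_mul, hj, hbt,
      mul_assoc x, ← zpow_add, show ∀ e : ℤ, x * k ^ e * (x * k ^ l₀) = x * (k ^ e * x) * k ^ l₀
        from fun e => by group, hkx, ← mul_assoc x x, hxx, one_mul, ← zpow_add, ← zpow_zero k,
      keq]
    refine ⟨i * (1 - q * β) * (1 - p * (1 + β * β) + q * q * β * (1 + β)), ?_⟩
    rw [hl₀, hp]; ring
  have hl₀odd : Odd l₀ := by
    refine ⟨i₁ + i * (p * (1 + β) - p * β * (1 + q * (1 + β))), ?_⟩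
    rw [hl₀, hp, hidef]; ring
  obtain ⟨hfM, hfbig⟩ : f ∈ M ∧ ¬ D.Small f := by
    rcases hout f hfT hff hfA with h | h
    · exact h
    · exact absurd ((hmemM _).2.2 hl₀odd) h.1
  -- transfer to `T / M`
  let φ : ↥D.T →* ℤˣ := MonoidHom.mk' (fun g => if g ∈ M.subgroupOf D.T then 1 else -1) (by
    intro g g'
    have h := mul_mem_iff_of_index_two hidxM (a := g) (b := g')
    by_cases h1 : g ∈ M.subgroupOf D.T <;> by_cases h2 : g' ∈ M.subgroupOf D.T <;>
      simp [h, h1, h2])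
  have hφM : ∀ g : ↥D.T, (g : X) ∈ M → φ g = 1 := fun g hg => if_pos (mem_subgroupOf.2 hg)
  have hφn : ∀ g : ↥D.T, (g : X) ∉ M → φ g = -1 := fun g hg =>
    if_neg fun h => hg (mem_subgroupOf.1 h)
  have hctrl : ∀ g : X, g * g = 1 → g ∉ D.A → (hgT : g ∈ D.T) →
      MonoidHom.transfer φ g = φ ⟨g, hgT⟩ ^ D.T.index := by
    intro g hgg hgA hgT
    refine Fusion.Thompson.transfer_controlled φ g hgT fun e a he => ?_
    obtain ⟨e', rfl | rfl⟩ := Nat.even_or_odd' e
    · have h1 : g ^ (2 * e') = 1 := by rw [pow_mul, pow_two, hgg, one_pow]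
      rw [pow_mul (φ _), ← map_pow, show (⟨g, hgT⟩ : ↥D.T) ^ 2 = 1 from
        Subtype.ext (by simp [pow_two, hgg]), map_one, one_pow]
      rw [show (⟨a * g ^ (2 * e') * a⁻¹, he⟩ : ↥D.T) = 1 from Subtype.ext (by
        show a * g ^ (2 * e') * a⁻¹ = 1
        rw [h1, mul_one, mul_inv_cancel]), map_one]
    · have h1 : g ^ (2 * e' + 1) = g := by rw [pow_succ, pow_mul, pow_two, hgg, one_pow, one_mul]
      rw [pow_succ (φ _), pow_mul, ← map_pow φ _ 2, show (⟨g, hgT⟩ : ↥D.T) ^ 2 = 1 from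
        Subtype.ext (by simp [pow_two, hgg]), map_one, one_pow, one_mul]
      have he' : a * g * a⁻¹ ∈ D.T := by rwa [h1] at he
      have e1 : (⟨a * g ^ (2 * e' + 1) * a⁻¹, he⟩ : ↥D.T) = ⟨a * g * a⁻¹, he'⟩ :=
        Subtype.ext (by show a * g ^ (2 * e' + 1) * a⁻¹ = a * g * a⁻¹; rw [h1])
      rw [e1]
      have hg'A : a * g * a⁻¹ ∉ D.A := fun h => hgA (by
        have := D.conjA' a h
        rwa [show a⁻¹ * (a * g * a⁻¹) * a = g by group] at this)
      have hg'g : a * g * a⁻¹ * (a * g * a⁻¹) = 1 := by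
        rw [show a * g * a⁻¹ * (a * g * a⁻¹) = a * (g * g) * a⁻¹ by group, hgg]; simp
      have hback : D.Small (a * g * a⁻¹) → D.Small g := fun h => by
        have := D.small_conj a⁻¹ h
        rwa [show a⁻¹ * (a * g * a⁻¹) * a⁻¹⁻¹ = g by group] at this
      rcases hout _ he' hg'g hg'A with h | h <;> rcases hout g hgT hgg hgA with h' | h'
      · rw [hφM _ h.1, hφM _ h'.1]
      · exact absurd (D.small_conj a h'.2) h.2
      · exact absurd (hback h.2) h'.2
      · rw [hφn _ h.1, hφn _ h'.1]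
  have htM : D.t ∉ M := fun h => by
    have := (hmemM 0).1.1 (by simpa using h)
    simp at this
  have h1 := hctrl D.t D.tt D.tA D.tT
  have h2 := hctrl f hff hfA hfT
  rw [hφn ⟨D.t, D.tT⟩ htM] at h1
  rw [hφM ⟨f, hfT⟩ hfM, one_pow] at h2
  have hodd : Odd D.T.index := by
    obtain ⟨Q, hQ⟩ := D.Tp.exists_le_sylow
    rw [← D.Tmax _ Q.2 hQ, ← Nat.not_even_iff_odd, even_iff_two_dvd]
    exact Q.not_dvd_index
  rw [hodd.neg_one_pow] at h1
  obtain ⟨ψ, hψ⟩ : ∃ ψ : X →* ℤˣ, ψ = MonoidHom.transfer φ := ⟨_, rfl⟩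
  rw [← hψ] at h1 h2
  clear hψ
  have hker : ∀ w ∈ D.A, ψ w = 1 := by
    intro w hw
    have h3 : commutator ↥D.A ≤ (ψ.comp D.A.subtype).ker :=
      Abelianization.commutator_subset_ker (ψ.comp D.A.subtype)
    exact h3 (D.perfect ▸ mem_top (⟨w, hw⟩ : ↥D.A))
  have h3 := hker (D.t * f) (by
    rw [hfdef, ← mul_assoc, D.tt, one_mul]
    exact D.A.mul_mem hx.2 (D.A.zpow_mem hkS.2 _))
  rw [map_mul, h1, h2, mul_one] at h3
  exact absurd h3 (by decide)

set_option maxHeartbeats 1600000 in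
/-- `S` has only one involution. -/
theorem unique_invol {x : X} (hx : x ∈ D.S) (hxx : x * x = 1) (hx1 : x ≠ 1) : x = D.z := by
  classical
  haveI : Fact (Nat.Prime 2) := ⟨Nat.prime_two⟩
  by_contra hxz
  have hzc : ∀ g ∈ D.T, g * D.z * g⁻¹ = D.z := fun g hg => by
    rw [D.z_central hg, mul_inv_cancel_right]
  -- a maximal invariant cyclic subgroup
  obtain ⟨K, ⟨hKS, hzK, hKc, hKn⟩, hKmax⟩ := Set.Finite.exists_maximalFor
    (fun K : Subgroup X => Nat.card K)
    {K : Subgroup X | K ≤ D.S ∧ D.z ∈ K ∧ IsCyclic K ∧ ∀ g ∈ D.T, ∀ y ∈ K, g * y * g⁻¹ ∈ K}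
    (Set.toFinite _) ⟨zpowers D.z, zpowers_le.2 D.z_mem, mem_zpowers _, inferInstance,
      fun g hg y hy => by
        obtain ⟨i, rfl⟩ := mem_zpowers_iff.1 hy
        rw [← conj_zpow, hzc g hg]; exact zpow_mem (mem_zpowers _) i⟩
  obtain ⟨k, rfl⟩ := K.isCyclic_iff_exists_zpowers_eq_top.1 hKc
  have hkS : k ∈ D.S := hKS (mem_zpowers k)
  obtain ⟨n, hn⟩ := IsPGroup.iff_orderOf.1 D.Sp ⟨k, hkS⟩
  rw [Subgroup.orderOf_mk] at hn
  have keq : ∀ i j : ℤ, k ^ i = k ^ j ↔ ((2 : ℤ) ^ n) ∣ i - j := fun i j => by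
    rw [zpow_eq_zpow_iff_modEq, hn, Int.modEq_iff_dvd, Nat.cast_pow, Nat.cast_ofNat,
      ← neg_sub i j, dvd_neg]
  have kact : ∀ g ∈ D.T, ∃ a : ℤ, g * k * g⁻¹ = k ^ a := fun g hg => by
    obtain ⟨a, ha⟩ := mem_zpowers_iff.1 (hKn g hg k (mem_zpowers k))
    exact ⟨a, ha.symm⟩
  have kpow : ∀ {g : X} {a : ℤ}, g * k * g⁻¹ = k ^ a → ∀ i : ℤ, g * k ^ i * g⁻¹ = k ^ (a * i) :=
    fun {g a} h i => by rw [← conj_zpow, h, ← zpow_mul]
  -- the involution of `⟨k⟩`
  have kinv : ∀ i : ℤ, k ^ (2 * i) = 1 → k ^ i = 1 ∨ k ^ i = D.z := by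
    intro i hi
    by_cases h1 : k ^ i = 1
    · exact Or.inl h1
    right
    obtain ⟨l, hl⟩ := mem_zpowers_iff.1 hzK
    have e1 : ((2 : ℤ) ^ n) ∣ 2 * i := by
      have := (keq (2 * i) 0).1 (by rw [hi, zpow_zero])
      simpa using this
    have e2 : ((2 : ℤ) ^ n) ∣ 2 * l := by
      have := (keq (2 * l) 0).1 (by rw [zpow_zero, mul_comm, zpow_mul, hl, zpow_two, D.zz])
      simpa using this
    have n1 : ¬ ((2 : ℤ) ^ n) ∣ i := fun h =>
      h1 (by rw [← zpow_zero k, keq]; simpa using h)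
    have n2 : ¬ ((2 : ℤ) ^ n) ∣ l := fun h =>
      D.z_ne (by rw [← hl, ← zpow_zero k, keq]; simpa using h)
    rw [← hl, keq]
    obtain ⟨n', rfl⟩ : ∃ n', n = n' + 1 := by
      rcases n with _ | n'
      · exact absurd (by simp) n1
      · exact ⟨n', rfl⟩
    rw [pow_succ'] at e1 e2 n1 n2 ⊢
    obtain ⟨c, rfl⟩ := Int.dvd_of_mul_dvd_mul_left (by norm_num) e1
    obtain ⟨c', rfl⟩ := Int.dvd_of_mul_dvd_mul_left (by norm_num) e2
    obtain ⟨d, hd⟩ : Odd c := by
      rw [← Int.not_even_iff_odd]; rintro ⟨d, rfl⟩; exact n1 ⟨d, by ring⟩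
    obtain ⟨d', hd'⟩ : Odd c' := by
      rw [← Int.not_even_iff_odd]; rintro ⟨d', rfl⟩; exact n2 ⟨d', by ring⟩
    exact ⟨d - d', by rw [hd, hd']; ring⟩
  have hxK : x ∉ zpowers k := fun h => by
    obtain ⟨i, hi⟩ := mem_zpowers_iff.1 h
    rcases kinv i (by rw [mul_comm, zpow_mul, hi, zpow_two, hxx]) with h' | h' <;> rw [hi] at h'
    exacts [hx1 h', hxz h']
  -- `K` is self-centralizing in `S`
  have hC : ∀ g ∈ D.S, g * k = k * g → g ∈ zpowers k := by
    by_contra hcon
    push Not at hcon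
    obtain ⟨g₀, hg₀, hg₀k, hg₀K⟩ := hcon
    set C := D.S ⊓ centralizer ({k} : Set X) with hCdef
    have hKC : zpowers k ≤ C :=
      zpowers_le.2 ⟨hkS, mem_centralizer_singleton_iff.2 rfl⟩
    obtain ⟨y, hyC, hyK, hyy, hyc⟩ := D.exists_step (N := C) (K := zpowers k)
      (inf_le_left.trans inf_le_left)
      (lt_of_le_of_ne hKC fun h => hg₀K (h.symm ▸ ⟨hg₀, mem_centralizer_singleton_iff.2 hg₀k⟩))
      (fun g hg a ha => ⟨D.conjS_mem hg ha.1, mem_centralizer_singleton_iff.2 (by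
        obtain ⟨e, he⟩ := kact g⁻¹ (D.T.inv_mem hg)
        rw [inv_inv] at he
        have hc : Commute a k := mem_centralizer_singleton_iff.1 ha.2
        have h2 := ((Commute.conj_iff g).2 (hc.zpow_right e))
        rwa [← he, show g * (g⁻¹ * k * g) * g⁻¹ = k by group] at h2)⟩)
      hKn
    obtain ⟨i, hi⟩ := mem_zpowers_iff.1 hyy
    have hyk : Commute y k := mem_centralizer_singleton_iff.1 hyC.2
    obtain ⟨i', rfl | rfl⟩ := Int.even_or_odd' i
    · set w := y * k ^ (-i') with hw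
      have hwK : w ∉ zpowers k := fun h => hyK (by
        have := (zpowers k).mul_mem h (zpow_mem (mem_zpowers k) i')
        rwa [hw, mul_assoc, ← zpow_add, neg_add_cancel, zpow_zero, mul_one] at this)
      have hww : w * w = 1 := by
        rw [hw, show y * k ^ (-i') * (y * k ^ (-i')) = y * (k ^ (-i') * y) * k ^ (-i') by group,
          ← (hyk.zpow_right (-i')).eq, ← mul_assoc, ← hi, mul_assoc, ← zpow_add, ← zpow_add]
        simp [two_mul]
      have hwS : w ∈ D.S := D.S.mul_mem hyC.1 (D.S.zpow_mem hkS _)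
      have hwk : Commute w k := hyk.mul_left ((Commute.refl k).zpow_left _)
      refine D.four_false hwS hww (fun h => hwK (h ▸ one_mem _)) (fun h => hwK (h ▸ hzK))
        fun g hg => ?_
      have h1 : g * w * g⁻¹ * w⁻¹ ∈ zpowers k := by
        obtain ⟨e, he⟩ := kact g hg
        rw [hw, show g * (y * k ^ (-i')) * g⁻¹ * (y * k ^ (-i'))⁻¹ =
          g * y * g⁻¹ * (g * k ^ (-i') * g⁻¹ * (k ^ (-i'))⁻¹) * y⁻¹ by group, kpow he,
          ← zpow_neg, ← zpow_add, show g * y * g⁻¹ * k ^ (e * -i' + - -i') * y⁻¹ =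
          g * y * g⁻¹ * y⁻¹ * (y * k ^ (e * -i' + - -i') * y⁻¹) by group,
          (hyk.zpow_right _).eq, mul_inv_cancel_right]
        exact mul_mem (hyc g hg) (zpow_mem (mem_zpowers k) _)
      obtain ⟨j, hj⟩ := mem_zpowers_iff.1 h1
      have hconjw : g * w * g⁻¹ = k ^ j * w := by rw [hj, inv_mul_cancel_right]
      have h2 : k ^ (2 * j) = 1 := by
        have h3 : g * w * g⁻¹ * (g * w * g⁻¹) = 1 := by
          rw [show g * w * g⁻¹ * (g * w * g⁻¹) = g * (w * w) * g⁻¹ by group, hww]; simp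
        rw [hconjw, show k ^ j * w * (k ^ j * w) = k ^ j * (w * k ^ j) * w by group,
          (hwk.zpow_right j).eq, show k ^ j * (k ^ j * w) * w = k ^ j * k ^ j * (w * w) by group,
          hww, mul_one, ← zpow_add, ← two_mul] at h3
        exact h3
      rw [hconjw]
      rcases kinv j h2 with h | h <;> rw [h]
      · exact Or.inl (one_mul w)
      · exact Or.inr (D.z_central hwS.1).symm
    · -- `⟨y⟩` is a larger invariant cyclic subgroup
      have hky : k ∈ zpowers y := by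
        have hco : IsCoprime (2 * i' + 1) ((2 : ℤ) ^ n) :=
          (show IsCoprime (2 * i' + 1) 2 from ⟨1, -i', by ring⟩).pow_right
        obtain ⟨p, q, hpq⟩ := hco
        have e : (k ^ (2 * i' + 1)) ^ p = k := by
          rw [← zpow_mul]
          conv_rhs => rw [← zpow_one k]
          rw [keq]
          exact ⟨-q, by linear_combination hpq⟩
        rw [← e, hi]
        exact zpow_mem (mul_mem (mem_zpowers y) (mem_zpowers y)) p
      have hKy : zpowers k ≤ zpowers y := zpowers_le.2 hky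
      have hle := hKmax (j := zpowers y) ⟨zpowers_le.2 hyC.1, hKy hzK, inferInstance,
        fun g hg a ha => by
          obtain ⟨l, rfl⟩ := mem_zpowers_iff.1 ha
          rw [← conj_zpow]
          refine zpow_mem ?_ l
          have := mul_mem (hKy (hyc g hg)) (mem_zpowers y)
          rwa [inv_mul_cancel_right] at this⟩ (Subgroup.card_le_of_le hKy)
      exact hyK ((eq_of_le_of_card_ge hKy hle).symm ▸ mem_zpowers y)
  obtain ⟨a₀, ha₀⟩ := kact x hx.1
  have hxi : x⁻¹ = x := inv_eq_of_mul_eq_one_right hxx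
  have hk2 : ∀ {g : X} {a : ℤ}, g * k * g⁻¹ = k ^ a → g * g ∈ zpowers k →
      k ^ (a * a) = k := by
    intro g a ha hgg
    obtain ⟨i, hi⟩ := mem_zpowers_iff.1 hgg
    rw [← kpow ha, ← ha, show g * (g * k * g⁻¹) * g⁻¹ = g * g * k * (g * g)⁻¹ by group, ← hi,
      ((Commute.refl k).zpow_left i).eq, mul_inv_cancel_right]
  have hn1 : 1 ≤ n := by
    by_contra h
    obtain rfl : n = 0 := by omega
    obtain ⟨l, hl⟩ := mem_zpowers_iff.1 hzK
    refine D.z_ne ?_
    rw [← hl, ← zpow_zero k, keq]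
    simp
  have hn2 : 2 ≤ n := by
    by_contra h
    obtain rfl : n = 1 := by omega
    have hxk : x * k = k * x := by
      refine mul_inv_eq_iff_eq_mul.1 ?_
      have h2 := (keq (a₀ * a₀) 1).1 (by rw [hk2 ha₀ (by rw [hxx]; exact one_mem _), zpow_one])
      rw [ha₀]
      conv_rhs => rw [← zpow_one k]
      rw [keq]
      simp only [pow_one] at h2 ⊢
      obtain ⟨d, rfl | rfl⟩ := Int.even_or_odd' a₀
      · exfalso
        obtain ⟨e, he⟩ := h2
        have : (2 * d) * (2 * d) = 2 * (2 * d * d) := by ring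
        omega
      · exact ⟨d, by ring⟩
    exact hxK (hC x hx hxk)
  by_cases hn3 : n = 2
  · subst hn3
    have hpm : ∀ {g : X}, g ∈ D.T → g * g ∈ zpowers k → g * k * g⁻¹ = k ∨ g * k * g⁻¹ = k⁻¹ := by
      intro g hg hgg
      obtain ⟨a, ha⟩ := kact g hg
      have h2 := (keq (a * a) 1).1 (by rw [hk2 ha hgg, zpow_one])
      obtain ⟨d, rfl | rfl⟩ := Int.even_or_odd' a
      · exfalso
        obtain ⟨e, he⟩ := h2
        have : (2 * d) * (2 * d) = 2 * (2 * d * d) := by ring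
        norm_num at he
        omega
      · rw [ha]
        obtain ⟨e, rfl | rfl⟩ := Int.even_or_odd' d
        · left
          conv_rhs => rw [← zpow_one k]
          exact (keq _ _).2 ⟨e, by ring⟩
        · right
          rw [← zpow_neg_one]
          exact (keq _ _).2 ⟨e + 1, by ring⟩
    have hxk : x * k * x⁻¹ = k⁻¹ := (hpm hx.1 (by rw [hxx]; exact one_mem _)).resolve_left fun h =>
      hxK (hC x hx (mul_inv_eq_iff_eq_mul.1 h))
    have hidx : ∀ g ∈ D.S, g ∈ zpowers k ∨ x * g ∈ zpowers k := by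
      intro g hg
      obtain ⟨a, ha⟩ := kact g hg.1
      obtain ⟨d, rfl | rfl⟩ := Int.even_or_odd' a
      · exfalso
        have h1 : g * (k * k) * g⁻¹ = 1 := by
          rw [show g * (k * k) * g⁻¹ = g * k * g⁻¹ * (g * k * g⁻¹) by group, ha, ← zpow_add,
            ← zpow_zero k, keq]
          exact ⟨d, by ring⟩
        have h2 : k ^ (2 : ℤ) = 1 := by rw [zpow_two]; exact conj_eq_one_iff.1 h1
        rw [← zpow_zero k, keq] at h2
        norm_num at h2
      · obtain ⟨e, rfl | rfl⟩ := Int.even_or_odd' d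
        · left
          refine hC g hg (mul_inv_eq_iff_eq_mul.1 ?_)
          rw [ha]
          conv_rhs => rw [← zpow_one k]
          exact (keq _ _).2 ⟨e, by ring⟩
        · right
          refine hC _ (D.S.mul_mem hx hg) (mul_inv_eq_iff_eq_mul.1 ?_)
          rw [show x * g * k * (x * g)⁻¹ = x * (g * k * g⁻¹) * x⁻¹ by group, ha, kpow (a := -1)
            (by rw [hxk, zpow_neg_one])]
          conv_rhs => rw [← zpow_one k]
          exact (keq _ _).2 ⟨-(e + 1), by ring⟩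
    have hxcase : ∀ {g : X} (i : ℤ), g = x * k ^ i → g * g = 1 := by
      rintro g i rfl
      rw [show x * k ^ i * (x * k ^ i) = x * k ^ i * x⁻¹ * (x * x) * k ^ i by group, hxx, mul_one,
        kpow (a := -1) (by rw [hxk, zpow_neg_one]), ← zpow_add]
      simp
    have hsK : D.s ∈ zpowers k := (hidx D.s D.s_mem).resolve_right fun h => by
      obtain ⟨i, hi⟩ := mem_zpowers_iff.1 h
      exact D.z_ne (hxcase i (by rw [hi, ← mul_assoc, hxx, one_mul]))
    have htk : D.t * k * D.t⁻¹ = k := by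
      refine (hpm D.tT (by rw [D.tt]; exact one_mem _)).resolve_right fun h => ?_
      obtain ⟨i, hi⟩ := mem_zpowers_iff.1 hsK
      have h1 := kpow (a := -1) (by rw [h, zpow_neg_one]) i
      rw [hi, D.t_inv, D.tConj_s, show -1 * i = -i by ring, zpow_neg, hi] at h1
      exact D.z_ne (eq_inv_iff_mul_eq_one.1 h1)
    refine D.four_false hx hxx hx1 hxz fun g hg => ?_
    have hS : ∀ g ∈ D.S, g * x * g⁻¹ = x ∨ g * x * g⁻¹ = x * D.z := by
      intro g hg
      have key : ∀ i : ℤ, k ^ i * x * (k ^ i)⁻¹ = x ∨ k ^ i * x * (k ^ i)⁻¹ = x * D.z := by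
        intro i
        have e : k ^ i * x * (k ^ i)⁻¹ = x * (k ^ (-(2 * i))) := by
          have h1 := kpow (a := -1) (by rw [hxk, zpow_neg_one]) i
          calc k ^ i * x * (k ^ i)⁻¹ = x * (x⁻¹ * k ^ i * x⁻¹⁻¹) * (k ^ i)⁻¹ := by group
            _ = x * (k ^ (-1 * i)) * (k ^ i)⁻¹ := by rw [inv_inv, hxi]; rw [hxi] at h1; rw [h1]
            _ = _ := by group
        rw [e]
        rcases kinv (-(2 * i)) ((zpow_zero k) ▸ (keq _ _).2 ⟨-i, by ring⟩) with h | h <;> rw [h]
        · exact Or.inl (mul_one x)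
        · exact Or.inr rfl
      rcases hidx g hg with h | h
      · obtain ⟨i, rfl⟩ := mem_zpowers_iff.1 h
        exact key i
      · obtain ⟨i, hi⟩ := mem_zpowers_iff.1 h
        have hg' : g = x * k ^ i := by rw [hi, ← mul_assoc, hxx, one_mul]
        rw [hg', show x * k ^ i * x * (x * k ^ i)⁻¹ = x * (k ^ i * x * (k ^ i)⁻¹) * x⁻¹ by group]
        rcases key i with h' | h' <;> rw [h']
        · left; group
        · right
          rw [show x * (x * D.z) * x⁻¹ = x * (x * D.z * x⁻¹) by group, hzc x hx.1]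
    have ht : D.t * x * D.t = x ∨ D.t * x * D.t = x * D.z := by
      rcases hidx _ (D.tConj_mem hx) with h | h
      · exfalso
        obtain ⟨i, hi⟩ := mem_zpowers_iff.1 h
        apply hxK
        rw [← D.tConj_tConj x, ← hi]
        have := kpow (a := 1) (by rw [htk, zpow_one]) i
        rw [D.t_inv] at this
        rw [this]; exact zpow_mem (mem_zpowers k) _
      · obtain ⟨i, hi⟩ := mem_zpowers_iff.1 h
        have htx : D.t * x * D.t = x * k ^ i := by rw [hi, ← mul_assoc, hxx, one_mul]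
        have h2 : k ^ (2 * i) = 1 := by
          have h3 := D.tConj_tConj x
          have h4 := kpow (a := 1) (by rw [htk, zpow_one]) i
          rw [D.t_inv] at h4
          rw [htx, D.tConj_mul, htx, h4, one_mul, mul_assoc, ← zpow_add, mul_eq_left] at h3
          rw [two_mul]; exact h3
        rw [htx]
        rcases kinv i h2 with h' | h' <;> rw [h']
        · exact Or.inl (mul_one x)
        · exact Or.inr rfl
    rcases D.mem_T_cases hg with h | h
    · exact hS g h
    · have hgt : g = D.t * (D.t * g) := by rw [← mul_assoc, D.tt, one_mul]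
      rw [hgt, show D.t * (D.t * g) * x * (D.t * (D.t * g))⁻¹ =
        D.t * (D.t * g * x * (D.t * g)⁻¹) * D.t⁻¹ by group, D.t_inv]
      rcases hS _ h with h' | h' <;> rw [h']
      · exact ht
      · rw [D.tConj_mul, D.tConj_z]
        rcases ht with h'' | h'' <;> rw [h'']
        · exact Or.inr rfl
        · left; rw [mul_assoc, D.zz, mul_one]
  obtain ⟨m, rfl⟩ : ∃ m, n = m + 3 := ⟨n - 3, by omega⟩
  obtain ⟨q, hq⟩ : ∃ q : ℤ, q = 2 ^ (m + 1) := ⟨_, rfl⟩
  obtain ⟨p, hp⟩ : ∃ p : ℤ, q = 2 * p := ⟨2 ^ m, by rw [hq, pow_succ']⟩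
  have hM : ((2 : ℤ) ^ (m + 3)) = 4 * q := by rw [hq]; ring
  have hM2 : ((2 : ℤ) ^ (m + 2)) = 2 * q := by rw [hq]; ring
  rw [hM] at keq
  have hz' : ∀ l : ℤ, k ^ (2 * q * l) = 1 ∨ k ^ (2 * q * l) = D.z := fun l =>
    kinv _ ((zpow_zero k) ▸ (keq _ _).2 ⟨l, by ring⟩)
  -- automorphisms congruent to one modulo four
  let S₁ : Submonoid X :=
    { carrier := {g | g ∈ D.S ∧ ∃ a : ℤ, g * k * g⁻¹ = k ^ (4 * a + 1)}
      one_mem' := ⟨D.S.one_mem, 0, by simp⟩
      mul_mem' := by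
        rintro g g' ⟨hg, a, ha⟩ ⟨hg', a', ha'⟩
        refine ⟨D.S.mul_mem hg hg', 4 * a * a' + a + a', ?_⟩
        rw [show g * g' * k * (g * g')⁻¹ = g * (g' * k * g'⁻¹) * g⁻¹ by group, ha', kpow ha]
        congr 1; ring }
  let S₁' : Subgroup X :=
    { S₁ with
      inv_mem' := fun {g} hg => by
        have h : g ^ (orderOf g - 1) ∈ S₁ := S₁.pow_mem hg _
        have e : g⁻¹ = g ^ (orderOf g - 1) := by
          refine inv_eq_of_mul_eq_one_right ?_
          rw [← pow_succ', Nat.sub_add_cancel (orderOf_pos g), pow_orderOf_eq_one]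
        rwa [← e] at h }
  have hKS₁ : zpowers k ≤ S₁' := zpowers_le.2 ⟨hkS, 0, by simp⟩
  by_cases hS₁ : zpowers k < S₁'
  · obtain ⟨y, hyS₁, hyK, hyy, hyc⟩ := D.exists_step (N := S₁') (K := zpowers k)
      (fun g hg => hg.1.1) hS₁
      (fun g hg a ha => ⟨D.conjS_mem hg ha.1, by
        obtain ⟨-, e, he⟩ := ha
        obtain ⟨c, hc⟩ := kact g⁻¹ (D.T.inv_mem hg)
        rw [inv_inv] at hc
        refine ⟨e, ?_⟩
        rw [show g * a * g⁻¹ * k * (g * a * g⁻¹)⁻¹ = g * (a * (g⁻¹ * k * g) * a⁻¹) * g⁻¹ by group,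
          hc, kpow he, mul_comm, zpow_mul, ← conj_zpow, ← hc,
          show g * (g⁻¹ * k * g) * g⁻¹ = k by group]⟩)
      hKn
    obtain ⟨hyS, e, he⟩ := hyS₁
    have h1 := (keq _ _).1 (show k ^ ((4 * e + 1) * (4 * e + 1)) = k ^ (1 : ℤ) by
      rw [hk2 he hyy, zpow_one])
    obtain ⟨c, hc⟩ : (2 * q) ∣ 4 * e := by
      rw [← hM] at h1
      rw [← hM2]
      rcases sq_one_cases h1 with h | h
      · simpa using h
      · exfalso
        have h4 : (4 : ℤ) ∣ 2 ^ (m + 2) := ⟨2 ^ m, by ring⟩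
        obtain ⟨w, hw⟩ := h4.trans h
        omega
    obtain ⟨c', rfl | rfl⟩ := Int.even_or_odd' c
    · refine hyK (hC y hyS (mul_inv_eq_iff_eq_mul.1 ?_))
      rw [he]
      conv_rhs => rw [← zpow_one k]
      exact (keq _ _).2 ⟨c', by linear_combination hc⟩
    have he' : y * k * y⁻¹ = k ^ (1 + 2 * q) := by
      rw [he]; exact (keq _ _).2 ⟨c', by linear_combination hc⟩
    obtain ⟨i, hi⟩ := mem_zpowers_iff.1 hyy
    obtain ⟨i', rfl⟩ : ∃ i', i = 2 * i' := by
      have h2 : k ^ ((1 + 2 * q) * i) = k ^ i := by rw [← kpow he', hi]; group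
      obtain ⟨w, hw⟩ := (keq _ _).1 h2
      refine ⟨w, mul_left_cancel₀ (show (2 * q : ℤ) ≠ 0 by rw [hq]; positivity) ?_⟩
      linear_combination hw
    set l := -i' * (1 + q) with hl
    set w := y * k ^ l with hw
    have hwS : w ∈ D.S := D.S.mul_mem hyS (D.S.zpow_mem hkS _)
    have hwk : w * k * w⁻¹ = k ^ (1 + 2 * q) := by
      rw [hw, show y * k ^ l * k * (y * k ^ l)⁻¹ = y * (k ^ l * k * (k ^ l)⁻¹) * y⁻¹ by group,
        ((Commute.refl k).zpow_left l).eq, mul_inv_cancel_right, he']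
    have hwK : w ∉ zpowers k := fun h => hyK (by
      have := (zpowers k).mul_mem h (zpow_mem (mem_zpowers k) (-l))
      rwa [hw, mul_assoc, ← zpow_add, add_neg_cancel, zpow_zero, mul_one] at this)
    have hww : w * w = 1 := by
      rw [hw, show y * k ^ l * (y * k ^ l) = y * k ^ l * y⁻¹ * (y * y) * k ^ l by group,
        kpow he', ← hi, ← zpow_add, ← zpow_add, ← zpow_zero k, keq]
      exact ⟨-i' * p - i', by rw [hl, hp]; ring⟩
    refine D.four_false hwS hww (fun h => hwK (h ▸ one_mem _)) (fun h => hwK (h ▸ hzK))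
      fun g hg => ?_
    obtain ⟨j, hj⟩ : ∃ j : ℤ, k ^ j = g * w * g⁻¹ * w⁻¹ := by
      refine mem_zpowers_iff.1 ?_
      obtain ⟨c, hc'⟩ := kact g hg
      rw [hw, show g * (y * k ^ l) * g⁻¹ * (y * k ^ l)⁻¹ =
        g * y * g⁻¹ * y⁻¹ * (y * (g * k ^ l * g⁻¹ * (k ^ l)⁻¹) * y⁻¹) by group, kpow hc',
        ← zpow_neg, ← zpow_add, kpow he']
      exact mul_mem (hyc g hg) (zpow_mem (mem_zpowers k) _)
    have hconjw : g * w * g⁻¹ = k ^ j * w := by rw [hj, inv_mul_cancel_right]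
    have h3 : k ^ (j + (1 + 2 * q) * j) = 1 := by
      have h3 : g * w * g⁻¹ * (g * w * g⁻¹) = 1 := by
        rw [show g * w * g⁻¹ * (g * w * g⁻¹) = g * (w * w) * g⁻¹ by group, hww]; simp
      rw [hconjw, show k ^ j * w * (k ^ j * w) = k ^ j * (w * k ^ j * w⁻¹) * (w * w) by group,
        hww, mul_one, kpow hwk, ← zpow_add] at h3
      exact h3
    obtain ⟨d, hd⟩ := (keq _ 0).1 (by rw [h3, zpow_zero])
    obtain ⟨j', rfl⟩ : ∃ j', j = 2 * q * j' := by
      refine ⟨d * (1 + q) - j * (1 + p), ?_⟩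
      have h4 : j * (1 + q) = 2 * q * d := mul_left_cancel₀ (two_ne_zero (α := ℤ))
        (by linear_combination hd)
      linear_combination (1 + q) * h4 + (-q * j) * hp
    rw [hconjw]
    rcases hz' j' with h | h <;> rw [h]
    · exact Or.inl (one_mul w)
    · exact Or.inr (D.z_central hwS.1).symm
  have hS₁' : ∀ g ∈ S₁', g ∈ zpowers k := fun g hg => by
    rw [eq_of_le_of_not_lt hKS₁ hS₁]; exact hg
  -- the action of `x`
  obtain ⟨a, ha, hav⟩ : ∃ a : ℤ, x * k * x⁻¹ = k ^ a ∧ (a = -1 ∨ a = -1 + 2 * q) := by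
    have h1 := (keq _ _).1 (show k ^ (a₀ * a₀) = k ^ (1 : ℤ) by
      rw [hk2 ha₀ (by rw [hxx]; exact one_mem _), zpow_one])
    rw [← hM] at h1
    rcases sq_one_cases h1 with h | h <;> rw [hM2] at h
    · exfalso
      obtain ⟨c, hc⟩ := h
      refine hxK (hS₁' x ⟨hx, p * c, ?_⟩)
      rw [ha₀, show a₀ = 4 * (p * c) + 1 by rw [hp] at hc; linear_combination hc]
    · obtain ⟨c, hc⟩ := h
      obtain ⟨c', rfl | rfl⟩ := Int.even_or_odd' c
      · refine ⟨-1, ?_, Or.inl rfl⟩
        rw [ha₀]; exact (keq _ _).2 ⟨c', by linear_combination hc⟩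
      · refine ⟨-1 + 2 * q, ?_, Or.inr rfl⟩
        rw [ha₀]; exact (keq _ _).2 ⟨c', by linear_combination hc⟩
  have hidx : ∀ g ∈ D.S, g ∈ zpowers k ∨ x * g ∈ zpowers k := by
    intro g hg
    obtain ⟨e, he⟩ := kact g hg.1
    obtain ⟨e', rfl | rfl⟩ := Int.even_or_odd' e
    · exfalso
      obtain ⟨c, hc⟩ := kact g⁻¹ (D.T.inv_mem hg.1)
      have h1 := kpow he c
      rw [← hc, inv_inv, show g * (g⁻¹ * k * g) * g⁻¹ = k by group] at h1
      obtain ⟨w, hw⟩ := (keq 1 (2 * e' * c)).1 (by rw [zpow_one]; exact h1)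
      have e2 : 2 * e' * c = 2 * (e' * c) := by ring
      have e3 : 4 * q * w = 4 * (q * w) := by ring
      omega
    obtain ⟨e'', rfl | rfl⟩ := Int.even_or_odd' e'
    · exact Or.inl (hS₁' g ⟨hg, e'', by rw [he]; congr 1; ring⟩)
    · right
      refine hS₁' _ ⟨D.S.mul_mem hx hg, ?_⟩
      rw [show x * g * k * (x * g)⁻¹ = x * (g * k * g⁻¹) * x⁻¹ by group, he, kpow ha]
      rcases hav with rfl | rfl
      · exact ⟨-(e'' + 1), by congr 1; ring⟩
      · exact ⟨-(e'' + 1) + p * (4 * e'' + 3), by congr 1; rw [hp]; ring⟩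
  -- the action of `t`
  obtain ⟨b, hb, hbv⟩ : ∃ b : ℤ, D.t * k * D.t⁻¹ = k ^ b ∧
      (b = 1 ∨ b = 1 + 2 * q ∨ b = -1 ∨ b = -1 + 2 * q) := by
    obtain ⟨b₀, hb₀⟩ := kact D.t D.tT
    have h1 := (keq _ _).1 (show k ^ (b₀ * b₀) = k ^ (1 : ℤ) by
      rw [hk2 hb₀ (by rw [D.tt]; exact one_mem _), zpow_one])
    rw [← hM] at h1
    rcases sq_one_cases h1 with h | h <;> rw [hM2] at h <;> obtain ⟨c, hc⟩ := h <;>
      obtain ⟨c', rfl | rfl⟩ := Int.even_or_odd' c
    · exact ⟨1, hb₀.trans ((keq _ _).2 ⟨c', by linear_combination hc⟩), Or.inl rfl⟩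
    · exact ⟨1 + 2 * q, hb₀.trans ((keq _ _).2 ⟨c', by linear_combination hc⟩), Or.inr (Or.inl rfl)⟩
    · exact ⟨-1, hb₀.trans ((keq _ _).2 ⟨c', by linear_combination hc⟩), Or.inr (Or.inr (Or.inl rfl))⟩
    · exact ⟨-1 + 2 * q, hb₀.trans ((keq _ _).2 ⟨c', by linear_combination hc⟩),
        Or.inr (Or.inr (Or.inr rfl))⟩
  have hbt : ∀ i : ℤ, D.t * k ^ i * D.t = k ^ (b * i) := fun i => by
    have := kpow hb i; rwa [D.t_inv] at this
  obtain ⟨j, htx⟩ : ∃ j : ℤ, D.t * x * D.t = x * k ^ j := by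
    rcases hidx _ (D.tConj_mem hx) with h | h
    · exfalso
      obtain ⟨i, hi⟩ := mem_zpowers_iff.1 h
      apply hxK
      rw [← D.tConj_tConj x, ← hi, hbt]
      exact zpow_mem (mem_zpowers k) _
    · obtain ⟨i, hi⟩ := mem_zpowers_iff.1 h
      exact ⟨i, by rw [hi, ← mul_assoc, hxx, one_mul]⟩
  have hpows : ∀ i : ℤ, D.t * k ^ i = k ^ i * D.t → k ^ (4 * i) = 1 := by
    intro i hi
    rcases D.zpowers_s_cases (D.fixed_mem (D.S.zpow_mem hkS i) hi) with h | h | h | h <;>
      rw [show 4 * i = i + i + (i + i) by ring, zpow_add, zpow_add, h]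
    · simp
    · exact D.zz
    · rw [D.zz]; simp
    · rw [show D.s * D.z * (D.s * D.z) = D.s * (D.z * D.s) * D.z by group,
        ← D.z_central D.sT, show D.s * (D.s * D.z) * D.z = D.z * (D.z * D.z) by
          rw [Setup.z]; group, D.zz, mul_one, D.zz]
  rcases hidx D.s D.s_mem with hs | hs
  · -- `s ∈ ⟨k⟩`
    obtain ⟨i, hi⟩ := mem_zpowers_iff.1 hs
    have hbi : k ^ (b * i) = k ^ i := by rw [← hbt, hi, D.tConj_s]
    have hi2 : ¬ (4 * q) ∣ 2 * i := fun h => D.z_ne (by
      rw [Setup.z, ← hi, ← zpow_add, ← two_mul, ← zpow_zero k, keq]; simpa using h)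
    obtain ⟨w, hw⟩ := (keq _ _).1 hbi
    have hb1 : b = 1 ∨ b = 1 + 2 * q := by
      rcases hbv with h | h | h | h
      · exact Or.inl h
      · exact Or.inr h
      · exfalso; apply hi2; exact ⟨-w, by rw [h] at hw; linear_combination -hw⟩
      · exfalso
        apply hi2
        rw [h] at hw
        obtain ⟨i', hi'⟩ : ∃ i', i = 2 * i' := ⟨p * i - 2 * p * w, by
          have h4 : i * (q - 1) = 2 * q * w := mul_left_cancel₀ (two_ne_zero (α := ℤ))
            (by linear_combination hw)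
          rw [hp] at h4; linear_combination -h4⟩
        exact ⟨i' - w, by rw [hi'] at hw ⊢; linear_combination -hw⟩
    rcases hb1 with rfl | rfl
    · have h1 := hpows 1 (D.tConj_eq_iff.1 (by rw [hbt, one_mul]))
      rw [← zpow_zero k, keq] at h1
      obtain ⟨d, hd⟩ := h1
      rw [hp] at hd
      have : 4 * (2 * p) * d = 8 * (p * d) := by ring
      omega
    · have h1 := hpows 2 (D.tConj_eq_iff.1 (by
        rw [hbt]; exact (keq _ _).2 ⟨1, by ring⟩))
      rw [← zpow_zero k, keq] at h1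
      have hq2 : q = 2 := by
        have := Int.le_of_dvd (by norm_num) h1
        rw [hp] at this ⊢
        have : 0 < p := by
          have : (0 : ℤ) < q := by rw [hq]; positivity
          omega
        omega
      subst hq2
      have h2 : k ^ ((1 + 2 * 2) * j + j) = 1 := by
        have h3 := D.tConj_tConj x
        rw [htx, D.tConj_mul, htx, hbt, mul_assoc, mul_eq_left, ← zpow_add] at h3
        rw [add_comm]; exact h3
      obtain ⟨d, hd⟩ := (keq _ 0).1 (by rw [h2, zpow_zero])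
      obtain ⟨j', rfl | rfl⟩ : ∃ j', j = 8 * j' ∨ j = 8 * j' + 4 := ⟨j / 8, by omega⟩
      · refine hxz (D.fixed_invol hx (D.tConj_eq_iff.1 ?_) hxx hx1)
        rw [htx, show k ^ (8 * j') = k ^ (0 : ℤ) from (keq _ _).2 ⟨j', by ring⟩, zpow_zero, mul_one]
      · have hfix : D.t * (x * k) * D.t = x * k := by
          have hk1 : D.t * k * D.t = k ^ (1 + 2 * (2 : ℤ)) := by
            have := hbt 1; rwa [zpow_one, mul_one] at this
          rw [D.tConj_mul, htx, hk1, mul_assoc, ← zpow_add]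
          congr 1
          conv_rhs => rw [← zpow_one k]
          exact (keq _ _).2 ⟨j' + 1, by ring⟩
        apply hxK
        have hmem : x * k ∈ zpowers k :=
          (zpowers_le.2 hs) (D.fixed_mem (D.S.mul_mem hx hkS) (D.tConj_eq_iff.1 hfix))
        have := mul_mem hmem (inv_mem (mem_zpowers k))
        rwa [mul_inv_cancel_right] at this
  · -- `S` is semidihedral and `s ∉ ⟨k⟩`
    obtain ⟨i, hi⟩ := mem_zpowers_iff.1 hs
    have hsx : D.s = x * k ^ i := by rw [hi, ← mul_assoc, hxx, one_mul]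
    have hsqx : ∀ l : ℤ, x * k ^ l * (x * k ^ l) = k ^ (a * l + l) := fun l => by
      rw [show x * k ^ l * (x * k ^ l) = x * k ^ l * x⁻¹ * (x * x) * k ^ l by group, kpow ha, hxx,
        mul_one, ← zpow_add]
    have ha2 : a = -1 + 2 * q := hav.resolve_left fun h => D.z_ne (by
      rw [Setup.z, hsx, hsqx, h]; simp)
    subst ha2
    obtain ⟨i₁, rfl⟩ : Odd i := by
      rw [← Int.not_even_iff_odd]
      rintro ⟨i', rfl⟩
      apply D.z_ne
      rw [Setup.z, hsx, hsqx, ← zpow_zero k, keq]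
      exact ⟨i', by ring⟩
    obtain ⟨β, hβ, rfl⟩ : ∃ β : ℤ, (β = 0 ∨ β = 1) ∧ b = -1 + 2 * q * β := by
      rcases hbv with h | h | h | h
      iterate 2
        exfalso
        have h1 := D.fixed_mem (D.S.zpow_mem hkS q) (D.tConj_eq_iff.1 (by
          rw [hbt]
          refine (keq _ _).2 ?_
          by_cases hb1 : b = 1
          · exact ⟨0, by rw [hb1]; ring⟩
          · refine ⟨p, ?_⟩
            rw [show b = 1 + 2 * q by first | exact h | exact absurd h hb1, hp]
            ring))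
        rcases D.zpowers_s_cases h1 with e | e | e | e
        · obtain ⟨d, hd⟩ := (keq q 0).1 (by rw [e, zpow_zero])
          have hq0 : q ≠ 0 := by rw [hq]; positivity
          have : (1 : ℤ) = 4 * d := mul_left_cancel₀ hq0 (by linear_combination hd)
          omega
        · exact hxK (by
            have : x = k ^ q * (k ^ (2 * i₁ + 1))⁻¹ := by rw [e, hsx, mul_inv_cancel_right]
            rw [this]; exact mul_mem (zpow_mem (mem_zpowers k) _) (inv_mem (zpow_mem (mem_zpowers k) _)))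
        · have h2 : k ^ (q + q) = 1 := by rw [zpow_add, e, D.zz]
          obtain ⟨d, hd⟩ := (keq (q + q) 0).1 (by rw [h2, zpow_zero])
          have hq0 : q ≠ 0 := by rw [hq]; positivity
          have : (2 : ℤ) = 4 * d := mul_left_cancel₀ hq0 (by linear_combination hd)
          omega
        · exact hxK (by
            have h2 : x = k ^ q * D.z⁻¹ * (k ^ (2 * i₁ + 1))⁻¹ := by
              rw [e, mul_inv_cancel_right, hsx, mul_inv_cancel_right]
            rw [h2]
            exact mul_mem (mul_mem (zpow_mem (mem_zpowers k) _) (inv_mem hzK))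
              (inv_mem (zpow_mem (mem_zpowers k) _)))
      · exact ⟨0, Or.inl rfl, by rw [h]; ring⟩
      · exact ⟨1, Or.inr rfl, by rw [h]; ring⟩
    set i := 2 * i₁ + 1 with hidef
    obtain ⟨j₁, rfl, hj⟩ : ∃ j₁ : ℤ, j₁ = i * (2 - 2 * q * β) ∧ D.t * x * D.t = x * k ^ j₁ := by
      refine ⟨_, rfl, ?_⟩
      have h1 := D.tConj_s
      rw [hsx, D.tConj_mul, htx, hbt, mul_assoc, mul_right_inj, ← zpow_add] at h1
      obtain ⟨d, hd⟩ := (keq _ _).1 h1
      rw [htx]; congr 1
      exact (keq _ _).2 ⟨d, by linear_combination hd⟩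
    clear htx
    exact D.semidihedral_false hq hp hx hxx hxK hkS hn keq hzK ha hβ hbt hj hidx

end Setup

end Cfsg.Agent.Lib.InvFourCyclic
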